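import Cfsg.Agent.H533.T5.Defs

/-!
# The middle pair predicate (powers allowed)

`MPair p S c d` : for some `S`-conjugate `d'` of `d` and some `i`, `j`, no `p`-power of
`c ^ i * d' ^ j` is trivial.  It implies `WPair p S c d`, and it is what is needed for S2275
(where all `c ^ i * d ^ j` are assumed to be `p`-elements).
-/

set_option autoImplicit false

namespace Cfsg.Agent.H957.T5M

open Cfsg.Agent.H533.T5

variable {G : Type*} [Group G] {H : Type*} [Group H]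

/-- For some `S`-conjugate `d'` of `d` and some `i`, `j`, the element `c ^ i * d' ^ j` does not
have `p`-power order. -/
def MPair (p : ℕ) (S : Subgroup G) (c d : G) : Prop :=
  ∃ g ∈ S, ∃ i j : ℕ, ∀ k : ℕ, (c ^ i * (g * d * g⁻¹) ^ j) ^ p ^ k ≠ 1

/-- The row of the middle predicate. -/
def MRow (p : ℕ) (S : Type*) [Group S] : Prop :=
  ∀ c d : MulAut S, orderOf c = p → orderOf d = p →
    MPair p (MulAut.conj : S →* MulAut S).range c d

variable {p : ℕ} {S T : Subgroup G} {c d : G}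

theorem MPair.mono (h : MPair p S c d) (hST : S ≤ T) : MPair p T c d := by
  obtain ⟨g, hg, h⟩ := h
  exact ⟨g, hST hg, h⟩

theorem MPair.weak (h : MPair p S c d) : WPair p S c d := by
  obtain ⟨g, hg, i, j, h⟩ := h
  refine ⟨g, hg, fun hP => ?_⟩
  have h1 : c ^ i * (g * d * g⁻¹) ^ j ∈ Subgroup.closure ({c, g * d * g⁻¹} : Set G) :=
    mul_mem (pow_mem (Subgroup.subset_closure (by simp)) _)
      (pow_mem (Subgroup.subset_closure (by simp)) _)
  obtain ⟨k, hk⟩ := hP ⟨_, h1⟩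
  exact h k (congrArg Subtype.val hk)

theorem MRow.weak {S : Type*} [Group S] {p : ℕ} (h : MRow p S) : WRow p S :=
  fun c d hc hd => (h c d hc hd).weak

theorem MPair.not_pow (h : MPair p S c d) : ∃ g ∈ S, ∃ i j : ℕ,
    ¬ ∃ k : ℕ, orderOf (c ^ i * (g * d * g⁻¹) ^ j) = p ^ k := by
  obtain ⟨g, hg, i, j, h⟩ := h
  refine ⟨g, hg, i, j, ?_⟩
  rintro ⟨k, hk⟩
  exact h k (by rw [← hk, pow_orderOf_eq_one])

theorem SPair.middle (hp : p.Prime) (h : SPair p S c d) : MPair p S c d := by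
  obtain ⟨-, ⟨g, hg, h⟩⟩ := h
  refine ⟨g, hg, 1, 1, fun k hk => h ?_⟩
  rw [pow_one, pow_one] at hk
  obtain ⟨i, -, hi⟩ := (Nat.dvd_prime_pow hp).1 (orderOf_dvd_of_pow_eq_one hk)
  exact ⟨i, hi⟩

theorem MPair.of_hom (φ : G →* H) {S : Subgroup G} {T : Subgroup H} (hT : T ≤ S.map φ) {c d : G}
    (h : MPair p T (φ c) (φ d)) : MPair p S c d := by
  obtain ⟨t, ht, i, j, h⟩ := h
  obtain ⟨g, hg, rfl⟩ := hT ht
  refine ⟨g, hg, i, j, fun k hk => h k ?_⟩
  have := congrArg φ hk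
  simpa using this

theorem MPair.of_injective (φ : G →* H) (hφ : Function.Injective φ) {S : Subgroup G} {c d : G}
    (h : MPair p S c d) : MPair p (S.map φ) (φ c) (φ d) := by
  obtain ⟨g, hg, i, j, h⟩ := h
  refine ⟨φ g, Subgroup.mem_map_of_mem φ hg, i, j, fun k hk => h k (hφ ?_)⟩
  rw [map_one, ← hk]
  simp

theorem MPair.of_subgroup {M S : Subgroup G} {c d : M} (h : MPair p (S.subgroupOf M) c d) :
    MPair p S (c : G) (d : G) :=
  (h.of_injective M.subtype M.subtype_injective).mono (by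
    rw [Subgroup.subgroupOf_map_subtype]; exact inf_le_left)

theorem MPair.of_section {M S : Subgroup G} (φ : M →* H) {T : Subgroup H}
    (hT : T ≤ (S.subgroupOf M).map φ) {c d : M} (h : MPair p T (φ c) (φ d)) :
    MPair p S (c : G) (d : G) :=
  (h.of_hom φ hT).of_subgroup

theorem MPair.conj_right {s : G} (hs : s ∈ S) (h : MPair p S c (s * d * s⁻¹)) :
    MPair p S c d := by
  obtain ⟨g, hg, i, j, h⟩ := h
  refine ⟨g * s, mul_mem hg hs, i, j, ?_⟩
  have : g * s * d * (g * s)⁻¹ = g * (s * d * s⁻¹) * g⁻¹ := by group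
  rwa [this]

theorem MPair.conj_left {s : G} (hs : s ∈ S) (h : MPair p S (s * c * s⁻¹) d) :
    MPair p S c d := by
  obtain ⟨g, hg, i, j, h⟩ := h
  refine ⟨s⁻¹ * g, mul_mem (inv_mem hs) hg, i, j, fun k hk => h k ?_⟩
  have h1 : (s * c * s⁻¹) ^ i * (g * d * g⁻¹) ^ j
      = s * (c ^ i * (s⁻¹ * g * d * (s⁻¹ * g)⁻¹) ^ j) * s⁻¹ := by
    have h2 : s⁻¹ * g * d * (s⁻¹ * g)⁻¹ = s⁻¹ * (g * d * g⁻¹) * s⁻¹⁻¹ := by group
    have h3 : (s⁻¹ * g * d * (s⁻¹ * g)⁻¹) ^ j = s⁻¹ * (g * d * g⁻¹) ^ j * s⁻¹⁻¹ := by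
      rw [h2, conj_pow]
    rw [h3, conj_pow (a := s)]
    generalize (g * d * g⁻¹) ^ j = y
    group
  rw [h1, conj_pow, hk]
  group

theorem MPair.symm (h : MPair p S c d) : MPair p S d c := by
  obtain ⟨g, hg, i, j, h⟩ := h
  refine ⟨g⁻¹, inv_mem hg, j, i, fun k hk => h k ?_⟩
  have h1 : c ^ i * (g * d * g⁻¹) ^ j
      = g * (g⁻¹ * c * g⁻¹⁻¹) ^ i * (d ^ j * (g⁻¹ * c * g⁻¹⁻¹) ^ i)
        * (g * (g⁻¹ * c * g⁻¹⁻¹) ^ i)⁻¹ := by
    rw [conj_pow, conj_pow]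
    group
  rw [h1, conj_pow, hk]
  group

/-- A pair of powers suffices. -/
theorem MPair.of_pow (a b : ℕ) (h : MPair p S (c ^ a) (d ^ b)) : MPair p S c d := by
  obtain ⟨g, hg, i, j, h⟩ := h
  refine ⟨g, hg, a * i, b * j, fun k hk => h k ?_⟩
  rw [← hk, ← pow_mul, ← conj_pow, ← pow_mul]

end Cfsg.Agent.H957.T5M
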