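import Cfsg.Agent.H957.T5Tr
import Cfsg.Agent.H957.T5Main
import Cfsg.Agent.H897.MeetPSL
import Cfsg.Prelude.Def_Classical

/-!
# The row `PSL_n(q)`, `p ≥ 5` not dividing `q` (T5)
-/

set_option autoImplicit false

namespace Cfsg.Agent.H957.T5RowPSL

open Matrix
open Cfsg.Agent.H957.T5V Cfsg.Agent.H957.T5M Cfsg.Agent.H957.T5Tr
open Cfsg.Agent.H199.PslAut
open Cfsg.Agent.ClassicalGeometry.AutPSL.Root
open Cfsg.Agent.ClassicalGeometry.AutPSL.Auto
open Cfsg.Agent.H897.MeetPSL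
open Cfsg.Agent.H903.SylSemi (Ind scal scal_apply)

theorem mrow_PSL {F : Type} [Field F] [Fintype F] {n p : ℕ} (hn : 2 ≤ n) (hp : p.Prime)
    (hp5 : 5 ≤ p) (hpF : (p : F) ≠ 0) :
    MRow p (Matrix.ProjectiveSpecialLinearGroup (Fin n) F) := by
  have : Fact p.Prime := ⟨hp⟩
  have : Nonempty (Fin n) := ⟨⟨0, by omega⟩⟩
  have : Nontrivial (Fin n → F) := Function.nontrivial
  refine mrow_of (F := F) hp (π := (pr : Matrix.SpecialLinearGroup (Fin n) F →*
      Matrix.ProjectiveSpecialLinearGroup (Fin n) F)) pr_surjective (ρ := rho n F) rho_injective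
    ?_ (W := fun y => ∃ θ : F ≃+* F, Semi θ y) ?_ ?_ ?_ ?_ ?_
  · intro s
    refine ⟨fun u v => ?_, fun b v => ?_⟩
    · rw [rho_apply, rho_apply, rho_apply, mulVec_add]
    · rw [rho_apply, rho_apply, mulVec_smul]
      rfl
  · rintro y y' ⟨θ, h⟩ ⟨θ', h'⟩
    exact ⟨θ * θ', h.mul h'⟩
  · intro s
    refine ⟨1, fun u v => ?_, fun b v => ?_⟩
    · rw [rho_apply, rho_apply, rho_apply, mulVec_add]
    · rw [rho_apply, rho_apply, mulVec_smul]
      rfl
  · intro β hβ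
    have hP : IsPGroup p ↥(Subgroup.zpowers β) :=
      IsPGroup.of_card (n := 1) (by rw [Nat.card_zpowers, hβ, pow_one])
    obtain ⟨g, σ, rfl⟩ := form_of_pgroup hn (by omega) hP (Subgroup.mem_zpowers β)
    exact ⟨smap g σ, ⟨σ, (semi_smap g σ).1, (semi_smap g σ).2⟩, ind_smap g σ⟩
  · rintro y ⟨θ, hθ⟩ hy
    obtain ⟨A, rfl⟩ := exists_smap (show Cfsg.Agent.H903.SylSemi.Semi F y θ from ⟨hθ.add, hθ.smul⟩)
    have h1 : Psi n F A * phi n F θ = 1 :=
      Ind.unique pr_surjective rho_injective (ind_smap A θ) hy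
    obtain ⟨⟨u, rfl⟩, h2⟩ := Psi_phi_eq hn (g := A) (σ := θ) (τ := 1) (by rw [h1, map_one])
    refine ⟨u, ?_⟩
    ext v : 1
    rw [smap_apply, h2, scal_apply, Cfsg.Agent.H199.PslAut.coe_scal]
    change (scalar (Fin n) (u : F)) *ᵥ v = (u : F) • v
    rw [Matrix.scalar_apply, Matrix.diagonal_const_mulVec]
  · rintro y z ⟨θ, hy⟩ ⟨θ', hz⟩ hyp hyn hzp hzn
    obtain ⟨g, hg, i, j, h⟩ := Cfsg.Agent.H957.T5Main.mp_main (V := Fin n → F) hp hp5
      (by rw [Module.finrank_fintype_fun_eq_card, Fintype.card_fin]; exact hn) hpF hy hyp hyn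
      hz hzp hzn
    have hd : (LinearMap.toMatrix' (g : (Fin n → F) →ₗ[F] (Fin n → F))).det = 1 := by
      rw [LinearMap.det_toMatrix', ← LinearEquiv.coe_det, hg, Units.val_one]
    refine ⟨⟨LinearMap.toMatrix' (g : (Fin n → F) →ₗ[F] (Fin n → F)), hd⟩, i, j, ?_⟩
    have hs : rho n F ⟨LinearMap.toMatrix' (g : (Fin n → F) →ₗ[F] (Fin n → F)), hd⟩ = toA g := by
      ext v : 1
      refine (rho_apply _ v).trans ?_
      change (LinearMap.toMatrix' (g : (Fin n → F) →ₗ[F] (Fin n → F))) *ᵥ v = g v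
      rw [LinearMap.toMatrix'_mulVec]
      rfl
    rw [hs]
    exact h

/-- Transport of the row along an isomorphism. -/
theorem MRow.congr {S T : Type*} [Group S] [Group T] {p : ℕ} (e : S ≃* T) (h : MRow p T) :
    MRow p S := by
  intro c d hc hd
  let φ : MulAut S ≃* MulAut T := MulAut.congr e
  have h1 := h (φ c) (φ d) (by rw [MulEquiv.orderOf_eq, hc]) (by rw [MulEquiv.orderOf_eq, hd])
  refine MPair.of_hom φ.toMonoidHom ?_ h1
  rintro _ ⟨t, rfl⟩
  refine ⟨MulAut.conj (e.symm t), ⟨e.symm t, rfl⟩, ?_⟩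
  ext x
  change e (e.symm t * e.symm x * (e.symm t)⁻¹) = t * x * t⁻¹
  simp

/-- **The row PSL in cross characteristic.** -/
theorem row_PSL_cross {S : Type*} [Group S] {F : Type} [Field F] [Fintype F] {n p : ℕ}
    (hn : 2 ≤ n) (hp : p.Prime) (hp5 : 5 ≤ p) (hpF : ¬ p ∣ Fintype.card F)
    (e : S ≃* Matrix.ProjectiveSpecialLinearGroup (Fin n) F) : MRow p S := by
  refine MRow.congr e (mrow_PSL hn hp hp5 ?_)
  intro h0
  apply hpF
  have h1 : ringChar F ∣ p := (ringChar.spec F p).1 h0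
  have h2 : ringChar F = p := ((Nat.dvd_prime hp).1 h1).resolve_left (CharP.ringChar_ne_one)
  rw [← h2]
  obtain ⟨n, -, hn⟩ := FiniteField.card F (ringChar F)
  rw [hn]
  exact dvd_pow_self _ n.ne_zero

end Cfsg.Agent.H957.T5RowPSL
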