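import Cfsg.Agent.H957.T5U14
import Cfsg.Agent.H957.T5RowPSL
import Cfsg.Agent.H177.MeetPSU

/-!
# The row `PSU_n(q)`, `p ≥ 5` not dividing `q` (T5)
-/

set_option autoImplicit false

namespace Cfsg.Agent.H957.T5RowPSU

open Cfsg Cfsg.Agent.LieClassical.HermBasic Cfsg.Agent.LieClassical.HermSiegel
open Cfsg.Agent.LieClassical.SUBasic Matrix
open Cfsg.Agent.ClassicalGeometry.PSUAutCount Cfsg.Agent.ClassicalGeometry.UnitAutBasic
open Cfsg.Agent.H957.T5V Cfsg.Agent.H957.T5M Cfsg.Agent.H957.T5Tr Cfsg.Agent.H957.T5U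
open Cfsg.Agent.H177.MeetPSU (rho rho_apply rho_injective yy yy_apply ind_yy uniq)
open Cfsg.Agent.H903.SylSemi (Ind)

variable {F : Type} [Field F] [Fintype F] {n q p : ℕ}

theorem mrow_PSU (hF : Fintype.card F = q ^ 2) (hn : 3 ≤ n) (h32 : ¬ (n = 3 ∧ q = 2))
    (hp : p.Prime) (hp5 : 5 ≤ p) (hpF : (p : F) ≠ 0) : MRow p (PSU n F q) := by
  have : Nonempty (Fin n) := ⟨⟨0, by omega⟩⟩
  have : Nontrivial (Fin n → F) := Function.nontrivial
  refine mrow_of (F := F) hp (π := pr n F q) pr_surjective (ρ := rho n F q) rho_injective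
    (fun s => (si_rho s).semi) (W := fun y => ∃ θ : F ≃+* F, SI q θ y) ?_ ?_ ?_ ?_ ?_
  · rintro y y' ⟨θ, h⟩ ⟨θ', h'⟩
    exact ⟨θ * θ', h.mul h'⟩
  · intro s
    exact ⟨1, si_rho s⟩
  · intro β _
    obtain ⟨A, θ, rfl⟩ := Cfsg.Agent.ClassicalGeometry.PSUAutMain.exists_toAut hF hn h32 β
    refine ⟨yy A θ, ⟨θ, ⟨fun u v => ?_, fun a v => ?_⟩, fun u v => herm_semi A θ u v⟩, ind_yy A θ⟩
    · rw [yy_apply, yy_apply, yy_apply, ← Matrix.mulVec_add]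
      congr 1
      funext i
      exact map_add θ _ _
    · rw [yy_apply, yy_apply, ← Matrix.mulVec_smul]
      congr 1
      funext i
      exact map_mul θ _ _
  · rintro y ⟨θ, hθ⟩ hy
    refine uniq hF hn ⟨θ, 1, one_ne_zero, ⟨hθ.semi.add, hθ.semi.smul⟩, fun u v => ?_⟩ hy
    rw [one_mul, hθ.herm]
  · rintro y z ⟨θ, hy⟩ ⟨θ', hz⟩ hyp hyn hzp hzn
    exact up_main hF hn hp hp5 hpF hy hyp hyn hz hzp hzn

/-- **The row PSU in cross characteristic.** -/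
theorem row_PSU_cross {S : Type*} [Group S] (hF : Fintype.card F = q ^ 2)
    (hn : 3 ≤ n) (h32 : ¬ (n = 3 ∧ q = 2)) (hp : p.Prime) (hp5 : 5 ≤ p) (hpq : ¬ p ∣ q)
    (e : S ≃* PSU n F q) : MRow p S := by
  refine Cfsg.Agent.H957.T5RowPSL.MRow.congr e (mrow_PSU hF hn h32 hp hp5 ?_)
  intro h0
  apply hpq
  have h1 : ringChar F ∣ p := (ringChar.spec F p).1 h0
  have h2 : ringChar F = p := ((Nat.dvd_prime hp).1 h1).resolve_left (CharP.ringChar_ne_one)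
  obtain ⟨m, -, hm⟩ := FiniteField.card F (ringChar F)
  rw [h2, hF] at hm
  have h3 : p ∣ q ^ 2 := by
    rw [hm]
    exact dvd_pow_self _ m.ne_zero
  exact hp.dvd_of_dvd_pow h3

end Cfsg.Agent.H957.T5RowPSU
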