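import Cfsg.Agent.H957.T5Sp4
import Cfsg.Agent.H862.T5.SpRow
import Cfsg.Agent.H957.T5RowPSL

/-!
# The middle row of `PSp_2m(q)` in cross characteristic
-/

set_option autoImplicit false
set_option linter.unusedSectionVars false

namespace Cfsg.Agent.H957.T5RowPSp

open Cfsg Cfsg.Agent.ClassicalGeometry.SympBasic Cfsg.Agent.ClassicalGeometry.SympAutSemi
open Cfsg.Agent.ClassicalGeometry.SympGamma
open Cfsg.Agent.H862.T5.SpCore Cfsg.Agent.H862.T5.SpRow Cfsg.Agent.H533.T5
open Cfsg.Agent.H957.T5V Cfsg.Agent.H957.T5Conf Cfsg.Agent.H957.T5Pairs Cfsg.Agent.H957.T5S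
open Cfsg.Agent.H957.T5M
open Module

variable {F : Type} [Field F] [Fintype F] {m p : ℕ}

/-! ### Field automorphisms -/

theorem semi_frob (φ : F ≃+* F) : T5V.Semi φ (frobPerm m φ) :=
  ⟨(isSemi_frobPerm φ).1, (isSemi_frobPerm φ).2.1⟩

theorem frob_single (φ : F ≃+* F) (i : Fin m ⊕ Fin m) :
    frobPerm m φ (Pi.single i 1) = Pi.single i 1 := by
  funext j
  rw [frobPerm_apply]
  by_cases h : j = i
  · subst h
    rw [Pi.single_eq_same, map_one]
  · rw [Pi.single_eq_of_ne h, map_zero]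

/-- Families of fixed vectors. -/
theorem gm_fixed {φ : F ≃+* F} (hφ : φ ≠ 1) {k : ℕ} (hk : 0 < k) {G : Fin k → Fin k → F}
    {b : Fin k → VV m F} (hb : LinearIndependent F b)
    (hG : ∀ i j, sympBilin m F (b i) (b j) = G i j) (hfix : ∀ i, frobPerm m φ (b i) = b i) :
    Gm (sympBilin m F) G (frobPerm m φ) := by
  have hs := semi_frob (m := m) φ
  refine ⟨b, hb, hG, ?_, ?_⟩
  · intro w hw
    induction hw using Submodule.span_induction with
    | mem x hx =>
      obtain ⟨i, rfl⟩ := hx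
      rw [hfix]
      exact Submodule.subset_span ⟨i, rfl⟩
    | zero => rw [hs.zero]; exact Submodule.zero_mem _
    | add x y _ _ hx hy => rw [hs.add]; exact Submodule.add_mem _ hx hy
    | smul a x _ hx => rw [hs.smul]; exact Submodule.smul_mem _ _ hx
  · rintro ⟨t, ht⟩
    apply hφ
    ext a
    have h1 := ht (b ⟨0, hk⟩) (Submodule.subset_span ⟨_, rfl⟩)
    have h2 := ht (a • b ⟨0, hk⟩) (Submodule.smul_mem _ _ (Submodule.subset_span ⟨_, rfl⟩))
    rw [hfix] at h1
    have hne := hb.ne_zero ⟨0, hk⟩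
    have h3 : (1 - t) • b ⟨0, hk⟩ = 0 := by rw [sub_smul, one_smul, ← h1, sub_self]
    have h4 : t = 1 := (sub_eq_zero.1 ((smul_eq_zero.1 h3).resolve_right hne)).symm
    rw [h4, one_smul, hs.smul, hfix] at h2
    have h5 : (φ a - a) • b ⟨0, hk⟩ = 0 := by rw [sub_smul, h2, sub_self]
    exact sub_eq_zero.1 ((smul_eq_zero.1 h5).resolve_right hne)

theorem gm_hyp_frob (hm : 0 < m) {φ : F ≃+* F} (hφ : φ ≠ 1) :
    Gm (sympBilin m F) hyp (frobPerm m φ) := by
  refine gm_fixed hφ (by norm_num)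
    (b := ![Pi.single (Sum.inr ⟨0, hm⟩) 1, Pi.single (Sum.inl ⟨0, hm⟩) 1]) ?_ ?_ ?_
  · rw [li2_iff]
    intro x y h
    have h1 := congrFun h (Sum.inr ⟨0, hm⟩)
    have h2 := congrFun h (Sum.inl ⟨0, hm⟩)
    simp at h1 h2
    exact ⟨h1, h2⟩
  · intro i j
    fin_cases i <;> fin_cases j <;> simp [hyp, sympForm_single_inr_left, sympForm_single_inl_left]
  · intro i
    fin_cases i <;> exact frob_single φ _

theorem gm_zero_frob {φ : F ≃+* F} (hφ : φ ≠ 1) {e : ℕ} (he0 : 0 < e) (he : e ≤ m) :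
    Gm (sympBilin m F) (fun _ _ : Fin e => 0) (frobPerm m φ) := by
  refine gm_fixed hφ he0
    (b := fun i => Pi.single (Sum.inl (Fin.castLE he i)) 1) ?_ ?_ ?_
  · have h1 : LinearIndependent F (fun i : Fin m ⊕ Fin m => (Pi.single i 1 : VV m F)) := by
      have := (Pi.basisFun F (Fin m ⊕ Fin m)).linearIndependent
      have e : (⇑(Pi.basisFun F (Fin m ⊕ Fin m))) = fun i => (Pi.single i 1 : VV m F) := by
        funext i
        exact Pi.basisFun_apply F _ i
      rwa [e] at this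
    refine h1.comp (fun i : Fin e => Sum.inl (Fin.castLE he i)) ?_
    intro i j hij
    exact Fin.castLE_injective he (Sum.inl_injective hij)
  · intro i j
    simp [sympForm_single_inl_left]
  · intro i
    exact frob_single φ _

theorem ri_frob (hm : 2 ≤ m) {φ : F ≃+* F} (hφ : φ ≠ 1) : RI (sympBilin m F) (frobPerm m φ) := by
  obtain ⟨b, hb⟩ : ∃ b, φ b ≠ b := by
    by_contra h
    push Not at h
    exact hφ (RingEquiv.ext h)
  have h01 : (⟨0, by omega⟩ : Fin m) ≠ ⟨1, by omega⟩ := by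
    intro h
    have := congrArg Fin.val h
    simp at this
  generalize (⟨0, by omega⟩ : Fin m) = i0 at h01
  generalize (⟨1, by omega⟩ : Fin m) = i1 at h01
  have h10 := h01.symm
  have hs := semi_frob (m := m) φ
  have hc : frobPerm m φ (Pi.single (Sum.inr i1) 1 + b • Pi.single (Sum.inl i1) 1)
      = Pi.single (Sum.inr i1) 1 + φ b • Pi.single (Sum.inl i1) 1 := by
    rw [hs.add, hs.smul, frob_single, frob_single]
  refine ⟨Pi.single (Sum.inr i1) 1 + b • Pi.single (Sum.inl i1) 1, Pi.single (Sum.inl i0) 1,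
    frob_single φ _, ?_, ?_, ?_, ?_⟩
  · simp [sympForm_single_inl_left, h01]
  · rw [hc]
    simp [sympForm_single_inl_left, h01]
  · rw [hc]
    simp [sympForm_single_inl_left, sympForm_single_inr_left]
    intro h
    apply hb
    linear_combination h
  · rw [hc, li3_iff]
    intro x y z h
    have e1 := congrFun h (Sum.inl i0)
    have e2 := congrFun h (Sum.inr i1)
    have e3 := congrFun h (Sum.inl i1)
    simp [h01, h10] at e1 e2 e3
    have hz : z * (φ b - b) = 0 := by linear_combination e3 - b * e2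
    have hz0 := (mul_eq_zero.1 hz).resolve_right (sub_ne_zero.2 hb)
    subst hz0
    refine ⟨e1, ?_, rfl⟩
    simpa using e2

/-! ### Transfer -/

theorem semi_rho (A : Matrix.symplecticGroup (Fin m) F) :
    T5V.Semi (1 : F ≃+* F) (rho m F A) := ⟨(isSemi_rho A).1, (isSemi_rho A).2.1⟩

theorem li1_rho {A : Matrix.symplecticGroup (Fin m) F} (hp : p.Prime) (hA : orderOf A = p) :
    LI1 (sympBilin m F) p (rho m F A) where
  semi := semi_rho A
  form := fun u v => by
    have h := (isSemi_rho A).2.2 u v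
    rw [one_mul] at h
    exact h
  cp := by rw [← map_pow, ← hA, pow_orderOf_eq_one, map_one]
  ne := by
    intro h
    have h1 : A = 1 := by
      apply rho_injective
      rw [map_one, h]
    rw [h1, orderOf_one] at hA
    exact hp.one_lt.ne hA

theorem mpair_of_sp (hm : 1 ≤ m) {g₁ g₂ : semiSim m F} (h : SP (sympBilin m F) p g₁.1 g₂.1) :
    MPair p (MulAut.conj : PSp m F →* MulAut (PSp m F)).range (Psi m F g₁) (Psi m F g₂) := by
  obtain ⟨T, hT, i, j, h⟩ := h
  obtain ⟨C, hC⟩ := Cfsg.Agent.H951.exists_Sp_of_equiv T (fun u v => hT u v)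
  have hCT : rho m F C = toA T := by
    ext1 v
    have h1 := LinearMap.congr_fun hC v
    rw [Matrix.toLin'_apply] at h1
    exact h1
  refine ⟨MulAut.conj (QuotientGroup.mk C : PSp m F), ⟨_, rfl⟩, i, j, fun k hk => h k ?_⟩
  rw [← Psi_lin, ← map_inv, ← map_mul, ← map_mul, ← map_pow, ← map_pow, ← map_mul,
    ← map_pow] at hk
  obtain ⟨a, ha⟩ := exists_scal hm hk
  rw [← hCT]
  exact ⟨a, ha⟩

theorem MPair.conj_right' {X : Type*} [Group X] {S : Subgroup X} {c d s : X} (hs : s ∈ S)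
    (h : MPair p S c d) : MPair p S c (s * d * s⁻¹) := by
  refine MPair.conj_right (S.inv_mem hs) ?_
  have e : s⁻¹ * (s * d * s⁻¹) * s⁻¹⁻¹ = d := by group
  rw [e]
  exact h

theorem frob_scal {φ : F ≃+* F} (hφ : orderOf φ = p) : IsScal F (frobPerm m φ ^ p) := by
  have h1 : frobS m φ ^ p = 1 := by
    rw [frobS_pow, ← hφ, pow_orderOf_eq_one]
    apply Subtype.ext
    ext1 v
    rfl
  have h2 : frobPerm m φ ^ p = 1 := congrArg Subtype.val h1
  exact ⟨1, fun v => by rw [h2, one_smul]; rfl⟩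

theorem ne_one_of_order {φ : F ≃+* F} (hp : p.Prime) (hφ : orderOf φ = p) : φ ≠ 1 := by
  intro h
  rw [h, orderOf_one] at hφ
  exact hp.one_lt.ne hφ

/-- **The middle row of `PSp_2m(q)`**, `p ≥ 5` prime to `q`. -/
theorem mrow_psp (hm : 2 ≤ m) (h22 : m = 2 → 3 ≤ Fintype.card F) (hp : p.Prime) (h5 : 5 ≤ p)
    (hpF : (p : F) ≠ 0) : MRow p (PSp m F) := by
  have : Fact p.Prime := ⟨hp⟩
  have hp2 : p ≠ 2 := by omega
  have hodd : Odd p := hp.odd_of_ne_two hp2
  have hsimple : IsSimpleGroup (PSp m F) := S0270.result m hm h22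
  have hna : ¬ IsMulCommutative (PSp m F) := Cfsg.Agent.H458.RowPSp.not_comm hm h22
  have hB : (sympBilin m F).Nondegenerate := sympBilin_nondegenerate
  have hA : (sympBilin m F).IsAlt := sympBilin_isAlt
  -- inner elements
  have hin : ∀ s' : PSp m F, orderOf (MulAut.conj s') = p → ∃ A : Matrix.symplecticGroup (Fin m) F,
      s' = QuotientGroup.mk A ∧ orderOf A = p := by
    intro s' hs'
    have h1 : orderOf s' = p := by
      rw [← hs']
      exact (orderOf_injective _ (conj_injective_of_simple hna) s').symm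
    obtain ⟨A, hA, hA'⟩ := Cfsg.Agent.H458.SpOp.exists_lift (by omega) hp hp2 s' h1
    exact ⟨A, hA.symm, hA'⟩
  -- the order of `q`
  obtain ⟨e, he⟩ : ∃ e, orderOf ((Fintype.card F : ℕ) : ZMod p) = e := ⟨_, rfl⟩
  have he0 : 0 < e := by
    rw [← he]
    exact Cfsg.Agent.H951.ord_pos hpF
  have scal1 : ∀ {x : Equiv.Perm (VV m F)}, x ^ p = 1 → IsScal F (x ^ p) := fun h =>
    ⟨1, fun v => by rw [h, one_smul]; rfl⟩
  -- planes
  have hpl : e ≤ 2 → ∀ A : Matrix.symplecticGroup (Fin m) F, orderOf A = p →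
      Gm (sympBilin m F) hyp (rho m F A) := by
    intro h2 A hA'
    rcases Nat.lt_or_ge e 2 with h3 | h3
    · have he1 : e = 1 := by omega
      refine gm_split hB hp hp2 ?_ (li1_rho hp hA') hA
      rw [he1, orderOf_eq_one_iff] at he
      rw [← ZMod.natCast_eq_zero_iff, Nat.cast_sub Fintype.card_pos, he]
      push_cast
      ring
    · exact gm_two hB hA hp hp2 hpF (by rw [he]; omega) (li1_rho hp hA')
  -- linear, linear
  have hLL : ∀ A A' : Matrix.symplecticGroup (Fin m) F, orderOf A = p → orderOf A' = p →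
      SP (sympBilin m F) p (rho m F A) (rho m F A') := by
    intro A A' h1 h2
    have l1 := li1_rho hp h1
    have l2 := li1_rho hp h2
    rcases Nat.lt_or_ge 2 e with h3 | h3
    · rcases Nat.even_or_odd e with hev | hod
      · obtain ⟨k, hk⟩ := hev
        have hk' : orderOf ((Fintype.card F : ℕ) : ZMod p) = 2 * k := by omega
        exact sp_K hB hA hpF l1.semi l2.semi l1.form l2.form
          (dt_even hB hA hp hp2 hpF (by omega) hk' l1) (dt_even hB hA hp hp2 hpF (by omega) hk' l2)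
      · exact sp_ti hB hA (by omega) hp h5 hpF l1.semi l2.semi (scal1 l1.cp) (scal1 l2.cp)
          (gm_odd hA hp hpF he hod h3 l1) (gm_odd hA hp hpF he hod h3 l2)
    · exact sp_plane hB hA hp h5 hpF l1.semi l2.semi (scal1 l1.cp) (scal1 l2.cp)
        (hpl h3 A h1) (hpl h3 A' h2)
  -- linear, field
  have hLF : ∀ (A : Matrix.symplecticGroup (Fin m) F) (φ : F ≃+* F), orderOf A = p →
      orderOf φ = p → SP (sympBilin m F) p (rho m F A) (frobPerm m φ) := by
    intro A φ h1 hφ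
    have l1 := li1_rho hp h1
    have hφ1 := ne_one_of_order hp hφ
    rcases Nat.lt_or_ge 2 e with h3 | h3
    · rcases Nat.even_or_odd e with hev | hod
      · obtain ⟨k, hk⟩ := hev
        have hk' : orderOf ((Fintype.card F : ℕ) : ZMod p) = 2 * k := by omega
        exact sp_R hB hA hpF l1.semi (semi_frob φ) l1.form
          (dt_even hB hA hp hp2 hpF (by omega) hk' l1) (ri_frob hm hφ1)
      · have h4 : e ≤ m := by
          have h5' := dd_le h5 hpF hm h1
          unfold dd at h5'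
          rw [he, if_neg (Nat.not_even_iff_odd.2 hod)] at h5'
          have h6 := le_max_left (2 * e) 4
          omega
        exact sp_ti hB hA (by omega) hp h5 hpF l1.semi (semi_frob φ) (scal1 l1.cp) (frob_scal hφ)
          (gm_odd hA hp hpF he hod h3 l1) (gm_zero_frob hφ1 he0 h4)
    · exact sp_plane hB hA hp h5 hpF l1.semi (semi_frob φ) (scal1 l1.cp) (frob_scal hφ)
        (hpl h3 A h1) (gm_hyp_frob (by omega) hφ1)
  -- field, field
  have hFF : ∀ (φ ψ : F ≃+* F), orderOf φ = p →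
      orderOf ψ = p → SP (sympBilin m F) p (frobPerm m φ) (frobPerm m ψ) := by
    intro φ ψ hφ hψ
    exact sp_plane hB hA hp h5 hpF (semi_frob φ) (semi_frob ψ) (frob_scal hφ) (frob_scal hψ)
      (gm_hyp_frob (by omega) (ne_one_of_order hp hφ))
      (gm_hyp_frob (by omega) (ne_one_of_order hp hψ))
  intro c d hc hd
  have hcase : ∀ a : MulAut (PSp m F), orderOf a = p → (∃ A : Matrix.symplecticGroup (Fin m) F, orderOf A = p ∧
      a = Psi m F (lin A)) ∨ ∃ (φ : F ≃+* F), orderOf φ = p ∧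
      ∃ s ∈ (MulAut.conj : PSp m F →* MulAut (PSp m F)).range, a = s * Psi m F (frobS m φ) * s⁻¹ := by
    intro a ha
    have hap : a ^ p = 1 := by rw [← ha, pow_orderOf_eq_one]
    rcases Cfsg.Agent.H458.SpAut.inner_or_field hm h22 hodd hap with ⟨s, rfl⟩ | ⟨g, φ, l, hl, hg, hφ, rfl⟩
    · obtain ⟨A, rfl, hA⟩ := hin s ha
      exact Or.inl ⟨A, hA, (Psi_lin A).symm⟩
    · obtain ⟨h1, h2⟩ := exists_inner_conj hm h22 hp hp2 hl hg hap hφ
      exact Or.inr ⟨φ, h1, h2⟩
  have hm1 : 1 ≤ m := by omega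
  rcases hcase c hc with ⟨A, hA', rfl⟩ | ⟨φ, hφ, s, hs, rfl⟩ <;>
    rcases hcase d hd with ⟨A', hA'', rfl⟩ | ⟨ψ, hψ, t, ht, rfl⟩
  · exact mpair_of_sp hm1 (hLL A A' hA' hA'')
  · exact MPair.conj_right' ht (mpair_of_sp hm1 (g₁ := lin A) (g₂ := frobS m ψ) (hLF A ψ hA' hψ))
  · exact (MPair.conj_right' hs (mpair_of_sp hm1 (g₁ := lin A') (g₂ := frobS m φ)
      (hLF A' φ hA'' hφ))).symm
  · exact MPair.conj_right' ht (MPair.symm (MPair.conj_right' hs
      (mpair_of_sp hm1 (g₁ := frobS m ψ) (g₂ := frobS m φ) (hFF ψ φ hψ hφ))))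

/-- **The middle row for `PSp`**, in cross characteristic. -/
theorem psp_mrow {S : Type*} [Group S] (hS : IsPSp S) (hp : p.Prime) (h5 : 5 ≤ p)
    (hch : ¬ IsPSpChar p S) : MRow p S := by
  obtain ⟨F, _, _, m, hm, h22, ⟨e⟩⟩ := hS
  refine Cfsg.Agent.H957.T5RowPSL.MRow.congr e (mrow_psp hm h22 hp h5 (cast_ne hp ?_))
  rintro ⟨hF⟩
  exact hch ⟨F, _, _, hF, m, hm, h22, ⟨e⟩⟩

end Cfsg.Agent.H957.T5RowPSp
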