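import Cfsg.Agent.H957.T5U2

/-!
# Totally isotropic subspaces: extension and transitivity in `SU`, transport of `mp_main`
-/

set_option autoImplicit false

namespace Cfsg.Agent.H957.T5U

open Cfsg Cfsg.Agent.LieClassical.HermBasic Cfsg.Agent.LieClassical.HermSiegel
open Cfsg.Agent.H957.T5V Cfsg.Agent.H957.T5Conf Cfsg.Agent.H957.T5Pairs
open Cfsg.Agent.H177.MeetPSU (rho rho_apply)
open scoped Matrix

variable {F : Type} [Field F] [Fintype F] {n q p : ℕ}

/-- Witt extension, isometries of any determinant. -/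
theorem exists_iso_ext (hF : Fintype.card F = q ^ 2) {k : ℕ} (a b : Fin k → (Fin n → F))
    (ha : LinearIndependent F a) (hb : LinearIndependent F b)
    (hab : ∀ i j, hermForm n F q (a i) (a j) = hermForm n F q (b i) (b j)) :
    ∃ M : Matrix (Fin n) (Fin n) F, (∀ u v, hermForm n F q (M *ᵥ u) (M *ᵥ v) = hermForm n F q u v)
      ∧ ∀ i, M *ᵥ (a i) = b i := by
  classical
  set bs := Module.Basis.span ha with hbs
  have hbsi : ∀ i, ((bs i : Submodule.span F (Set.range a)) : Fin n → F) = a i := fun i => by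
    rw [hbs, Module.Basis.span_apply]
  set f : Submodule.span F (Set.range a) →ₗ[F] (Fin n → F) := bs.constr F b with hf
  have hx : ∀ x : Submodule.span F (Set.range a), (x : Fin n → F) = ∑ i, bs.repr x i • a i := by
    intro x
    conv_lhs => rw [← bs.sum_repr x]
    rw [Submodule.coe_sum]
    exact Finset.sum_congr rfl fun i _ => by rw [Submodule.coe_smul, hbsi]
  have hfx : ∀ x : Submodule.span F (Set.range a), f x = ∑ i, bs.repr x i • b i := by
    intro x
    rw [hf, Module.Basis.constr_apply_fintype]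
    rfl
  have hinj : Function.Injective f := by
    rw [injective_iff_map_eq_zero]
    intro x h0
    rw [hfx] at h0
    have h1 := Fintype.linearIndependent_iff.1 hb _ h0
    apply Subtype.ext
    rw [hx x]
    simp [h1]
  have hiso : ∀ x x', Cfsg.Agent.H77.Witt.formB hF n (f x) (f x')
      = Cfsg.Agent.H77.Witt.formB hF n (x : Fin n → F) (x' : Fin n → F) := by
    intro x x'
    rw [Cfsg.Agent.H77.Witt.formB_apply, Cfsg.Agent.H77.Witt.formB_apply, hx x, hx x', hfx x,
      hfx x']
    simp only [herm_sum_left, herm_sum_right hF, herm_smul_left, herm_smul_right, hab]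
  obtain ⟨g, hg, hgf⟩ := ClassicalGeometry.HermWitt.exists_extension _
    (Cfsg.Agent.H77.Witt.formB hF n) (Cfsg.Agent.H77.Witt.conj_ne hF)
    (fun a => pow_q_pow_q hF a) (Cfsg.Agent.H77.Witt.formB_symm hF)
    (Cfsg.Agent.H77.Witt.formB_sep hF) _ f hinj hiso
  have hMv : ∀ v, LinearMap.toMatrix' (g : (Fin n → F) →ₗ[F] (Fin n → F)) *ᵥ v = g v :=
    fun v => by
      rw [LinearMap.toMatrix'_mulVec]; rfl
  refine ⟨LinearMap.toMatrix' (g : (Fin n → F) →ₗ[F] (Fin n → F)), ?_, ?_⟩
  · intro u v
    rw [hMv, hMv]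
    exact hg v u
  · intro i
    rw [hMv]
    have h1 := hgf (bs i)
    rw [hbsi, hfx, Module.Basis.repr_self] at h1
    rw [h1]
    simp [Finsupp.single_apply]

/-- The determinant of an isometry stabilising a maximal totally isotropic subspace. -/
theorem det_of_ti (hF : Fintype.card F = q ^ 2) {k : ℕ} (hk1 : 0 < k) (hk : 2 * k = n)
    {a : Fin k → (Fin n → F)} (ha : LinearIndependent F a)
    (h0 : ∀ i j, hermForm n F q (a i) (a j) = 0) {M : Matrix (Fin n) (Fin n) F}
    (hM : ∀ u v, hermForm n F q (M *ᵥ u) (M *ᵥ v) = hermForm n F q u v)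
    {A : Matrix (Fin k) (Fin k) F} (hA : ∀ j, M *ᵥ (a j) = ∑ i, A i j • a i) :
    M.det * A.det ^ q = A.det := by
  classical
  have hw : ∀ j, ∃ w : Fin n → F, ∀ i, hermForm n F q w (a i) = if i = j then 1 else 0 :=
    fun j => Cfsg.Agent.H77.Geom.exists_prescribed hF ha _
  choose w hw using hw
  have hli : LinearIndependent F (Sum.elim a w) := by
    rw [Fintype.linearIndependent_iff]
    intro g hg
    rw [Fintype.sum_sum_type] at hg
    simp only [Sum.elim_inl, Sum.elim_inr] at hg
    have h1 : ∀ i, g (Sum.inr i) = 0 := by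
      intro i
      have h2 := congrArg (fun v => hermForm n F q v (a i)) hg
      simp only [herm_add_left, herm_sum_left, herm_smul_left, h0, hw, herm_zero_left] at h2
      simpa using h2
    simp only [h1, zero_smul, Finset.sum_const_zero, add_zero] at hg
    rintro (i | i)
    · exact Fintype.linearIndependent_iff.1 ha _ hg i
    · exact h1 i
  have : Nonempty (Fin k ⊕ Fin k) := ⟨Sum.inl ⟨0, hk1⟩⟩
  let B : Module.Basis (Fin k ⊕ Fin k) F (Fin n → F) :=
    basisOfLinearIndependentOfCardEqFinrank hli (by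
      rw [Module.finrank_fin_fun, Fintype.card_sum, Fintype.card_fin]
      omega)
  have hBl : ∀ i, B (Sum.inl i) = a i := fun i => by
    simp [B]
  have hBr : ∀ i, B (Sum.inr i) = w i := fun i => by
    simp [B]
  let T := LinearMap.toMatrix B B M.mulVecLin
  have hT : T = Matrix.fromBlocks A (T.toBlocks₁₂) 0 (T.toBlocks₂₂) := by
    ext i j
    rcases i with i | i <;> rcases j with j | j
    · rw [Matrix.fromBlocks_apply₁₁]
      change LinearMap.toMatrix B B M.mulVecLin _ _ = _
      rw [LinearMap.toMatrix_apply, hBl, Matrix.mulVecLin_apply, hA, map_sum, Finsupp.finsetSum_apply]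
      simp only [map_smul, ← hBl, Module.Basis.repr_self, Finsupp.smul_apply,
        Finsupp.single_apply, smul_eq_mul]
      simp
    · rfl
    · rw [Matrix.fromBlocks_apply₂₁]
      change LinearMap.toMatrix B B M.mulVecLin _ _ = _
      rw [LinearMap.toMatrix_apply, hBl, Matrix.mulVecLin_apply, hA, map_sum, Finsupp.finsetSum_apply]
      simp only [map_smul, ← hBl, Module.Basis.repr_self, Finsupp.smul_apply,
        Finsupp.single_apply, smul_eq_mul]
      simp
    · rfl
  have hdet : M.det = A.det * (T.toBlocks₂₂).det := by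
    have h1 : T.det = M.det := by
      rw [LinearMap.det_toMatrix]
      rw [← Matrix.toLin'_apply', LinearMap.det_toLin']
    rw [← h1, hT, Matrix.det_fromBlocks_zero₂₁, Matrix.toBlocks_fromBlocks₂₂]
  set D := T.toBlocks₂₂ with hD
  have hDA : Dᵀ * A.map (conj hF) = 1 := by
    ext j i
    rw [Matrix.mul_apply]
    simp only [Matrix.transpose_apply, Matrix.map_apply, conj_apply]
    have h1 : hermForm n F q (M *ᵥ w j) (M *ᵥ a i) = if i = j then 1 else 0 := by
      rw [hM, hw]
    have h2 : M *ᵥ w j = ∑ l, T (Sum.inl l) (Sum.inr j) • a l + ∑ l, D l j • w l := by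
      have h3 := B.sum_repr (M *ᵥ w j)
      rw [Fintype.sum_sum_type] at h3
      rw [← h3]
      simp only [hBl, hBr]
      congr 1
      · refine Finset.sum_congr rfl fun l _ => ?_
        change _ = LinearMap.toMatrix B B M.mulVecLin _ _ • _
        rw [LinearMap.toMatrix_apply, hBr, Matrix.mulVecLin_apply]
      · refine Finset.sum_congr rfl fun l _ => ?_
        change _ = LinearMap.toMatrix B B M.mulVecLin (Sum.inr l) (Sum.inr j) • _
        rw [LinearMap.toMatrix_apply, hBr, Matrix.mulVecLin_apply]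
    rw [h2, hA, herm_add_left] at h1
    simp only [herm_sum_left, herm_sum_right hF, herm_smul_left, herm_smul_right, h0, hw] at h1
    simp only [mul_zero, Finset.sum_const_zero, zero_add, mul_ite, mul_one] at h1
    rw [Matrix.one_apply]
    rw [show (if j = i then (1 : F) else 0) = if i = j then 1 else 0 by
      by_cases h : i = j
      · subst h; simp
      · rw [if_neg h, if_neg (Ne.symm h)]]
    rw [← h1]
    refine Finset.sum_congr rfl fun l _ => ?_
    simp [mul_comm]
  have h4 : D.det * A.det ^ q = 1 := by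
    have h5 := congrArg Matrix.det hDA
    rw [Matrix.det_mul, Matrix.det_transpose, Matrix.det_one] at h5
    rw [← h5]
    congr 1
    change (conj hF) A.det = _
    rw [RingEquiv.map_det]
    rfl
  rw [hdet, mul_assoc, h4, mul_one]

/-- `SL` of a totally isotropic subspace extends to `SU`. -/
theorem ti_ext (hF : Fintype.card F = q ^ 2) {k : ℕ} (hk1 : 0 < k)
    {b : Fin k → (Fin n → F)} (hb : LinearIndependent F b)
    (h0 : ∀ i j, hermForm n F q (b i) (b j) = 0) {A : Matrix (Fin k) (Fin k) F}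
    (hA : A.det = 1) : ∃ s : SU n F q, ∀ j, act s (b j) = ∑ i, A i j • b i := by
  classical
  set b' : Fin k → (Fin n → F) := fun j => ∑ i, A i j • b i with hb'
  have h0' : ∀ i j, hermForm n F q (b' i) (b' j) = 0 := by
    intro i j
    simp only [hb', herm_sum_left, herm_sum_right hF, herm_smul_left, herm_smul_right, h0,
      mul_zero, Finset.sum_const_zero]
  have hli : LinearIndependent F b' := by
    rw [Fintype.linearIndependent_iff]
    intro g hg
    have h1 : ∑ i, (∑ j, A i j * g j) • b i = 0 := by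
      rw [← hg]
      simp only [hb', Finset.smul_sum, Finset.sum_smul, smul_smul]
      rw [Finset.sum_comm]
      refine Finset.sum_congr rfl fun i _ => Finset.sum_congr rfl fun j _ => ?_
      rw [mul_comm]
    have h2 := Fintype.linearIndependent_iff.1 hb _ h1
    have h3 : A *ᵥ g = 0 := by
      funext i
      exact h2 i
    have h4 : g = 0 := by
      have : A.adjugate *ᵥ (A *ᵥ g) = g := by
        rw [Matrix.mulVec_mulVec, Matrix.adjugate_mul, hA, one_smul, Matrix.one_mulVec]
      rw [← this, h3, Matrix.mulVec_zero]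
    intro i
    rw [h4]
    rfl
  have hle := Cfsg.Agent.H77.Geom.two_mul_le_of_iso (q := q) hF hb h0
  rcases Nat.lt_or_ge (2 * k) n with hlt | hge
  · obtain ⟨z, hz, hzz⟩ := Cfsg.Agent.H77.Geom.exists_nonisotropic (q := q) hF hli hlt
    exact Cfsg.Agent.H77.Witt.exists_su_ext hF b b' hb hli (fun i j => by rw [h0, h0']) hzz
      (fun i => hz _ ⟨i, rfl⟩)
  · obtain ⟨M, hM, hMb⟩ := exists_iso_ext hF b b' hb hli (fun i j => by rw [h0, h0'])
    have hdet := det_of_ti hF hk1 (by omega) hb h0 hM hMb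
    rw [hA, one_pow, mul_one] at hdet
    exact ⟨mkSU M hdet hM, fun j => hMb j⟩

/-- `SU` is transitive on totally isotropic subspaces of a given dimension. -/
theorem ti_move (hF : Fintype.card F = q ^ 2) {k : ℕ} (hk1 : 0 < k)
    {a b : Fin k → (Fin n → F)} (ha : LinearIndependent F a) (hb : LinearIndependent F b)
    (ha0 : ∀ i j, hermForm n F q (a i) (a j) = 0) (h0 : ∀ i j, hermForm n F q (b i) (b j) = 0) :
    ∃ s : SU n F q, ∀ j, act s (a j) ∈ Submodule.span F (Set.range b) := by
  classical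
  have hle := Cfsg.Agent.H77.Geom.two_mul_le_of_iso (q := q) hF hb h0
  rcases Nat.lt_or_ge (2 * k) n with hlt | hge
  · obtain ⟨z, hz, hzz⟩ := Cfsg.Agent.H77.Geom.exists_nonisotropic (q := q) hF hb hlt
    obtain ⟨s, hs⟩ := Cfsg.Agent.H77.Witt.exists_su_ext hF a b ha hb (fun i j => by rw [h0, ha0])
      hzz (fun i => hz _ ⟨i, rfl⟩)
    exact ⟨s, fun j => by rw [hs]; exact Submodule.subset_span ⟨j, rfl⟩⟩
  · obtain ⟨M, hM, hMb⟩ := exists_iso_ext hF a b ha hb (fun i j => by rw [h0, ha0])
    have hδ := LieClassical.GUOrder.det_mul_frob_det hF M hM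
    obtain ⟨y, hy0, hy⟩ := ClassicalGeometry.HermWitt.hilbert90 ((conj hF : F ≃+* F) : F →+* F)
      (Cfsg.Agent.H77.Witt.conj_ne hF) (fun a => pow_q_pow_q hF a) (M.det)⁻¹ (by
        change (M.det)⁻¹ * ((M.det)⁻¹) ^ q = 1
        rw [← pow_succ', inv_pow, hδ, inv_one])
    have hy' : (M.det)⁻¹ * y ^ q = y := hy
    set D : Matrix (Fin k) (Fin k) F :=
      Matrix.diagonal (fun i => if i = ⟨0, hk1⟩ then y else 1) with hD
    have hDdet : D.det = y := by
      rw [hD, Matrix.det_diagonal, Finset.prod_ite_eq' Finset.univ (⟨0, hk1⟩ : Fin k)]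
      simp
    set b' : Fin k → (Fin n → F) := fun j => ∑ i, D i j • b i with hb'
    have hb'' : ∀ j, b' j = (if j = ⟨0, hk1⟩ then y else 1) • b j := by
      intro j
      simp only [hb', hD]
      rw [Finset.sum_eq_single j]
      · rw [Matrix.diagonal_apply_eq]
      · intro i _ hij
        rw [Matrix.diagonal_apply_ne _ hij, zero_smul]
      · intro h
        exact absurd (Finset.mem_univ _) h
    have hli : LinearIndependent F b' := by
      have h1 := hb.units_smul (fun j : Fin k => if j = ⟨0, hk1⟩ then Units.mk0 y hy0 else 1)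
      convert h1 using 1
      funext j
      rw [hb'']
      by_cases h : j = ⟨0, hk1⟩
      · simp [h, Units.smul_def]
      · simp [h]
    obtain ⟨R, hR, hRb⟩ := exists_iso_ext hF b b' hb hli (fun i j => by
      rw [h0, hb'', hb'', herm_smul_left, herm_smul_right, h0, mul_zero, mul_zero])
    have hRdet := det_of_ti hF hk1 (by omega) hb h0 hR hRb
    rw [hDdet] at hRdet
    have hM0 := LieClassical.GUOrder.det_ne_zero_of_isom hF M hM
    have hdet : (R * M).det = 1 := by
      rw [Matrix.det_mul]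
      have h1 : R.det * y ^ q = (M.det)⁻¹ * y ^ q := by rw [hRdet, hy']
      have h2 := mul_right_cancel₀ (pow_ne_zero q hy0) h1
      rw [h2, inv_mul_cancel₀ hM0]
    refine ⟨mkSU (R * M) hdet (fun u v => by
      rw [← Matrix.mulVec_mulVec, ← Matrix.mulVec_mulVec, hR, hM]), fun j => ?_⟩
    change (R * M) *ᵥ a j ∈ _
    rw [← Matrix.mulVec_mulVec, hMb, hRb, hb'']
    exact Submodule.smul_mem _ _ (Submodule.subset_span ⟨j, rfl⟩)

variable {σ τ : F ≃+* F} {c c' d d' : Equiv.Perm (Fin n → F)}

/-- Both elements leave the totally isotropic subspace `U` invariant and are not scalar there. -/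
theorem up_ti_same (hF : Fintype.card F = q ^ 2) (hp : p.Prime) (hp5 : 5 ≤ p)
    (hpF : (p : F) ≠ 0) (hc : SI q σ c) (hd : SI q τ d) {U : Submodule F (Fin n → F)}
    (hU : 2 ≤ Module.finrank F U) (h0 : ∀ u ∈ U, ∀ v ∈ U, hermForm n F q u v = 0)
    (hcU : ∀ u ∈ U, c u ∈ U) (hdU : ∀ u ∈ U, d u ∈ U)
    (hcn : ¬ ∃ t : F, ∀ u ∈ U, c u = t • u) (hdn : ¬ ∃ t : F, ∀ u ∈ U, d u = t • u)
    (hcp : IsScal F (c ^ p)) (hdp : IsScal F (d ^ p)) : UP q p c d := by
  classical
  obtain ⟨c0, hc0⟩ := exists_res (ι := ((↑) : U → (Fin n → F))) (x := c) Subtype.val_injective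
    (fun v => ⟨⟨c v, hcU v v.2⟩, rfl⟩)
  obtain ⟨d0, hd0⟩ := exists_res (ι := ((↑) : U → (Fin n → F))) (x := d) Subtype.val_injective
    (fun v => ⟨⟨d v, hdU v v.2⟩, rfl⟩)
  have hsemi : ∀ {σ : F ≃+* F} {c : Equiv.Perm (Fin n → F)} {c0 : Equiv.Perm U}, SI q σ c →
      Res ((↑) : U → (Fin n → F)) c c0 → Semi σ c0 := by
    intro σ c c0 hc hc0
    refine ⟨fun u v => Subtype.ext ?_, fun a u => Subtype.ext ?_⟩
    · rw [Submodule.coe_add, ← hc0, ← hc0, ← hc0, Submodule.coe_add, hc.semi.add]
    · rw [Submodule.coe_smul, ← hc0, ← hc0, Submodule.coe_smul, hc.semi.smul]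
  refine up_of_mp (K := F) (fun a => a) (X := U) (ι := ((↑) : U → (Fin n → F)))
    (fun a x => Submodule.coe_smul a x) Subtype.val_injective (fun a _ => ⟨a, rfl⟩) hp hp5 hU hpF
    (hsemi hc hc0) (hsemi hd hd0) hc0 hd0 hcp hdp ?_ ?_ ?_
  · rintro ⟨t, ht⟩
    exact hcn ⟨t, fun u hu => by
      have := hc0 ⟨u, hu⟩
      rw [ht] at this
      exact this⟩
  · rintro ⟨t, ht⟩
    exact hdn ⟨t, fun u hu => by
      have := hd0 ⟨u, hu⟩
      rw [ht] at this
      exact this⟩
  · intro g hg
    let B := Module.finBasis F U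
    have hBli : LinearIndependent F (fun i => ((B i : U) : Fin n → F)) :=
      B.linearIndependent.map' U.subtype (Submodule.ker_subtype U)
    have hA : (LinearMap.toMatrix B B (g : U →ₗ[F] U)).det = 1 := by
      rw [LinearMap.det_toMatrix, ← LinearEquiv.coe_det, hg, Units.val_one]
    obtain ⟨s, hs⟩ := ti_ext (q := q) hF (by omega) hBli (fun i j => h0 _ (B i).2 _ (B j).2) hA
    have h1 : ∀ j, act s (B j : Fin n → F) = (g (B j) : U) := by
      intro j
      rw [hs]
      have h2 := B.sum_repr (g (B j))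
      have h3 := congrArg (fun x : U => (x : Fin n → F)) h2
      simp only [Submodule.coe_sum, Submodule.coe_smul] at h3
      rw [← h3]
      refine Finset.sum_congr rfl fun i _ => ?_
      rw [LinearMap.toMatrix_apply]
      rfl
    refine ⟨s, fun v => ?_⟩
    have h4 := B.sum_repr v
    have h5 : (v : Fin n → F) = ∑ i, B.repr v i • ((B i : U) : Fin n → F) := by
      conv_lhs => rw [← h4]
      rw [Submodule.coe_sum]
      rfl
    have h6 : g v = ∑ i, B.repr v i • g (B i) := by
      conv_lhs => rw [← h4]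
      rw [map_sum]
      exact Finset.sum_congr rfl fun i _ => map_smul _ _ _
    rw [h6, h5, act_sum, Submodule.coe_sum]
    exact Finset.sum_congr rfl fun i _ => by rw [act_smul, h1, Submodule.coe_smul]

/-- A `c`-invariant totally isotropic subspace of dimension `m` on which `c` is not a scalar. -/
def TIm (q m : ℕ) (c : Equiv.Perm (Fin n → F)) : Prop :=
  ∃ U : Submodule F (Fin n → F), Module.finrank F U = m ∧
    (∀ u ∈ U, ∀ v ∈ U, hermForm n F q u v = 0) ∧ (∀ u ∈ U, c u ∈ U) ∧
    ¬ ∃ t : F, ∀ u ∈ U, c u = t • u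

theorem up_ti (hF : Fintype.card F = q ^ 2) (hp : p.Prime) (hp5 : 5 ≤ p)
    (hpF : (p : F) ≠ 0) (hc : SI q σ c) (hd : SI q τ d) {m : ℕ} (hm : 2 ≤ m)
    (hcm : TIm q m c) (hdm : TIm q m d)
    (hcp : IsScal F (c ^ p)) (hdp : IsScal F (d ^ p)) : UP q p c d := by
  classical
  obtain ⟨U, hUm, hU0, hcU, hcn⟩ := hcm
  obtain ⟨W, hWm, hW0, hdW, hdn⟩ := hdm
  let A := Module.finBasisOfFinrankEq F W hWm
  let B := Module.finBasisOfFinrankEq F U hUm
  have hAli : LinearIndependent F (fun i => ((A i : W) : Fin n → F)) :=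
    A.linearIndependent.map' W.subtype (Submodule.ker_subtype W)
  have hBli : LinearIndependent F (fun i => ((B i : U) : Fin n → F)) :=
    B.linearIndependent.map' U.subtype (Submodule.ker_subtype U)
  obtain ⟨s, hs⟩ := ti_move (q := q) hF (by omega) hAli hBli (fun i j => hW0 _ (A i).2 _ (A j).2)
    (fun i j => hU0 _ (B i).2 _ (B j).2)
  have hle : Submodule.span F (Set.range fun i => ((B i : U) : Fin n → F)) ≤ U := by
    rw [Submodule.span_le]
    rintro _ ⟨i, rfl⟩
    exact (B i).2
  let L : (Fin n → F) →ₗ[F] (Fin n → F) :=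
    { toFun := act s
      map_add' := act_add s
      map_smul' := fun a v => act_smul s a v }
  have hmap : W.map L = U := by
    apply Submodule.eq_of_le_of_finrank_eq
    · rintro _ ⟨w, hw, rfl⟩
      have h4 := A.sum_repr ⟨w, hw⟩
      have h5 : w = ∑ i, A.repr ⟨w, hw⟩ i • ((A i : W) : Fin n → F) := by
        have := congrArg (fun x : W => (x : Fin n → F)) h4
        simp only [Submodule.coe_sum, Submodule.coe_smul] at this
        exact this.symm
      rw [h5]
      change act s _ ∈ U
      rw [act_sum]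
      refine Submodule.sum_mem _ fun i _ => ?_
      rw [act_smul]
      exact Submodule.smul_mem _ _ (hle (hs i))
    · rw [← (Submodule.equivMapOfInjective L (act_injective s) W).finrank_eq, hWm, hUm]
  have hd2 : ∀ u, (rho n F q s * d * (rho n F q s)⁻¹) (act s u) = act s (d u) := by
    intro v
    rw [Equiv.Perm.mul_apply, Equiv.Perm.mul_apply]
    have h1 : (rho n F q s)⁻¹ (act s v) = v := by rw [← rho_apply, inv_apply_self]
    rw [h1, rho_apply]
  refine UP.conj_right s (up_ti_same hF hp hp5 hpF hc (hd.conj s) (by omega) hU0 hcU ?_ hcn ?_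
    hcp ?_)
  · intro u hu
    rw [← hmap] at hu ⊢
    obtain ⟨w, hw, rfl⟩ := hu
    exact ⟨d w, hdW w hw, (hd2 w).symm⟩
  · rintro ⟨t, ht⟩
    apply hdn
    refine ⟨t, fun w hw => act_injective s ?_⟩
    have := ht (act s w) (by rw [← hmap]; exact ⟨w, hw, rfl⟩)
    rwa [hd2, ← act_smul] at this
  · obtain ⟨a, ha⟩ := hdp
    refine ⟨a, fun v => ?_⟩
    rw [conj_pow, Equiv.Perm.mul_apply, Equiv.Perm.mul_apply, ha, rho_apply, act_smul,
      ← rho_apply, apply_inv_self]

end Cfsg.Agent.H957.T5U
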