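import Cfsg.Agent.H957.T5U9
import Cfsg.Agent.H957.T5U3

/-!
# The types of elements: frames, inputs of configuration R, totally isotropic subspaces
-/

set_option autoImplicit false

namespace Cfsg.Agent.H957.T5U

open Cfsg Cfsg.Agent.LieClassical.HermBasic Cfsg.Agent.LieClassical.HermSiegel
open Cfsg.Agent.H957.T5V Cfsg.Agent.H957.T5Conf Cfsg.Agent.H957.T5Pairs Cfsg.Agent.H957.T5Two
  Cfsg.Agent.H957.T5Semi
open Cfsg.Agent.H967.CopMat (Fx mem_Fx card_Fx)
open Module

variable {F : Type} [Field F] [Fintype F] {n q p : ℕ} {θ : F ≃+* F} {c : Equiv.Perm (Fin n → F)}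

theorem neg_one_pow_q (hF : Fintype.card F = q ^ 2) : (-1 : F) ^ q = -1 := by
  rw [neg_pow_q hF, one_pow]

/-- An automorphism of odd prime order moves an element of the small field. -/
theorem exists_moved_Kq (hF : Fintype.card F = q ^ 2) (_ : p.Prime) (hp3 : 3 ≤ p)
    (hθ : orderOf θ = p) : ∃ k : F, k ^ q = k ∧ θ k ≠ k := by
  by_contra hcon
  push Not at hcon
  have h1 : ∀ x : F, θ x = x ∨ θ x = x ^ q := by
    intro x
    have h2 : θ (x + x ^ q) = x + x ^ q := hcon _ (trace_pow_q hF x)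
    have h3 : θ (x * x ^ q) = x * x ^ q := hcon _ (norm_pow_q hF x)
    rw [map_add] at h2
    rw [map_mul] at h3
    have h4 : (θ x - x) * (θ x - x ^ q) = 0 := by linear_combination θ x * h2 - h3
    rcases mul_eq_zero.1 h4 with h5 | h5
    · exact Or.inl (sub_eq_zero.1 h5)
    · exact Or.inr (sub_eq_zero.1 h5)
  have h2 : θ ^ 2 = 1 := by
    ext x
    rw [pow_two]
    change θ (θ x) = x
    rcases h1 x with h | h
    · rw [h, h]
    · rw [h, map_pow, h, pow_q_pow_q hF]
  have h3 := orderOf_dvd_of_pow_eq_one h2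
  rw [hθ] at h3
  have := Nat.le_of_dvd (by norm_num) h3
  omega

/-- Decomposition with respect to `1, t`. -/
theorem Kdec (hF : Fintype.card F = q ^ 2) {t : F} (ht : t ^ q ≠ t) (k : F) :
    ∃ a b : Kq hF, k = a + b * t ∧ k ^ q = a + b * t ^ q := by
  have h0 : t ^ q - t ≠ 0 := sub_ne_zero.2 ht
  set β := (k ^ q - k) / (t ^ q - t) with hβ
  have hβt : β * (t ^ q - t) = k ^ q - k := div_mul_cancel₀ _ h0
  have hβq : β ^ q = β := by
    rw [hβ, div_pow, sub_pow_q hF, sub_pow_q hF, pow_q_pow_q hF, pow_q_pow_q hF]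
    rw [← neg_sub (k ^ q) k, ← neg_sub (t ^ q) t, neg_div_neg_eq]
  have hα : (k - β * t) ^ q = k - β * t := by
    rw [sub_pow_q hF, mul_pow, hβq]
    linear_combination -hβt
  refine ⟨⟨k - β * t, hα⟩, ⟨β, hβq⟩, ?_, ?_⟩
  · change k = k - β * t + β * t
    ring
  · change k ^ q = k - β * t + β * t ^ q
    linear_combination -hβt

/-- The small plane attached to two orthonormal vectors. -/
theorem fr_of_onb (hF : Fintype.card F = q ^ 2) {x y : Fin n → F} (hx : hermForm n F q x x = 1)
    (hy : hermForm n F q y y = 1) (hxy : hermForm n F q x y = 0) {a t : F}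
    (ha : a * a ^ q = -1) (ht : t ^ q ≠ t)
    (hce : ∃ k : F, c (x + a • y) = k • x + (a * k ^ q) • y)
    (hcf : ∃ k : F, c (t • x + (a * t ^ q) • y) = k • x + (a * k ^ q) • y)
    (ns : ¬ ∃ s : F, ∀ u v : Kq hF, c ((u : F) • (x + a • y) + (v : F) • (t • x + (a * t ^ q) • y))
      = s • ((u : F) • (x + a • y) + (v : F) • (t • x + (a * t ^ q) • y))) :
    Fr hF (t ^ q - t) c (x + a • y) (t • x + (a * t ^ q) • y) := by
  have hyx : hermForm n F q y x = 0 := herm_eq_zero_swap hF hxy
  have key : ∀ k : F, ∃ u v : Kq hF,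
      k • x + (a * k ^ q) • y = (u : F) • (x + a • y) + (v : F) • (t • x + (a * t ^ q) • y) := by
    intro k
    obtain ⟨u, v, h1, h2⟩ := Kdec hF ht k
    refine ⟨u, v, ?_⟩
    rw [h2]
    conv_lhs => rw [h1]
    module
  refine ⟨?_, ?_, ?_, ?_, ?_, ns⟩
  · simp only [herm_add_left, herm_add_right hF, herm_smul_left, herm_smul_right, hx, hy, hxy, hyx]
    linear_combination ha
  · simp only [herm_add_left, herm_add_right hF, herm_smul_left, herm_smul_right, hx, hy, hxy, hyx,
      mul_pow, pow_q_pow_q hF]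
    linear_combination (t * t ^ q) * ha
  · simp only [herm_add_left, herm_add_right hF, herm_smul_left, herm_smul_right, hx, hy, hxy, hyx,
      mul_pow, pow_q_pow_q hF]
    linear_combination t * ha
  · obtain ⟨k, hk⟩ := hce
    obtain ⟨u, v, h⟩ := key k
    exact ⟨u, v, hk.trans h⟩
  · obtain ⟨k, hk⟩ := hcf
    obtain ⟨u, v, h⟩ := key k
    exact ⟨u, v, hk.trans h⟩

section semi

variable (hF : Fintype.card F = q ^ 2) (hp : p.Prime) (hp3 : 3 ≤ p) (hθ : orderOf θ = p)
  (hc : SI q θ c) (hcp : c ^ p = 1)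

include hp hp3 hθ hc hcp

theorem fr_semi (hn : 2 ≤ n) {t : F} (htθ : θ t = t) (ht : t ^ q ≠ t) :
    ∃ e f, Fr hF (t ^ q - t) c e f := by
  obtain ⟨b, hb, hcb⟩ := exists_onb_fix hF hp (by omega) hθ hc hcp 2 hn
  obtain ⟨a, ha0, haθ, ha⟩ := norm_fix hF hp (by omega) hθ (a := -1) (neg_ne_zero.2 one_ne_zero)
    (by rw [map_neg, map_one]) (neg_one_pow_q hF)
  obtain ⟨k, hkq, hkθ⟩ := exists_moved_Kq hF hp hp3 hθ
  have h0 : hermForm n F q (b 0) (b 0) = 1 := by rw [hb]; simp
  have h1 : hermForm n F q (b 1) (b 1) = 1 := by rw [hb]; simp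
  have h01 : hermForm n F q (b 0) (b 1) = 0 := by rw [hb]; simp
  have e1 : c (b 0 + a • b 1) = b 0 + a • b 1 := by
    rw [hc.semi.add, hc.semi.smul, hcb, hcb, haθ]
  have hne : b 0 + a • b 1 ≠ 0 := by
    intro h
    have := congrArg (fun v => hermForm n F q v (b 0)) h
    simp only [herm_add_left, herm_smul_left, herm_zero_left, h0] at this
    rw [herm_eq_zero_swap hF h01, mul_zero, add_zero] at this
    exact one_ne_zero this
  refine ⟨_, _, fr_of_onb hF h0 h1 h01 ha ht ⟨1, ?_⟩ ⟨t, ?_⟩ ?_⟩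
  · rw [e1, one_pow, mul_one, one_smul]
  · rw [hc.semi.add, hc.semi.smul, hc.semi.smul, hcb, hcb, map_mul, map_pow, htθ, haθ]
  · rintro ⟨s, hs⟩
    have h2 := hs 1 0
    have h3 := hs ⟨k, hkq⟩ 0
    simp only [Subfield.coe_one, Subfield.coe_zero, zero_smul, add_zero, one_smul, e1] at h2 h3
    have hs1 : s = 1 := by
      have : (s - 1) • (b 0 + a • b 1) = 0 := by rw [sub_smul, one_smul, ← h2, sub_self]
      exact sub_eq_zero.1 ((smul_eq_zero.1 this).resolve_right hne)
    rw [hs1, one_smul, hc.semi.smul, e1] at h3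
    have : (θ k - k) • (b 0 + a • b 1) = 0 := by rw [sub_smul, h3, sub_self]
    exact hkθ (sub_eq_zero.1 ((smul_eq_zero.1 this).resolve_right hne))

include hF in
theorem ri_semi (hn : 3 ≤ n) : RI q c := by
  obtain ⟨b, hb, hcb⟩ := exists_onb_fix hF hp (by omega) hθ hc hcp 3 hn
  obtain ⟨a, ha0, haθ, ha⟩ := norm_fix hF hp (by omega) hθ (a := -1) (neg_ne_zero.2 one_ne_zero)
    (by rw [map_neg, map_one]) (neg_one_pow_q hF)
  obtain ⟨w, hw, hwθ⟩ := exists_moved hF hp (by omega) hθ
  have hij : ∀ i j, hermForm n F q (b i) (b j) = if i = j then 1 else 0 := hb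
  have hy : (a * w) * (a * w) ^ q = -1 := by
    rw [mul_pow]
    linear_combination (w * w ^ q) * ha - hw
  have hyθ : θ (a * w) ≠ a * w := by
    rw [map_mul, haθ]
    exact fun h => hwθ (mul_left_cancel₀ ha0 h)
  refine ⟨b 0 + (a * w) • b 1, b 2, hcb 2, by rw [hij]; simp, ?_, ?_, ?_⟩
  · rw [herm_add_left, herm_smul_left, hij, hij]
    simp
  · simp only [herm_add_left, herm_add_right hF, herm_smul_left, herm_smul_right, hij]
    simp only [Fin.isValue, if_true, one_ne_zero, zero_ne_one, if_false, mul_zero, add_zero,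
      mul_one, zero_add]
    linear_combination hy
  · rw [hc.semi.add, hc.semi.smul, hcb, hcb]
    simp only [herm_add_left, herm_add_right hF, herm_smul_left, herm_smul_right, hij]
    simp only [Fin.isValue, if_true, one_ne_zero, zero_ne_one, if_false, mul_zero, add_zero,
      mul_one, zero_add]
    intro h
    apply hyθ
    rw [← pow_q_inj hF]
    have h5 : a * w ≠ 0 := by
      intro h6
      rw [h6, zero_mul] at hy
      exact neg_ne_zero.2 one_ne_zero hy.symm
    apply mul_left_cancel₀ h5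
    linear_combination h - hy

include hF in
theorem ti_semi {m : ℕ} (hm : 0 < m) (hmn : 2 * m ≤ n) : TIm q m c := by
  obtain ⟨b, hb, hcb⟩ := exists_onb_fix hF hp (by omega) hθ hc hcp (2 * m) hmn
  obtain ⟨a, ha0, haθ, ha⟩ := norm_fix hF hp (by omega) hθ (a := -1) (neg_ne_zero.2 one_ne_zero)
    (by rw [map_neg, map_one]) (neg_one_pow_q hF)
  let l : Fin m → Fin (2 * m) := fun i => ⟨2 * i, by omega⟩
  let r : Fin m → Fin (2 * m) := fun i => ⟨2 * i + 1, by omega⟩
  have hll : ∀ i j, l i = l j ↔ i = j := by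
    intro i j
    simp only [l, Fin.ext_iff]
    omega
  have hrr : ∀ i j, r i = r j ↔ i = j := by
    intro i j
    simp only [r, Fin.ext_iff]
    omega
  have hlr : ∀ i j, l i ≠ r j := by
    intro i j
    simp only [l, r, ne_eq, Fin.mk.injEq]
    omega
  have hrl : ∀ i j, r i ≠ l j := fun i j => (hlr j i).symm
  set v : Fin m → (Fin n → F) := fun i => b (l i) + a • b (r i) with hv
  have hcv : ∀ i, c (v i) = v i := by
    intro i
    simp only [hv]
    rw [hc.semi.add, hc.semi.smul, hcb, hcb, haθ]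
  have hiso : ∀ i j, hermForm n F q (v i) (v j) = 0 := by
    intro i j
    simp only [hv, herm_add_left, herm_add_right hF, herm_smul_left, herm_smul_right, hb, hll, hrr,
      hlr, hrl, if_false, mul_zero, add_zero, zero_add]
    by_cases hij : i = j
    · rw [if_pos hij, mul_one]
      linear_combination ha
    · rw [if_neg hij]
      ring
  have hli : LinearIndependent F v := by
    rw [Fintype.linearIndependent_iff]
    intro g hg i
    have h := congrArg (fun w => hermForm n F q w (b (l i))) hg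
    simp only [hv, herm_sum_left, herm_smul_left, herm_add_left, hb, hll, hrl, if_false, mul_zero,
      add_zero, herm_zero_left] at h
    simpa using h
  refine ⟨Submodule.span F (Set.range v), ?_, ?_, ?_, ?_⟩
  · rw [finrank_span_eq_card hli, Fintype.card_fin]
  · intro u hu w hw
    refine Cfsg.Agent.H77.Geom.perp_span hF (S := Set.range v) ?_ hw
    rintro _ ⟨j, rfl⟩
    apply herm_eq_zero_swap hF
    refine Cfsg.Agent.H77.Geom.perp_span hF (S := Set.range v) ?_ hu
    rintro _ ⟨i, rfl⟩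
    exact hiso j i
  · intro u hu
    induction hu using Submodule.span_induction with
    | mem x hx =>
      obtain ⟨i, rfl⟩ := hx
      rw [hcv]
      exact Submodule.subset_span ⟨i, rfl⟩
    | zero => rw [hc.semi.zero]; exact Submodule.zero_mem _
    | add x y _ _ hx hy => rw [hc.semi.add]; exact Submodule.add_mem _ hx hy
    | smul t x _ hx => rw [hc.semi.smul]; exact Submodule.smul_mem _ _ hx
  · rintro ⟨s, hs⟩
    obtain ⟨t, -, ht⟩ := exists_moved_Kq hF hp hp3 hθ
    have h0 : v ⟨0, hm⟩ ≠ 0 := hli.ne_zero _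
    have hmem : v ⟨0, hm⟩ ∈ Submodule.span F (Set.range v) := Submodule.subset_span ⟨_, rfl⟩
    have h1 := hs _ hmem
    rw [hcv] at h1
    have hs1 : s = 1 := by
      have : (s - 1) • v ⟨0, hm⟩ = 0 := by rw [sub_smul, one_smul, ← h1, sub_self]
      exact sub_eq_zero.1 ((smul_eq_zero.1 this).resolve_right h0)
    have h2 := hs _ (Submodule.smul_mem _ t hmem)
    rw [hc.semi.smul, hcv, hs1, one_smul] at h2
    have : (θ t - t) • v ⟨0, hm⟩ = 0 := by rw [sub_smul, h2, sub_self]
    exact ht (sub_eq_zero.1 ((smul_eq_zero.1 this).resolve_right h0))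

end semi

end Cfsg.Agent.H957.T5U
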