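import Cfsg.Agent.H163.PG.Ord

/-!
# The order of `PSL_n(q)` grows with `n`
-/

set_option autoImplicit false

namespace Cfsg.Agent.H957.S5

variable {F : Type} [Field F] [Fintype F]

theorem card_psl_pos (m : ℕ) :
    0 < Nat.card (Matrix.ProjectiveSpecialLinearGroup (Fin m) F) := by
  have : Finite (Matrix.ProjectiveSpecialLinearGroup (Fin m) F) := Quotient.finite _
  exact Nat.card_pos

theorem card_succ {m : ℕ} (hm : 2 ≤ m) :
    Nat.card (Matrix.ProjectiveSpecialLinearGroup (Fin m) F)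
      < Nat.card (Matrix.ProjectiveSpecialLinearGroup (Fin (m + 1)) F) := by
  have h1 := Cfsg.Agent.H163.PG.card_psl (F := F) hm
  have h2 := Cfsg.Agent.H163.PG.card_psl (F := F) (show 2 ≤ m + 1 by omega)
  have hq : 2 ≤ Fintype.card F := Fintype.one_lt_card
  have hpos := card_psl_pos (F := F) m
  generalize Nat.card (Matrix.ProjectiveSpecialLinearGroup (Fin m) F) = A at h1 hpos ⊢
  generalize Nat.card (Matrix.ProjectiveSpecialLinearGroup (Fin (m + 1)) F) = B at h2 ⊢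
  generalize Fintype.card F = q at h1 h2 hq
  obtain ⟨k, rfl⟩ := Nat.exists_eq_add_of_le hm
  have e1 : (2 + k + 1) * (2 + k + 1 - 1) / 2 = (2 + k) * (2 + k - 1) / 2 + (2 + k) := by
    have : (2 + k + 1) * (2 + k + 1 - 1) = (2 + k) * (2 + k - 1) + (2 + k) * 2 := by
      have a1 : 2 + k + 1 - 1 = 2 + k := by omega
      have a2 : 2 + k - 1 = k + 1 := by omega
      rw [a1, a2]
      ring
    rw [this, Nat.add_mul_div_right _ _ (by norm_num)]
  have e2 : 2 + k + 1 - 1 = (2 + k - 1) + 1 := by omega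
  rw [e1, e2, Finset.prod_range_succ, pow_add] at h2
  have e3 : Nat.gcd (2 + k + 1) (q - 1) ≤ q - 1 := Nat.le_of_dvd (by omega) (Nat.gcd_dvd_right _ _)
  have e4 : 1 ≤ Nat.gcd (2 + k) (q - 1) := Nat.gcd_pos_of_pos_left _ (by omega)
  have e5 : Nat.gcd (2 + k + 1) (q - 1) * B
      = (Nat.gcd (2 + k) (q - 1) * A) * (q ^ (2 + k) * (q ^ (2 + k - 1 + 2) - 1)) := by
    rw [h2, h1]
    ring
  have e6 : q - 1 < q ^ (2 + k) * (q ^ (2 + k - 1 + 2) - 1) := by
    have b1 : q ≤ q ^ (2 + k) := Nat.le_self_pow (by omega) q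
    have b2 : 2 ≤ q ^ (2 + k - 1 + 2) := hq.trans (Nat.le_self_pow (by omega) q)
    calc q - 1 < q * 1 := by omega
      _ ≤ _ := Nat.mul_le_mul b1 (by omega)
  by_contra hcon
  push Not at hcon
  have e7 : Nat.gcd (2 + k + 1) (q - 1) * B ≤ (q - 1) * A := Nat.mul_le_mul e3 hcon
  have e8 : A * (q - 1) < (Nat.gcd (2 + k) (q - 1) * A)
      * (q ^ (2 + k) * (q ^ (2 + k - 1 + 2) - 1)) := by
    calc A * (q - 1) < A * (q ^ (2 + k) * (q ^ (2 + k - 1 + 2) - 1)) :=
          Nat.mul_lt_mul_of_pos_left e6 hpos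
      _ ≤ _ := Nat.mul_le_mul_right _ (Nat.le_mul_of_pos_left A e4)
  rw [e5, mul_comm (q - 1)] at e7
  omega

theorem card_lt {m n : ℕ} (hm : 2 ≤ m) (hmn : m < n) :
    Nat.card (Matrix.ProjectiveSpecialLinearGroup (Fin m) F)
      < Nat.card (Matrix.ProjectiveSpecialLinearGroup (Fin n) F) := by
  obtain ⟨k, rfl⟩ := Nat.exists_eq_add_of_lt hmn
  clear hmn
  induction k with
  | zero => exact card_succ hm
  | succ k ih => exact ih.trans (card_succ (by omega))

/-- Divisors of `q ^ i - 1`. -/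
theorem dvd_iff {p e : ℕ} [hp : Fact p.Prime] {q : ℕ} (hq : 1 ≤ q)
    (he : orderOf ((q : ℕ) : ZMod p) = e) (i : ℕ) : p ∣ q ^ i - 1 ↔ e ∣ i := by
  have h1 : 1 ≤ q ^ i := Nat.one_le_pow _ _ hq
  rw [← he, orderOf_dvd_iff_pow_eq_one, ← ZMod.natCast_eq_zero_iff, Nat.cast_sub h1, Nat.cast_pow,
    Nat.cast_one, sub_eq_zero]

end Cfsg.Agent.H957.S5
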