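import Cfsg.Agent.H957.S5Psl1

/-!
# Strong pairs of `PSL_n(q)` from pairs of semilinear maps (S2274)
-/

set_option autoImplicit false
set_option linter.unusedSectionVars false

namespace Cfsg.Agent.H957.S5

open Matrix
open Cfsg.Agent.H957.T5V Cfsg.Agent.H957.T5Tr Cfsg.Agent.H957.T5Conf
open Cfsg.Agent.H897.MeetPSL
open Cfsg.Agent.H533.T5 Cfsg.Agent.H132.S5 Cfsg.Agent.H106.MB Cfsg.Agent.H106.MT

variable {F : Type} [Field F] [Fintype F] {n p : ℕ}

/-- Semilinear maps with the induced automorphisms. -/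
def LfG (n : ℕ) (F : Type) [Field F] [Fintype F] :
    Subgroup (Equiv.Perm (Fin n → F) ×
      MulAut (Matrix.ProjectiveSpecialLinearGroup (Fin n) F)) where
  carrier := {r | Lf r.1 r.2}
  one_mem' := Lf.one
  mul_mem' := fun h h' => Lf.mul h h'
  inv_mem' := fun h => Lf.inv h

theorem isSolvable_lift (hn : 2 ≤ n) {H : Subgroup (Equiv.Perm (Fin n → F))}
    {K : Subgroup (MulAut (Matrix.ProjectiveSpecialLinearGroup (Fin n) F))}
    {L : Subgroup (Equiv.Perm (Fin n → F) ×
      MulAut (Matrix.ProjectiveSpecialLinearGroup (Fin n) F))} (hL : L ≤ LfG n F)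
    (hH : L.map (MonoidHom.fst _ _) = H) (hK : L.map (MonoidHom.snd _ _) = K)
    (hs : Group.IsSolvable ↥K) : Group.IsSolvable ↥H := by
  subst hH hK
  have h1 : Group.IsSolvable ↥L := by
    let f : L →* ↥(L.map (MonoidHom.snd _ _)) := (MonoidHom.snd _ _).subgroupMap L
    have h2 : Group.IsSolvable ↥f.ker := by
      refine Group.isSolvable_of_comm fun a b => ?_
      have key : ∀ a : f.ker, a.1.1.2 = 1 ∧ IsScal F a.1.1.1 := by
        intro a
        have h3 : a.1.1.2 = 1 := congrArg Subtype.val a.2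
        have h4 : Lf a.1.1.1 a.1.1.2 := hL a.1.2
        rw [h3] at h4
        exact ⟨h3, h4.scal hn⟩
      obtain ⟨ha, s, hs'⟩ := key a
      obtain ⟨hb, t, ht'⟩ := key b
      apply Subtype.ext
      apply Subtype.ext
      refine Prod.ext ?_ ?_
      · change a.1.1.1 * b.1.1.1 = b.1.1.1 * a.1.1.1
        ext1 v
        rw [Equiv.Perm.mul_apply, Equiv.Perm.mul_apply, hs', ht', ht', hs', smul_smul, smul_smul,
          mul_comm]
      · change a.1.1.2 * b.1.1.2 = b.1.1.2 * a.1.1.2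
        rw [ha, hb]
    exact Group.isSolvable_of_ker_le_range f.ker.subtype f (by rw [Subgroup.range_subtype])
  exact Group.isSolvable_of_surjective (f := (MonoidHom.fst _ _).subgroupMap L)
    ((MonoidHom.fst _ _).subgroupMap_surjective L)

variable {y z : Equiv.Perm (Fin n → F)}
  {c d : MulAut (Matrix.ProjectiveSpecialLinearGroup (Fin n) F)}

theorem apair_of_geom (hn : 2 ≤ n) (hy : Lf y c) (hz : Lf z d) {g : (Fin n → F) ≃ₗ[F] (Fin n → F)}
    (hg : LinearEquiv.det g = 1)
    (h : ¬ Group.IsSolvable ↥(Subgroup.closure ({y, toA g * z * (toA g)⁻¹} :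
      Set (Equiv.Perm (Fin n → F))))) :
    APair (MulAut.conj : Matrix.ProjectiveSpecialLinearGroup (Fin n) F →* MulAut _).range c d := by
  obtain ⟨s, hs⟩ := exists_rho hg
  refine ⟨MulAut.conj (prj n F s), ⟨_, rfl⟩, fun hsol => h ?_⟩
  have hz' : Lf (toA g * z * (toA g)⁻¹)
      (MulAut.conj (prj n F s) * d * (MulAut.conj (prj n F s))⁻¹) := by
    rw [← hs]
    exact ((lf_rho s).mul hz).mul (lf_rho s).inv
  refine isSolvable_lift hn (L := Subgroup.closure {(y, c), (toA g * z * (toA g)⁻¹,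
    MulAut.conj (prj n F s) * d * (MulAut.conj (prj n F s))⁻¹)}) ?_ ?_ ?_ hsol
  · rw [Subgroup.closure_le]
    rintro x (rfl | hx)
    · exact hy
    · rw [Set.mem_singleton_iff] at hx
      rw [hx]
      exact hz'
  · rw [closure_pair_map]
    rfl
  · rw [closure_pair_map]
    rfl

theorem bpair_of_geom (hn : 2 ≤ n) (hy : Lf y c) (hz : Lf z d) {g : (Fin n → F) ≃ₗ[F] (Fin n → F)}
    (hg : LinearEquiv.det g = 1)
    (h : ∀ k : ℕ, ¬ IsScal F ((y * (toA g * z * (toA g)⁻¹)) ^ p ^ k)) :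
    BPair p (MulAut.conj : Matrix.ProjectiveSpecialLinearGroup (Fin n) F →* MulAut _).range
      c d := by
  obtain ⟨s, hs⟩ := exists_rho hg
  refine ⟨MulAut.conj (prj n F s), ⟨_, rfl⟩, fun k hk => h k ?_⟩
  have hz' : Lf (toA g * z * (toA g)⁻¹)
      (MulAut.conj (prj n F s) * d * (MulAut.conj (prj n F s))⁻¹) := by
    rw [← hs]
    exact ((lf_rho s).mul hz).mul (lf_rho s).inv
  exact (((hy.mul hz').pow (p ^ k)).scal_iff hn).2 hk

/-- Part (a) if a power of a conjugate of `z` is proportional to `y`. -/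
theorem apair_of_scl (hRS : RSHyp.{0} p) (hn : 2 ≤ n) (hp : p.Prime)
    [IsSimpleGroup (Matrix.ProjectiveSpecialLinearGroup (Fin n) F)]
    (hna : ¬ IsMulCommutative (Matrix.ProjectiveSpecialLinearGroup (Fin n) F)) (hy : Lf y c)
    (hz : Lf z d) (hc : orderOf c = p) {g : (Fin n → F) ≃ₗ[F] (Fin n → F)}
    (hg : LinearEquiv.det g = 1) {j : ℕ} (h : Scl F ((toA g * z * (toA g)⁻¹) ^ j) y) :
    APair (MulAut.conj : Matrix.ProjectiveSpecialLinearGroup (Fin n) F →* MulAut _).range c d := by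
  have hfin := finite_psl' n F
  obtain ⟨s, hs⟩ := exists_rho hg
  have hz' : Lf (toA g * z * (toA g)⁻¹)
      (MulAut.conj (prj n F s) * d * (MulAut.conj (prj n F s))⁻¹) := by
    rw [← hs]
    exact ((lf_rho s).mul hz).mul (lf_rho s).inv
  have h1 : (MulAut.conj (prj n F s) * d * (MulAut.conj (prj n F s))⁻¹) ^ j = c := by
    have h2 := (hz'.pow j).mul hy.inv
    have h3 : IsScal F ((toA g * z * (toA g)⁻¹) ^ j * y⁻¹) := by
      obtain ⟨t, -, ht⟩ := h
      exact ⟨t, fun v => by rw [Equiv.Perm.mul_apply, ht, apply_inv_self]⟩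
    exact mul_inv_eq_one.1 ((h2.scal_iff hn).1 h3)
  have hI := conj_range_normal (S := Matrix.ProjectiveSpecialLinearGroup (Fin n) F)
  refine APair.of_aligned (R := (MulAut.conj : Matrix.ProjectiveSpecialLinearGroup (Fin n) F →*
    MulAut _).range) hRS le_rfl hc (fun r hr => hI.conj_mem _ hr c)
    (s := MulAut.conj (prj n F s)) ⟨_, rfl⟩ j (h := 1) (Commute.one_right _)
    (fun r _ => Commute.one_right _) (by rw [zpow_natCast, h1, mul_one])
    (not_solvable_inn hna ?_)
  rintro rfl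
  rw [orderOf_one] at hc
  exact hp.one_lt.ne hc

end Cfsg.Agent.H957.S5
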