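import Cfsg.Agent.H957.S5Psl2
import Cfsg.Agent.H957.S5Psl3
import Cfsg.Agent.H957.S5Card
import Cfsg.Agent.H132.S5.CycChar
import Cfsg.Agent.H124.LinCyc
import Cfsg.Agent.H242.StrP.FCLin

/-!
# The strong row of `PSL_n(q)` in cross characteristic (S2274-C1)
-/

set_option autoImplicit false
set_option linter.unusedSectionVars false

universe u

namespace Cfsg.Agent.H957.S5

open Matrix
open Cfsg.Agent.H957.T5V Cfsg.Agent.H957.T5Tr Cfsg.Agent.H957.T5Conf
open Cfsg.Agent.H199.PslAut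
open Cfsg.Agent.ClassicalGeometry.AutPSL.Root
open Cfsg.Agent.ClassicalGeometry.AutPSL.Auto
open Cfsg.Agent.H897.MeetPSL
open Cfsg.Agent.H903.SylSemi (Ind scal scal_apply)
open Cfsg.Agent.H533.T5 Cfsg.Agent.H132.S5 Cfsg.Agent.H106.MB Cfsg.Agent.H106.MT

variable {F : Type} [Field F] [Fintype F] {n k p : ℕ}

/-- The rows of the smaller groups. -/
theorem srow_small (hk : 2 ≤ k) (hkn : k < n) (h4 : k = 2 → 4 ≤ Fintype.card F)
    (hb : SBelow.{0} p (Nat.card (Matrix.ProjectiveSpecialLinearGroup (Fin n) F))) :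
    SRow p (Matrix.ProjectiveSpecialLinearGroup (Fin k) F) := by
  have := finite_psl' k F
  have hs := Cfsg.Agent.H242.StrP.FC.simple_psl hk h4
  exact hb _ hs (Cfsg.Agent.H242.StrP.FC.not_comm_psl hs) (card_lt hk hkn)

/-- Linear maps induce inner-diagonal automorphisms. -/
theorem Lf.mem_inndiag {y : Equiv.Perm (Fin n → F)}
    {c : MulAut (Matrix.ProjectiveSpecialLinearGroup (Fin n) F)} (h : Lf y c)
    (hy : Semi (1 : F ≃+* F) y) : c ∈ Cfsg.inndiagPSL n F := by
  obtain ⟨A, rfl⟩ := exists_smap (show Cfsg.Agent.H903.SylSemi.Semi F y 1 from ⟨hy.add, hy.smul⟩)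
  have h1 : c = Psi n F A * phi n F 1 :=
    Ind.unique pr_surjective rho_injective h.ind (ind_smap A 1)
  rw [inndiag_eq, h1, map_one, mul_one]
  exact ⟨A, rfl⟩

/-- Inner automorphisms are induced by linear maps. -/
theorem Lf.eq_one_of_inner (hn : 2 ≤ n) {y : Equiv.Perm (Fin n → F)}
    {g : Matrix.ProjectiveSpecialLinearGroup (Fin n) F} (h : Lf y (MulAut.conj g)) {θ : F ≃+* F}
    (hy : Semi θ y) : θ = 1 := by
  obtain ⟨s, rfl⟩ := (pr_surjective : Function.Surjective (prj n F)) g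
  have h1 := (lf_rho s).inv.mul h
  rw [inv_mul_cancel] at h1
  obtain ⟨t, ht⟩ := h1.scal hn
  have : Nonempty (Fin n) := ⟨⟨0, by omega⟩⟩
  have : Nontrivial (Fin n → F) := Function.nontrivial
  obtain ⟨v, hv⟩ := exists_ne (0 : Fin n → F)
  have h2 : ∀ w, y w = t • rho n F s w := fun w => by
    have h3 := congrArg (rho n F s) (ht w)
    rw [Equiv.Perm.mul_apply, apply_inv_self, (semi_rho s).smul] at h3
    exact h3
  have hne : y v ≠ 0 := fun h0 => hv (y.injective (h0.trans hy.zero.symm))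
  ext a
  have h3 : y (a • v) = a • y v := by
    rw [h2, h2, (semi_rho s).smul, RingAut.one_apply, smul_comm]
  rw [hy.smul] at h3
  have h4 : (θ a - a) • y v = 0 := by rw [sub_smul, h3, sub_self]
  exact sub_eq_zero.1 ((smul_eq_zero.1 h4).resolve_right hne)

theorem Lf.inner (hn : 3 ≤ n) (hp : p.Prime) (hq : ¬ p ∣ Fintype.card F - 1)
    {y : Equiv.Perm (Fin n → F)}
    {c : MulAut (Matrix.ProjectiveSpecialLinearGroup (Fin n) F)} (h : Lf y c)
    (hy : Semi (1 : F ≃+* F) y) (hc : orderOf c = p) : ∃ g, c = MulAut.conj g := by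
  have := finite_psl' n F
  have hs : IsSimpleGroup (Matrix.ProjectiveSpecialLinearGroup (Fin n) F) :=
    Cfsg.Agent.H242.StrP.FC.simple_psl (by omega) (by omega)
  have hna := Cfsg.Agent.H242.StrP.FC.not_comm_psl hs
  exact Cfsg.Agent.H242.StrP.FC.inner_of_coprime
    (Cfsg.Agent.H242.StrP.FC.relIndex_psl (by omega)
      (Cfsg.Agent.H163.PG.center_of_simple hna)) hp
    (fun h1 => hq (h1.trans (Nat.gcd_dvd_right _ _))) (h.mem_inndiag hy) hc

/-- Cyclic Sylow subgroups for `e = n`. -/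
theorem cyclic_sylow [Fact p.Prime] (hp2 : p ≠ 2) (hn : 3 ≤ n)
    (he : orderOf ((Fintype.card F : ℕ) : ZMod p) = n)
    (P : Sylow p (Matrix.ProjectiveSpecialLinearGroup (Fin n) F)) :
    IsCyclic ↥(P : Subgroup (Matrix.ProjectiveSpecialLinearGroup (Fin n) F)) := by
  have hfin := finite_psl' n F
  exact Cfsg.Agent.H124.LinCyc.isCyclic_sylow_of_gl (ι := Fin n) hp2 (show 0 < n by omega)
    (dvd_iff Fintype.card_pos he) (by rw [Fintype.card_fin]; omega)
    (Matrix.SpecialLinearGroup.toGL : Matrix.SpecialLinearGroup (Fin n) F →* _)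
    Matrix.SpecialLinearGroup.toGL_injective
    (QuotientGroup.mk' (Subgroup.center (Matrix.SpecialLinearGroup (Fin n) F)))
    (QuotientGroup.mk'_surjective _) P

/-- Inner automorphisms, cyclic Sylow subgroups. -/
theorem spair_ii (hAA : AAHyp.{0} p) (hRS : RSHyp.{0} p) (hp : p.Prime) (hp2 : p ≠ 2)
    (hn : 3 ≤ n) (he : orderOf ((Fintype.card F : ℕ) : ZMod p) = n)
    {x y : Matrix.ProjectiveSpecialLinearGroup (Fin n) F}
    (hc : orderOf (MulAut.conj x) = p) (hd : orderOf (MulAut.conj y) = p) :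
    SPair p (MulAut.conj : Matrix.ProjectiveSpecialLinearGroup (Fin n) F →* MulAut _).range
      (MulAut.conj x) (MulAut.conj y) := by
  have : Fact p.Prime := ⟨hp⟩
  have := finite_psl' n F
  have hs : IsSimpleGroup (Matrix.ProjectiveSpecialLinearGroup (Fin n) F) :=
    Cfsg.Agent.H242.StrP.FC.simple_psl (by omega) (by omega)
  have hna := Cfsg.Agent.H242.StrP.FC.not_comm_psl hs
  have hinj := conj_injective_of_simple (S := Matrix.ProjectiveSpecialLinearGroup (Fin n) F) hna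
  rw [orderOf_injective _ hinj] at hc hd
  obtain ⟨P⟩ : Nonempty (Sylow p (Matrix.ProjectiveSpecialLinearGroup (Fin n) F)) := inferInstance
  have h1 := (spair_of_cyclic hAA hRS hna P (cyclic_sylow hp2 hn he P) hc hd).of_injective
    (MulAut.conj : Matrix.ProjectiveSpecialLinearGroup (Fin n) F →* MulAut _) hinj
  rwa [← MonoidHom.range_eq_map] at h1

/-- Inner against outer, cyclic Sylow subgroups. -/
theorem spair_io' (hAA : AAHyp.{0} p) (hRS : RSHyp.{0} p) (hp : p.Prime) (hp5 : 5 ≤ p)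
    (hpF : (p : F) ≠ 0) (hn : 3 ≤ n) (he : orderOf ((Fintype.card F : ℕ) : ZMod p) = n)
    {x : Matrix.ProjectiveSpecialLinearGroup (Fin n) F}
    {d : MulAut (Matrix.ProjectiveSpecialLinearGroup (Fin n) F)}
    (hc : orderOf (MulAut.conj x) = p) (hd : orderOf d = p) (hdo : ¬ ∃ g, d = MulAut.conj g) :
    SPair p (MulAut.conj : Matrix.ProjectiveSpecialLinearGroup (Fin n) F →* MulAut _).range
      (MulAut.conj x) d := by
  have : Fact p.Prime := ⟨hp⟩
  have := finite_psl' n F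
  have hs : IsSimpleGroup (Matrix.ProjectiveSpecialLinearGroup (Fin n) F) :=
    Cfsg.Agent.H242.StrP.FC.simple_psl (by omega) (by omega)
  have hna := Cfsg.Agent.H242.StrP.FC.not_comm_psl hs
  have hinj := conj_injective_of_simple (S := Matrix.ProjectiveSpecialLinearGroup (Fin n) F) hna
  rw [orderOf_injective _ hinj] at hc
  obtain ⟨s, hsF⟩ := CharP.exists F
  have hsp : s.Prime := CharP.char_is_prime F s
  have : Fact s.Prime := ⟨hsp⟩
  have hps : p ≠ s := by
    rintro rfl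
    exact hpF (CharP.cast_eq_zero F p)
  have hcent : Cfsg.Agent.H818.StrP.FieldCent p s
      (Matrix.ProjectiveSpecialLinearGroup (Fin n) F) := by
    rcases Cfsg.Agent.H242.StrP.FC.fieldCent_psl (F := F) (n := n) (s := s) (p := p) (by omega)
      (by omega) (by omega) hps with h | ⟨h, -⟩
    · exact h
    · omega
  have hcyc := cyclic_sylow (F := F) (n := n) (p := p) (by omega) hn he
  have hpS : p ∣ Nat.card (Matrix.ProjectiveSpecialLinearGroup (Fin n) F) := by
    rw [← hc]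
    exact orderOf_dvd_natCard x
  refine spair_io hAA hRS hp hna ?_ hc hd hdo ?_
  · intro d' hd' hdo' _
    obtain ⟨N, h1, h2, h3, h4, -, h5, -⟩ := hcent d' hd' hdo' hpS hcyc
    exact ⟨N, h1, h2, h3, h4, h5⟩
  · obtain ⟨N, h1, h2, h3, h4, h5, -⟩ := hcent d hd hdo hpS hcyc
    obtain ⟨⟨z, hzN⟩, hz⟩ := exists_prime_orderOf_dvd_card' (G := N) p h5
    rw [← Subgroup.orderOf_coe] at hz
    obtain ⟨P⟩ : Nonempty (Sylow p (Matrix.ProjectiveSpecialLinearGroup (Fin n) F)) :=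
      inferInstance
    obtain ⟨s, j, hsj⟩ := exists_conj_of_cyclic P (hcyc P) hc hz
    refine ⟨s⁻¹, h1 _ ?_⟩
    have h6 : s⁻¹ * x * s⁻¹⁻¹ = z ^ j := by
      rw [← hsj, conj_zpow]
      group
    rw [h6]
    exact N.zpow_mem hzN j

/-- **The strong row of `PSL_n(q)`, `n ≥ 3`, in cross characteristic.**  The hypothesis is needed
for `n = p ∣ q - 1`. -/
theorem srow_psl_of (hn : 3 ≤ n) (hp : p.Prime) (hp5 : 5 ≤ p) (hpF : (p : F) ≠ 0)
    (hAA : AAHyp.{0} p) (hRS : RSHyp.{0} p)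
    (hb : SBelow.{0} p (Nat.card (Matrix.ProjectiveSpecialLinearGroup (Fin n) F)))
    (hC2 : n = p → p ∣ Fintype.card F - 1 →
      SRow p (Matrix.ProjectiveSpecialLinearGroup (Fin 2) F) →
      ∀ (c d : Equiv.Perm (Fin n → F)) (l : F) (τ : F ≃+* F), Semi (1 : F ≃+* F) c →
      (∀ v, (c ^ p) v = l • v) → (∀ t : F, t ^ p ≠ l) → Semi τ d → IsScal F (d ^ p) →
      ¬ IsScal F d →
      (∃ g : (Fin n → F) ≃ₗ[F] (Fin n → F), LinearEquiv.det g = 1 ∧ ∀ k : ℕ,
        ¬ IsScal F ((c * (toA g * d * (toA g)⁻¹)) ^ p ^ k)) ∧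
      ((∃ g : (Fin n → F) ≃ₗ[F] (Fin n → F), LinearEquiv.det g = 1 ∧
        ¬ Group.IsSolvable ↥(Subgroup.closure ({c, toA g * d * (toA g)⁻¹} :
          Set (Equiv.Perm (Fin n → F))))) ∨
        ∃ g : (Fin n → F) ≃ₗ[F] (Fin n → F), LinearEquiv.det g = 1 ∧
          ∃ j : ℕ, Scl F ((toA g * d * (toA g)⁻¹) ^ j) c)) :
    SRow p (Matrix.ProjectiveSpecialLinearGroup (Fin n) F) := by
  have : Fact p.Prime := ⟨hp⟩
  have hfin := finite_psl' n F
  have hs : IsSimpleGroup (Matrix.ProjectiveSpecialLinearGroup (Fin n) F) :=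
    Cfsg.Agent.H242.StrP.FC.simple_psl (by omega) (by omega)
  have hna := Cfsg.Agent.H242.StrP.FC.not_comm_psl hs
  have hV : Module.finrank F (Fin n → F) = n := Module.finrank_fin_fun F
  intro c d hc hd
  obtain ⟨y, hy⟩ := exists_lf' (by omega) hp (by omega) hc
  obtain ⟨z, hz⟩ := exists_lf' (by omega) hp (by omega) hd
  obtain ⟨θ, hyθ⟩ := hy.semi
  obtain ⟨τ, hzτ⟩ := hz.semi
  obtain ⟨hyp, hyn⟩ := (hy.order (by omega) hp).1 hc
  obtain ⟨hzp, hzn⟩ := (hz.order (by omega) hp).1 hd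
  have ty := types hp hp5 hpF (by rw [hV]; omega) hyθ hyp hyn
  have tz := types hp hp5 hpF (by rw [hV]; omega) hzτ hzp hzn
  rw [hV] at ty tz
  by_cases hq : p ∣ Fintype.card F - 1
  · have hq6 : 6 ≤ Fintype.card F := by
      have h1 : 2 ≤ Fintype.card F := Fintype.one_lt_card
      have := Nat.le_of_dvd (by omega) hq
      omega
    -- the irreducible type
    have hB : ∀ {y z : Equiv.Perm (Fin n → F)} {τ : F ≃+* F}
        {c d : MulAut (Matrix.ProjectiveSpecialLinearGroup (Fin n) F)}, n = p → Lf y c →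
        Lf z d → orderOf c = p → Semi (1 : F ≃+* F) y →
        (∃ l : F, (∀ v, (y ^ p) v = l • v) ∧ ∀ t : F, t ^ p ≠ l) → Semi τ z →
        IsScal F (z ^ p) → ¬ IsScal F z →
        SPair p (MulAut.conj : Matrix.ProjectiveSpecialLinearGroup (Fin n) F →* MulAut _).range
          c d := by
      rintro y z τ c d hnp hy hz hc hy1 ⟨l, hl, hlp⟩ hzτ hzp hzn
      obtain ⟨⟨g, hg, h1⟩, h2⟩ := hC2 hnp hq (srow_small le_rfl (by omega) (by omega) hb) y z l τ hy1 hl hlp hzτ hzp hzn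
      refine SPair.mk' hp ?_ (bpair_of_geom (by omega) hy hz hg h1)
      rcases h2 with ⟨g', hg', h2⟩ | ⟨g', hg', j, hj⟩
      · exact apair_of_geom (by omega) hy hz hg' h2
      · exact apair_of_scl hRS (by omega) hp hna hy hz hc hg' hj
    have key : ∀ {y : Equiv.Perm (Fin n → F)} {θ : F ≃+* F},
        ((θ ≠ 1 ∧ orderOf θ = p ∧ ∀ k, 1 ≤ k → k ≤ n → Ns (F := F) k y) ∨
        (θ = 1 ∧ p ∣ Fintype.card F - 1 ∧ ∀ k, 2 ≤ k → k ≤ n → Ns (F := F) k y) ∨
        (θ = 1 ∧ p ∣ Fintype.card F - 1 ∧ Ns (F := F) p y ∧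
          ∃ l : F, (∀ v, (y ^ p) v = l • v) ∧ ∀ t : F, t ^ p ≠ l) ∨
        (θ = 1 ∧ ¬ p ∣ Fintype.card F - 1 ∧
          Ns (F := F) (orderOf ((Fintype.card F : ℕ) : ZMod p)) y)) →
        (∀ k, 2 ≤ k → k ≤ n → Ns (F := F) k y) ∨
        (θ = 1 ∧ Ns (F := F) p y ∧ ∃ l : F, (∀ v, (y ^ p) v = l • v) ∧ ∀ t : F, t ^ p ≠ l) := by
      rintro y θ (⟨-, -, h⟩ | ⟨-, -, h⟩ | ⟨h1, -, h2, h3⟩ | ⟨-, h, -⟩)
      · exact Or.inl fun k hk hkn => h k (by omega) hkn
      · exact Or.inl h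
      · exact Or.inr ⟨h1, h2, h3⟩
      · exact absurd hq h
    rcases key ty with ty | ⟨rfl, ty1, ty2⟩
    · rcases key tz with tz | ⟨rfl, tz1, tz2⟩
      · exact pair_of_ns (k := 2) le_rfl (by omega) hp hy hz hc hd (ty 2 le_rfl (by omega))
          (tz 2 le_rfl (by omega)) (srow_small le_rfl (by omega) (by omega) hb)
      · have hpn := ns_le tz1
        rw [hV] at hpn
        rcases Nat.lt_or_eq_of_le hpn with hlt | heq
        · exact pair_of_ns (k := p) (by omega) hlt hp hy hz hc hd (ty p (by omega) hpn) tz1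
            (srow_small (by omega) hlt (by omega) hb)
        · exact (hB heq.symm hz hy hd hzτ tz2 hyθ hyp hyn).symm
    · have hpn := ns_le ty1
      rw [hV] at hpn
      rcases Nat.lt_or_eq_of_le hpn with hlt | heq
      · refine pair_of_ns (k := p) (by omega) hlt hp hy hz hc hd ty1 ?_
          (srow_small (by omega) hlt (by omega) hb)
        rcases key tz with tz | ⟨-, tz, -⟩
        · exact tz p (by omega) hpn
        · exact tz
      · exact hB heq.symm hy hz hc hyθ ty2 hzτ hzp hzn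
  · -- `p` does not divide `q - 1`
    obtain ⟨e, he⟩ : ∃ e, orderOf ((Fintype.card F : ℕ) : ZMod p) = e := ⟨_, rfl⟩
    have key : ∀ {y : Equiv.Perm (Fin n → F)} {θ : F ≃+* F},
        ((θ ≠ 1 ∧ orderOf θ = p ∧ ∀ k, 1 ≤ k → k ≤ n → Ns (F := F) k y) ∨
        (θ = 1 ∧ p ∣ Fintype.card F - 1 ∧ ∀ k, 2 ≤ k → k ≤ n → Ns (F := F) k y) ∨
        (θ = 1 ∧ p ∣ Fintype.card F - 1 ∧ Ns (F := F) p y ∧
          ∃ l : F, (∀ v, (y ^ p) v = l • v) ∧ ∀ t : F, t ^ p ≠ l) ∨
        (θ = 1 ∧ ¬ p ∣ Fintype.card F - 1 ∧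
          Ns (F := F) (orderOf ((Fintype.card F : ℕ) : ZMod p)) y)) →
        (θ ≠ 1 ∧ orderOf θ = p ∧ ∀ k, 1 ≤ k → k ≤ n → Ns (F := F) k y) ∨
        (θ = 1 ∧ Ns (F := F) e y) := by
      rintro y θ (h | ⟨-, h, -⟩ | ⟨-, h, -⟩ | ⟨h1, -, h⟩)
      · exact Or.inl h
      · exact absurd h hq
      · exact absurd h hq
      · exact Or.inr ⟨h1, he ▸ h⟩
    have hcard2 : 2 ≤ Fintype.card F := Fintype.one_lt_card
    have hdvd := dvd_iff (p := p) (q := Fintype.card F) (by omega) he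
    have he0 : e ≠ 0 := by
      rintro rfl
      rw [orderOf_eq_zero_iff] at he
      apply he
      have h6 : ((Fintype.card F : ℕ) : ZMod p) ≠ 0 := by
        rw [Ne, ZMod.natCast_eq_zero_iff]
        intro h7
        apply hpF
        obtain ⟨r, hr⟩ := CharP.exists F
        obtain ⟨m, hrp, hm⟩ := FiniteField.card F r
        rw [hm] at h7
        rw [(Nat.prime_dvd_prime_iff_eq hp hrp).1 (hp.dvd_of_dvd_pow h7)]
        exact CharP.cast_eq_zero F r
      exact isOfFinOrder_iff_pow_eq_one.2 ⟨p - 1, by omega, ZMod.pow_card_sub_one_eq_one h6⟩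
    have he1 : e ≠ 1 := by
      rintro rfl
      apply hq
      have := (hdvd 1).2 dvd_rfl
      rwa [pow_one] at this
    have he4 : e = 2 → 4 ≤ Fintype.card F := by
      rintro rfl
      have h1 := (hdvd 2).2 dvd_rfl
      have h2 : Fintype.card F ^ 2 - 1 = (Fintype.card F + 1) * (Fintype.card F - 1) := by
        rw [← Nat.sq_sub_sq, one_pow]
      rw [h2] at h1
      rcases (Nat.Prime.dvd_mul hp).1 h1 with h3 | h3
      · have := Nat.le_of_dvd (by omega) h3
        omega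
      · exact absurd h3 hq
    rcases key ty with ⟨ty1, ty2, ty3⟩ | ⟨rfl, ty4⟩
    · rcases key tz with ⟨tz1, tz2, tz3⟩ | ⟨rfl, tz4⟩
      · have h4 := four_le_of_order hp5 ty2
        exact pair_of_ns (k := 2) le_rfl (by omega) hp hy hz hc hd (ty3 2 (by omega) (by omega))
          (tz3 2 (by omega) (by omega)) (srow_small le_rfl (by omega) (fun _ => h4) hb)
      · have hen := ns_le tz4
        rw [hV] at hen
        rcases Nat.lt_or_eq_of_le hen with hlt | heq
        · exact pair_of_ns (k := e) (by omega) hlt hp hy hz hc hd (ty3 e (by omega) hen) tz4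
            (srow_small (by omega) hlt he4 hb)
        · obtain ⟨x, rfl⟩ := hz.inner hn hp hq hzτ hd
          refine (spair_io' hAA hRS hp hp5 hpF hn (heq ▸ he) hd hc ?_).symm
          rintro ⟨g, rfl⟩
          exact ty1 (hy.eq_one_of_inner (by omega) hyθ)
    · have hen := ns_le ty4
      rw [hV] at hen
      rcases Nat.lt_or_eq_of_le hen with hlt | heq
      · refine pair_of_ns (k := e) (by omega) hlt hp hy hz hc hd ty4 ?_
          (srow_small (by omega) hlt he4 hb)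
        rcases key tz with ⟨-, -, tz⟩ | ⟨-, tz⟩
        · exact tz e (by omega) hen
        · exact tz
      · obtain ⟨x, rfl⟩ := hy.inner hn hp hq hyθ hc
        rcases key tz with ⟨tz, -, -⟩ | ⟨rfl, -⟩
        · refine spair_io' hAA hRS hp hp5 hpF hn (heq ▸ he) hc hd ?_
          rintro ⟨g, rfl⟩
          exact tz (hz.eq_one_of_inner (by omega) hzτ)
        · obtain ⟨x', rfl⟩ := hz.inner hn hp hq hzτ hd
          exact spair_ii hAA hRS hp (by omega) hn (heq ▸ he) hc hd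

/-- The same for all universes. -/
theorem srow_psl_cross_of (hp : p.Prime) (hp5 : 5 ≤ p) (hF : ¬ p ∣ Fintype.card F)
    (B : SBox.{u} p) {S : Type u} [Group S] [Finite S] (hb : SBelow.{u} p (Nat.card S))
    (hn : 3 ≤ n) (e : S ≃* Matrix.ProjectiveSpecialLinearGroup (Fin n) F)
    (hC2 : n = p → p ∣ Fintype.card F - 1 →
      SRow p (Matrix.ProjectiveSpecialLinearGroup (Fin 2) F) →
      ∀ (c d : Equiv.Perm (Fin n → F)) (l : F) (τ : F ≃+* F), Semi (1 : F ≃+* F) c →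
      (∀ v, (c ^ p) v = l • v) → (∀ t : F, t ^ p ≠ l) → Semi τ d → IsScal F (d ^ p) →
      ¬ IsScal F d →
      (∃ g : (Fin n → F) ≃ₗ[F] (Fin n → F), LinearEquiv.det g = 1 ∧ ∀ k : ℕ,
        ¬ IsScal F ((c * (toA g * d * (toA g)⁻¹)) ^ p ^ k)) ∧
      ((∃ g : (Fin n → F) ≃ₗ[F] (Fin n → F), LinearEquiv.det g = 1 ∧
        ¬ Group.IsSolvable ↥(Subgroup.closure ({c, toA g * d * (toA g)⁻¹} :
          Set (Equiv.Perm (Fin n → F))))) ∨
        ∃ g : (Fin n → F) ≃ₗ[F] (Fin n → F), LinearEquiv.det g = 1 ∧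
          ∃ j : ℕ, Scl F ((toA g * d * (toA g)⁻¹) ^ j) c)) : SRow p S := by
  have hpF : (p : F) ≠ 0 := by
    intro h0
    apply hF
    obtain ⟨r, hr⟩ := CharP.exists F
    obtain ⟨m, hrp, hm⟩ := FiniteField.card F r
    rw [CharP.cast_eq_zero_iff F r] at h0
    rw [hm, ← (Nat.prime_dvd_prime_iff_eq hrp hp).1 h0]
    exact dvd_pow_self r m.pos.ne'
  refine Cfsg.Agent.H897.T5Sub.SRow.congr e.symm
    (srow_psl_of hn hp hp5 hpF (aa_down B.aa) (rs_down B.rs) ?_ hC2)
  have h1 := below_down hb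
  rwa [Nat.card_congr e.toEquiv] at h1

end Cfsg.Agent.H957.S5
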