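import Mathlib
import Cfsg.Agent.H951.Lin
/-!
# Isometries of prime order without fixed vectors

An abstract existence principle: if an isometry group is transitive (in a strong, Witt-like sense) on a
set of vectors `P` which meets every non-degenerate non-zero subspace, and the prime `r` (not the
characteristic) divides the number of vectors in `P`, then there is an isometry `g` with `g ^ r = 1` which
fixes no non-zero vector.
-/

set_option autoImplicit false

namespace Cfsg.Agent.H957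

open Module Cfsg.Agent.H951

section

variable {F V : Type*} [Field F] [Finite F] [AddCommGroup V] [Module F V] [FiniteDimensional F V]

theorem finite_equiv : Finite (V ≃ₗ[F] V) := by
  have : Finite V := Module.finite_of_finite F
  exact Finite.of_injective (fun g : V ≃ₗ[F] V => (g : V → V)) (fun g h e => LinearEquiv.ext (congrFun e))

/-- Existence of isometries of prime order without fixed vectors. -/
theorem exists_no_fix {r : ℕ} [Fact r.Prime] (hr : (r : F) ≠ 0) (B : LinearMap.BilinForm F V)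
    (hB : B.Nondegenerate) (hrefl : B.IsRefl) (I : Subgroup (V ≃ₗ[F] V))
    (hI : ∀ g ∈ I, ∀ u v, B (g u) (g v) = B u v) (P : V → Prop)
    (hP : ∀ g ∈ I, ∀ v, P v → P (g v))
    (hP0 : ¬ P 0)
    (hT : ∀ (U : Submodule F V) (w₁ w₂ : V), P w₁ → P w₂ → (∀ u ∈ U, B u w₁ = 0) → (∀ u ∈ U, B u w₂ = 0) →
      w₁ ∉ U → w₂ ∉ U → ∃ g ∈ I, (∀ u ∈ U, g u = u) ∧ g w₁ = w₂)
    (hE : ∀ W : Submodule F V, W ≠ ⊥ → (∀ w ∈ W, (∀ w' ∈ W, B w w' = 0) → w = 0) → ∃ w ∈ W, P w)
    (hcard : r ∣ Nat.card {v : V // P v}) :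
    ∃ g ∈ I, g ^ r = 1 ∧ ∀ v, g v = v → v = 0 := by
  classical
  have hfin : Finite V := Module.finite_of_finite F
  have hfin2 : Finite (V ≃ₗ[F] V) := finite_equiv
  let S : Set (V ≃ₗ[F] V) := {g | g ∈ I ∧ g ^ r = 1}
  obtain ⟨g, ⟨hgI, hgr⟩, hmin⟩ := Set.exists_min_image S
    (fun g => finrank F ↥(fx (g : V →ₗ[F] V))) (Set.toFinite S) ⟨1, I.one_mem, one_pow r⟩
  refine ⟨g, hgI, hgr, ?_⟩
  by_contra hcon
  push Not at hcon
  obtain ⟨v₀, hv₀, hv₀0⟩ := hcon
  set x : Module.End F V := (g : V →ₗ[F] V) with hxdef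
  have hpow : ∀ (h : V ≃ₗ[F] V) (n : ℕ), ((h ^ n : V ≃ₗ[F] V) : V →ₗ[F] V) = (h : Module.End F V) ^ n := by
    intro h n
    induction n with
    | zero => rfl
    | succ n ih => rw [pow_succ, pow_succ, ← ih]; rfl
  have hxr : x ^ r = 1 := by
    rw [hxdef, ← hpow, hgr]; rfl
  have hcompl := isCompl_fx_cm hr hxr
  set W := fx x with hW
  set U := cm x with hU
  have hWne : W ≠ ⊥ := by
    intro h
    apply hv₀0
    have : v₀ ∈ W := mem_fx.2 hv₀
    rw [h] at this
    exact (Submodule.mem_bot F).1 this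
  -- orthogonality
  have horth : ∀ w ∈ W, ∀ u ∈ U, B w u = 0 := by
    intro w hw u hu
    obtain ⟨y, rfl⟩ := mem_cm.1 hu
    rw [map_sub, sub_eq_zero]
    have hw' : g w = w := mem_fx.1 hw
    calc B w (x y) = B (g w) (g y) := by rw [hw']; rfl
      _ = B w y := hI g hgI w y
  have horth' : ∀ w ∈ W, ∀ u ∈ U, B u w = 0 := fun w hw u hu => hrefl _ _ (horth w hw u hu)
  have hdecomp : ∀ v : V, ∃ w ∈ W, ∃ u ∈ U, w + u = v := by
    intro v
    have : v ∈ W ⊔ U := by rw [hcompl.sup_eq_top]; trivial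
    exact Submodule.mem_sup.1 this
  have hWnd : ∀ w ∈ W, (∀ w' ∈ W, B w w' = 0) → w = 0 := by
    intro w hw h
    apply hB.1
    intro v
    obtain ⟨w', hw', u, hu, rfl⟩ := hdecomp v
    rw [map_add, h w' hw', horth w hw u hu, add_zero]
  have hUperp : ∀ v : V, (∀ u ∈ U, B v u = 0) → v ∈ W := by
    intro v hv
    obtain ⟨w, hw, u, hu, rfl⟩ := hdecomp v
    have hu0 : u = 0 := by
      apply hB.1
      intro v'
      obtain ⟨w', hw', u', hu', rfl⟩ := hdecomp v'
      rw [map_add, horth' w' hw' u hu, zero_add]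
      have := hv u' hu'
      rw [map_add, LinearMap.add_apply, horth w hw u' hu', zero_add] at this
      exact this
    rw [hu0, add_zero]; exact hw
  obtain ⟨w₀, hw₀, hPw₀⟩ := hE W hWne hWnd
  -- the group acting on `W`
  let H : Subgroup (V ≃ₗ[F] V) :=
    { carrier := {h | h ∈ I ∧ ∀ u ∈ U, h u = u}
      mul_mem' := by
        rintro a b ⟨ha, ha'⟩ ⟨hb, hb'⟩
        exact ⟨I.mul_mem ha hb, fun u hu => by rw [LinearEquiv.mul_apply, hb' u hu, ha' u hu]⟩
      one_mem' := ⟨I.one_mem, fun u _ => rfl⟩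
      inv_mem' := by
        rintro a ⟨ha, ha'⟩
        refine ⟨I.inv_mem ha, fun u hu => ?_⟩
        have h1 : a⁻¹ (a u) = u := by
          rw [← LinearEquiv.mul_apply, inv_mul_cancel]; rfl
        rw [ha' u hu] at h1
        exact h1 }
  have hHW : ∀ h ∈ H, ∀ w ∈ W, h w ∈ W := by
    intro h hh w hw
    apply hUperp
    intro u hu
    have : B (h w) (h u) = B w u := hI h hh.1 w u
    rw [hh.2 u hu] at this
    rw [this, horth w hw u hu]
  let X : Set V := {v | v ∈ W ∧ P v}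
  have hXcard : r ∣ Nat.card X := by
    have h := card_modEq hxr {v | P v} (fun v hv => hP g hgI v hv)
    have h2 : Nat.card {v : V // v ∈ {v | P v} ∧ x v = v} = Nat.card X := by
      refine Nat.card_congr (Equiv.subtypeEquivRight fun v => ?_)
      constructor
      · rintro ⟨h1, h2⟩; exact ⟨mem_fx.2 h2, h1⟩
      · rintro ⟨h1, h2⟩; exact ⟨h2, mem_fx.1 h1⟩
    rw [h2] at h
    have h3 : Nat.card {v | P v} = Nat.card {v : V // P v} := rfl
    rw [h3] at h
    exact (Nat.modEq_zero_iff_dvd.1 (h.symm.trans (Nat.modEq_zero_iff_dvd.2 hcard)))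
  have horbit : MulAction.orbit H w₀ = X := by
    ext v
    constructor
    · rintro ⟨⟨h, hh⟩, rfl⟩
      exact ⟨hHW h hh w₀ hw₀, hP h hh.1 w₀ hPw₀⟩
    · rintro ⟨hvW, hPv⟩
      have hn : ∀ w ∈ W, P w → w ∉ U := by
        intro w hw hPw hwU
        have : w ∈ W ⊓ U := ⟨hw, hwU⟩
        rw [hcompl.inf_eq_bot] at this
        rw [(Submodule.mem_bot F).1 this] at hPw
        exact hP0 hPw
      obtain ⟨h, hhI, hhU, hh⟩ := hT U w₀ v hPw₀ hPv (fun u hu => horth' w₀ hw₀ u hu)
        (fun u hu => horth' v hvW u hu) (hn w₀ hw₀ hPw₀) (hn v hvW hPv)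
      exact ⟨⟨h, hhI, hhU⟩, hh⟩
  have hHcard : r ∣ Nat.card H := by
    have h1 := Nat.card_congr (MulAction.orbitEquivQuotientStabilizer H w₀)
    rw [horbit] at h1
    rw [h1] at hXcard
    exact hXcard.trans (Subgroup.card_quotient_dvd_card _)
  obtain ⟨⟨h, hhH⟩, hord⟩ := exists_prime_orderOf_dvd_card' r hHcard
  have hhr : h ^ r = 1 := by
    have := pow_orderOf_eq_one (⟨h, hhH⟩ : H)
    rw [hord] at this
    exact congrArg Subtype.val this
  have hh1 : h ≠ 1 := by
    intro h1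
    have : (⟨h, hhH⟩ : H) = 1 := Subtype.ext h1
    rw [this, orderOf_one] at hord
    exact (Fact.out : r.Prime).ne_one hord.symm
  have hgU : ∀ u ∈ U, g u ∈ U := fun u hu => inv_cm u hu
  have hcomm : g * h = h * g := by
    apply LinearEquiv.ext
    intro v
    obtain ⟨w, hw, u, hu, rfl⟩ := hdecomp v
    rw [LinearEquiv.mul_apply, LinearEquiv.mul_apply, map_add, map_add, map_add, map_add]
    have e1 : g (h w) = h w := mem_fx.1 (hHW h hhH w hw)
    have e2 : g w = w := mem_fx.1 hw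
    have e3 : h u = u := hhH.2 u hu
    have e4 : h (g u) = g u := hhH.2 _ (hgU u hu)
    rw [e1, e2, e3, e4]
  have hghr : (g * h) ^ r = 1 := by
    rw [(show Commute g h from hcomm).mul_pow, hgr, hhr, one_mul]
  have hlt := hmin (g * h) ⟨I.mul_mem hgI hhH.1, hghr⟩
  have hsub : fx (((g * h : V ≃ₗ[F] V)) : V →ₗ[F] V) ≤ W := by
    intro v hv
    have hv' : (g * h) v = v := mem_fx.1 hv
    obtain ⟨w, hw, u, hu, rfl⟩ := hdecomp v
    rw [LinearEquiv.mul_apply, map_add, map_add] at hv'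
    have e1 : g (h w) = h w := mem_fx.1 (hHW h hhH w hw)
    have e3 : h u = u := hhH.2 u hu
    rw [e1, e3] at hv'
    have hz : h w - w = u - g u := by
      rw [sub_eq_sub_iff_add_eq_add, hv', add_comm]
    have hz1 : h w - w ∈ W ⊓ U := by
      refine ⟨W.sub_mem (hHW h hhH w hw) hw, ?_⟩
      rw [hz]; exact U.sub_mem hu (hgU u hu)
    rw [hcompl.inf_eq_bot, Submodule.mem_bot] at hz1
    rw [hz1] at hz
    have hu' : g u = u := (sub_eq_zero.1 hz.symm).symm
    have : u ∈ W ⊓ U := ⟨mem_fx.2 hu', hu⟩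
    rw [hcompl.inf_eq_bot, Submodule.mem_bot] at this
    rw [this, add_zero]; exact hw
  have heq : fx (((g * h : V ≃ₗ[F] V)) : V →ₗ[F] V) = W := Submodule.eq_of_le_of_finrank_le hsub hlt
  apply hh1
  apply LinearEquiv.ext
  intro v
  obtain ⟨w, hw, u, hu, rfl⟩ := hdecomp v
  rw [map_add, hhH.2 u hu]
  have hw' : w ∈ fx (((g * h : V ≃ₗ[F] V)) : V →ₗ[F] V) := by rw [heq]; exact hw
  have hw2 : (g * h) w = w := mem_fx.1 hw'
  have e1 : g (h w) = h w := mem_fx.1 (hHW h hhH w hw)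
  rw [LinearEquiv.mul_apply, e1] at hw2
  rw [hw2]; rfl

end

end Cfsg.Agent.H957
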