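import Mathlib
import Cfsg.Prelude.Def_GeometricClasses
import Cfsg.Agent.H957.NoFixQuad
import Cfsg.Agent.ClassicalGeometry.GenReflections
/-!
# Linear automorphisms of `F^ι` and invertible matrices; elements of odd order lie in `Ω`
-/

set_option autoImplicit false

namespace Cfsg.Agent.H957

open Module QuadraticMap Matrix
open scoped MatrixGroups

section

variable {ι : Type} [Fintype ι] [DecidableEq ι] {F : Type*} [Field F]

/-- The invertible matrix of a linear automorphism. -/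
noncomputable def glOf (g : (ι → F) ≃ₗ[F] (ι → F)) : GL ι F where
  val := LinearMap.toMatrix' (g : (ι → F) →ₗ[F] (ι → F))
  inv := LinearMap.toMatrix' (g.symm : (ι → F) →ₗ[F] (ι → F))
  val_inv := by
    rw [← LinearMap.toMatrix'_comp]
    simp
  inv_val := by
    rw [← LinearMap.toMatrix'_comp]
    simp

theorem glOf_val (g : (ι → F) ≃ₗ[F] (ι → F)) :
    (glOf g : Matrix ι ι F) = LinearMap.toMatrix' (g : (ι → F) →ₗ[F] (ι → F)) := rfl

theorem glOf_mulVec (g : (ι → F) ≃ₗ[F] (ι → F)) (v : ι → F) : (glOf g : Matrix ι ι F) *ᵥ v = g v := by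
  rw [glOf_val, LinearMap.toMatrix'_mulVec]; rfl

theorem glOf_ext {x y : GL ι F} (h : ∀ v, (x : Matrix ι ι F) *ᵥ v = (y : Matrix ι ι F) *ᵥ v) : x = y := by
  apply Units.ext
  exact Matrix.ext_of_mulVec_single fun i => h _

theorem glOf_mul (g h : (ι → F) ≃ₗ[F] (ι → F)) : glOf (g * h) = glOf g * glOf h := by
  apply glOf_ext
  intro v
  rw [Units.val_mul, ← Matrix.mulVec_mulVec, glOf_mulVec, glOf_mulVec, glOf_mulVec]; rfl

theorem glOf_one : glOf (1 : (ι → F) ≃ₗ[F] (ι → F)) = 1 := by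
  apply glOf_ext
  intro v
  rw [glOf_mulVec]; simp

/-- `glOf` as a monoid homomorphism. -/
noncomputable def glHom (ι : Type) [Fintype ι] [DecidableEq ι] (F : Type*) [Field F] :
    ((ι → F) ≃ₗ[F] (ι → F)) →* GL ι F where
  toFun := glOf
  map_one' := glOf_one
  map_mul' := glOf_mul

theorem glOf_pow (g : (ι → F) ≃ₗ[F] (ι → F)) (n : ℕ) : glOf (g ^ n) = glOf g ^ n :=
  map_pow (glHom ι F) g n

/-- The linear automorphism of an invertible matrix. -/
noncomputable def eOf (x : GL ι F) : (ι → F) ≃ₗ[F] (ι → F) :=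
  LinearEquiv.ofLinearMap (Matrix.toLin' (x : Matrix ι ι F)) (Matrix.toLin' ((x⁻¹ : GL ι F) : Matrix ι ι F))
    (by rw [← Matrix.toLin'_mul, ← Units.val_mul, mul_inv_cancel]; simp)
    (by rw [← Matrix.toLin'_mul, ← Units.val_mul, inv_mul_cancel]; simp)

theorem eOf_apply (x : GL ι F) (v : ι → F) : eOf x v = (x : Matrix ι ι F) *ᵥ v := rfl

theorem coe_eOf (x : GL ι F) : ((eOf x : (ι → F) ≃ₗ[F] (ι → F)) : (ι → F) →ₗ[F] (ι → F))
    = Matrix.toLin' (x : Matrix ι ι F) := rfl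

theorem glOf_eOf (x : GL ι F) : glOf (eOf x) = x := by
  apply glOf_ext
  intro v
  rw [glOf_mulVec, eOf_apply]

theorem eOf_glOf (g : (ι → F) ≃ₗ[F] (ι → F)) : eOf (glOf g) = g := by
  apply LinearEquiv.ext
  intro v
  rw [eOf_apply, glOf_mulVec]

theorem mem_isometryGroup {Q : (ι → F) → F} {x : GL ι F} :
    x ∈ Cfsg.isometryGroup F Q ↔ ∀ v, Q ((x : Matrix ι ι F) *ᵥ v) = Q v := by
  constructor
  · intro h v; exact h v v
  · intro h u v; exact h u

theorem glOf_mem {Q : QuadraticForm F (ι → F)} {g : (ι → F) ≃ₗ[F] (ι → F)} (hg : g ∈ isoQ Q) :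
    glOf g ∈ Cfsg.isometryGroup F (⇑Q) := by
  rw [mem_isometryGroup]
  intro v
  rw [glOf_mulVec]; exact hg v

theorem eOf_mem {Q : QuadraticForm F (ι → F)} {x : GL ι F} (hx : x ∈ Cfsg.isometryGroup F (⇑Q)) :
    eOf x ∈ isoQ Q := fun v => (mem_isometryGroup.1 hx) v

/-- `omegaGL` membership. -/
theorem mem_omegaGL {Q : (ι → F) → F} {x : GL ι F} :
    x ∈ Cfsg.Geo.omegaGL Q ↔ ∃ h : x ∈ Cfsg.isometryGroup F Q, (⟨x, h⟩ : Cfsg.isometryGroup F Q) ∈ Cfsg.Omega F Q := by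
  constructor
  · rintro ⟨y, hy, rfl⟩
    exact ⟨y.2, hy⟩
  · rintro ⟨h, h'⟩
    exact ⟨⟨x, h⟩, h', rfl⟩

theorem isometry_of_omegaGL {Q : (ι → F) → F} {x : GL ι F} (hx : x ∈ Cfsg.Geo.omegaGL Q) (v : ι → F) :
    Q ((x : Matrix ι ι F) *ᵥ v) = Q v := by
  obtain ⟨h, -⟩ := mem_omegaGL.1 hx
  exact mem_isometryGroup.1 h v

end

/-- Squares lie in the commutator subgroup when the group is generated by involutions. -/
theorem sq_mem_commutator {G : Type*} [Group G] {S : Set G} (hS : Subgroup.closure S = ⊤)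
    (h2 : ∀ s ∈ S, s ^ 2 = 1) (g : G) : g ^ 2 ∈ commutator G := by
  rw [← Abelianization.ker_of, MonoidHom.mem_ker, map_pow]
  have : g ∈ Subgroup.closure S := by rw [hS]; trivial
  induction this using Subgroup.closure_induction with
  | mem x hx => rw [← map_pow, h2 x hx, map_one]
  | one => simp
  | mul x y _ _ hx hy => rw [map_mul, mul_pow, hx, hy, one_mul]
  | inv x _ hx => rw [map_inv, inv_pow, hx, inv_one]

theorem mem_commutator_of_odd {G : Type*} [Group G] {S : Set G} (hS : Subgroup.closure S = ⊤)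
    (h2 : ∀ s ∈ S, s ^ 2 = 1) {g : G} {r : ℕ} (hr : Odd r) (hg : g ^ r = 1) : g ∈ commutator G := by
  obtain ⟨k, hk⟩ := hr
  have h : g = (g ^ (k + 1)) ^ 2 := by
    rw [← pow_mul, show (k + 1) * 2 = r + 1 by omega, pow_succ, hg, one_mul]
  rw [h]
  exact sq_mem_commutator hS h2 _

section

variable {ι : Type} [Fintype ι] [DecidableEq ι] {F : Type*} [Field F]

/-- Isometries of odd order lie in `Ω`. -/
theorem mem_Omega_of_odd (Q : QuadraticForm F (ι → F)) (hQ : (polarBilin Q).Nondegenerate)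
    (h : Nat.card F ≠ 2 ∨ Fintype.card ι ≠ 4) {r : ℕ} (hr : Odd r) (g : Cfsg.isometryGroup F (⇑Q))
    (hg : g ^ r = 1) : g ∈ Cfsg.Omega F (⇑Q) := by
  refine mem_commutator_of_odd (ClassicalGeometry.GenReflections.closure_refls_eq_top Q hQ h) ?_ hr hg
  rintro s ⟨v, hv, hs⟩
  have : s = ClassicalGeometry.Reflection.reflIso Q v hv := Subtype.ext (Units.ext hs)
  rw [this, pow_two]
  exact ClassicalGeometry.Reflection.reflIso_mul_self Q v hv

theorem mem_omegaGL_of_odd (Q : QuadraticForm F (ι → F)) (hQ : (polarBilin Q).Nondegenerate)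
    (h : Nat.card F ≠ 2 ∨ Fintype.card ι ≠ 4) {r : ℕ} (hr : Odd r) (g : GL ι F)
    (hgI : g ∈ Cfsg.isometryGroup F (⇑Q)) (hg : g ^ r = 1) : g ∈ Cfsg.Geo.omegaGL (⇑Q) := by
  rw [mem_omegaGL]
  refine ⟨hgI, mem_Omega_of_odd Q hQ h hr _ ?_⟩
  apply Subtype.ext
  exact hg

end

end Cfsg.Agent.H957
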