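import Mathlib
import Cfsg.Agent.S0749
import Cfsg.Agent.H957.NoFix
/-!
# Witt's lemma for families (alternating forms) and symplectic elements without fixed vectors
-/

set_option autoImplicit false

namespace Cfsg.Agent.H957

open Module Cfsg.Agent.H951

section

variable {F V : Type*} [Field F] [AddCommGroup V] [Module F V] [FiniteDimensional F V]

/-- Witt's lemma for families, alternating forms. -/
theorem witt_family_alt (B : LinearMap.BilinForm F V) (hB : B.Nondegenerate) (hA : B.IsAlt) {ι : Type*}
    (x y : ι → V) (hx : LinearIndependent F x) (hy : LinearIndependent F y)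
    (h : ∀ i j, B (x i) (x j) = B (y i) (y j)) :
    ∃ g : V ≃ₗ[F] V, (∀ u v, B (g u) (g v) = B u v) ∧ ∀ i, g (x i) = y i := by
  let bx := Module.Basis.span hx
  let byy := Module.Basis.span hy
  let φ := bx.equiv byy (Equiv.refl ι)
  have hφ : ∀ i, φ (bx i) = byy i := fun i => bx.equiv_apply i byy (Equiv.refl ι)
  have hbx : ∀ i, (bx i : V) = x i := fun i => congrArg Subtype.val (Module.Basis.span_apply hx i)
  have hby : ∀ i, (byy i : V) = y i := fun i => congrArg Subtype.val (Module.Basis.span_apply hy i)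
  obtain ⟨g, hg, hg'⟩ := Cfsg.Agent.S0749.result B hB hA (Submodule.span F (Set.range x))
    (Submodule.span F (Set.range y)) φ (by
      have key : (B.restrict (Submodule.span F (Set.range y))).compl₁₂ (φ : _ →ₗ[F] _) (φ : _ →ₗ[F] _) =
          B.restrict (Submodule.span F (Set.range x)) := by
        refine LinearMap.BilinForm.ext_basis bx fun i j => ?_
        change B (φ (bx i) : V) (φ (bx j) : V) = B (bx i : V) (bx j : V)
        rw [hφ, hφ, hbx, hbx, hby, hby, h]
      intro u v
      exact LinearMap.congr_fun (LinearMap.congr_fun key u) v)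
  refine ⟨g, hg, fun i => ?_⟩
  have := hg' (bx i)
  rw [hbx, hφ, hby] at this
  exact this

/-- Witt transitivity for alternating forms, relative to a subspace `U` fixed pointwise. -/
theorem witt_fix_alt (B : LinearMap.BilinForm F V) (hB : B.Nondegenerate) (hA : B.IsAlt)
    (U : Submodule F V) (w₁ w₂ : V) (h₁ : ∀ u ∈ U, B u w₁ = 0)
    (h₂ : ∀ u ∈ U, B u w₂ = 0) (hn₁ : w₁ ∉ U) (hn₂ : w₂ ∉ U) :
    ∃ g : V ≃ₗ[F] V, (∀ u v, B (g u) (g v) = B u v) ∧ (∀ u ∈ U, g u = u) ∧ g w₁ = w₂ := by
  let b := Module.finBasis F U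
  let c : Fin (finrank F U) → V := fun i => (b i : V)
  have hspan : Submodule.span F (Set.range c) = U := by
    have : Set.range c = U.subtype '' Set.range b := by
      rw [← Set.range_comp]; rfl
    rw [this, Submodule.span_image, b.span_eq, Submodule.map_top, Submodule.range_subtype]
  have hli : LinearIndependent F c := b.linearIndependent.map' U.subtype (Submodule.ker_subtype U)
  have hc : ∀ i, c i ∈ U := fun i => (b i).2
  have hr := hA.isRefl
  obtain ⟨g, hg, hg'⟩ := witt_family_alt B hB hA
    (Fin.cons w₁ c : Fin (finrank F U + 1) → V) (Fin.cons w₂ c : Fin (finrank F U + 1) → V)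
    (linearIndependent_finCons.2 ⟨hli, by rwa [hspan]⟩)
    (linearIndependent_finCons.2 ⟨hli, by rwa [hspan]⟩)
    (by
      intro i j
      refine Fin.cases ?_ (fun i => ?_) i
      · refine Fin.cases ?_ (fun j => ?_) j
        · simp only [Fin.cons_zero]
          rw [hA w₁, hA w₂]
        · simp only [Fin.cons_zero, Fin.cons_succ]
          rw [hr _ _ (h₁ _ (hc j)), hr _ _ (h₂ _ (hc j))]
      · refine Fin.cases ?_ (fun j => ?_) j
        · simp only [Fin.cons_zero, Fin.cons_succ]
          rw [h₁ _ (hc i), h₂ _ (hc i)]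
        · rfl)
  refine ⟨g, hg, ?_, by simpa using hg' 0⟩
  have hfix : ∀ i, g (c i) = c i := fun i => by simpa using hg' i.succ
  intro u hu
  rw [← hspan] at hu
  induction hu using Submodule.span_induction with
  | mem x hx => obtain ⟨i, rfl⟩ := hx; exact hfix i
  | zero => exact map_zero g
  | add x y _ _ hx hy => rw [map_add, hx, hy]
  | smul a x _ hx => rw [map_smul, hx]

/-- The isometry group of a bilinear form, inside `V ≃ₗ[F] V`. -/
def isoB (B : LinearMap.BilinForm F V) : Subgroup (V ≃ₗ[F] V) where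
  carrier := {g | ∀ u v, B (g u) (g v) = B u v}
  mul_mem' := by
    intro a b ha hb u v
    rw [LinearEquiv.mul_apply, LinearEquiv.mul_apply, ha, hb]
  one_mem' := fun u v => rfl
  inv_mem' := by
    intro a ha u v
    have h := ha (a⁻¹ u) (a⁻¹ v)
    rw [← LinearEquiv.mul_apply, ← LinearEquiv.mul_apply, mul_inv_cancel] at h
    exact h.symm

omit [FiniteDimensional F V] in
theorem mem_isoB {B : LinearMap.BilinForm F V} {g : V ≃ₗ[F] V} :
    g ∈ isoB B ↔ ∀ u v, B (g u) (g v) = B u v := Iff.rfl

/-- Symplectic elements of prime order without fixed vectors. -/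
theorem exists_no_fix_symp [Finite F] (B : LinearMap.BilinForm F V) (hB : B.Nondegenerate) (hA : B.IsAlt)
    {r : ℕ} [Fact r.Prime] (hr : (r : F) ≠ 0) (hcard : r ∣ Nat.card F ^ finrank F V - 1) :
    ∃ g ∈ isoB B, g ^ r = 1 ∧ ∀ v, g v = v → v = 0 := by
  have hfin : Finite V := Module.finite_of_finite F
  refine exists_no_fix hr B hB hA.isRefl (isoB B) (fun g hg => hg)
    (fun v => v ≠ 0) (fun g hg v hv => by simpa using hv) (by simp) ?_ ?_ ?_
  · intro U w₁ w₂ _ _ h₁ h₂ hn₁ hn₂
    exact witt_fix_alt B hB hA U w₁ w₂ h₁ h₂ hn₁ hn₂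
  · intro W hW _
    obtain ⟨w, hw, hw0⟩ := Submodule.exists_mem_ne_zero_of_ne_bot hW
    exact ⟨w, hw, hw0⟩
  · have h1 : Nat.card {v : V // v ≠ 0} = Nat.card V - 1 := by
      classical
      have := Fintype.ofFinite V
      rw [Nat.card_eq_fintype_card, Nat.card_eq_fintype_card]
      have := Fintype.card_subtype_compl (fun v : V => v = 0)
      simpa using this
    rw [h1, Module.natCard_eq_pow_finrank (K := F)]
    exact hcard

end

end Cfsg.Agent.H957
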