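import Mathlib

/-!
# Semilinear maps and the pair predicate on a vector space (T5, PSL / PSU rows)

`Semi σ c` : the permutation `c` of `V` is a `σ`-semilinear map.
`IsScal F x` : `x` is multiplication by an element of `F`.
`MP F p c d` : for some `g ∈ SL(V)` and some `i`, `j`, no `p`-power of
`c ^ i * (g d g⁻¹) ^ j` is a scalar.
`MPG` : the same with `g ∈ GL(V)`.
-/

set_option autoImplicit false

namespace Cfsg.Agent.H957.T5V

variable {F V : Type*} [Field F] [AddCommGroup V] [Module F V]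

theorem apply_inv_self {X : Type*} (c : Equiv.Perm X) (v : X) : c (c⁻¹ v) = v :=
  Equiv.apply_symm_apply c v

theorem inv_apply_self {X : Type*} (c : Equiv.Perm X) (v : X) : c⁻¹ (c v) = v :=
  Equiv.symm_apply_apply c v

/-- `c` is `σ`-semilinear. -/
structure Semi (σ : F ≃+* F) (c : Equiv.Perm V) : Prop where
  add : ∀ v w, c (v + w) = c v + c w
  smul : ∀ (a : F) (v : V), c (a • v) = σ a • c v

theorem Semi.zero {σ : F ≃+* F} {c : Equiv.Perm V} (hc : Semi σ c) : c 0 = 0 := by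
  have h := hc.add 0 0
  rwa [zero_add, left_eq_add] at h

theorem Semi.neg {σ : F ≃+* F} {c : Equiv.Perm V} (hc : Semi σ c) (v : V) : c (-v) = -c v := by
  have h := hc.add v (-v)
  rw [add_neg_cancel, hc.zero] at h
  exact (neg_eq_of_add_eq_zero_right h.symm).symm

theorem Semi.sub {σ : F ≃+* F} {c : Equiv.Perm V} (hc : Semi σ c) (v w : V) :
    c (v - w) = c v - c w := by
  rw [sub_eq_add_neg, hc.add, hc.neg, ← sub_eq_add_neg]

theorem Semi.one : Semi (1 : F ≃+* F) (1 : Equiv.Perm V) := ⟨fun _ _ => rfl, fun _ _ => rfl⟩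

theorem Semi.mul {σ τ : F ≃+* F} {c d : Equiv.Perm V} (hc : Semi σ c) (hd : Semi τ d) :
    Semi (σ * τ) (c * d) := by
  constructor
  · intro v w
    rw [Equiv.Perm.mul_apply, hd.add, hc.add]
    rfl
  · intro a v
    rw [Equiv.Perm.mul_apply, hd.smul, hc.smul]
    rfl

theorem Semi.pow {σ : F ≃+* F} {c : Equiv.Perm V} (hc : Semi σ c) (m : ℕ) :
    Semi (σ ^ m) (c ^ m) := by
  induction m with
  | zero => rw [pow_zero, pow_zero]; exact Semi.one
  | succ m ih => rw [pow_succ, pow_succ]; exact ih.mul hc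

theorem Semi.inv {σ : F ≃+* F} {c : Equiv.Perm V} (hc : Semi σ c) : Semi (σ⁻¹) (c⁻¹) := by
  constructor
  · intro v w
    apply c.injective
    rw [hc.add, apply_inv_self, apply_inv_self, apply_inv_self]
  · intro a v
    apply c.injective
    rw [hc.smul, apply_inv_self, apply_inv_self]
    congr 1
    exact (RingEquiv.apply_symm_apply σ a).symm

/-- The permutation of a linear equivalence. -/
def toA : (V ≃ₗ[F] V) →* Equiv.Perm V where
  toFun g := g.toEquiv
  map_one' := rfl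
  map_mul' _ _ := rfl

@[simp] theorem toA_apply (g : V ≃ₗ[F] V) (v : V) : toA g v = g v := rfl

@[simp] theorem toA_inv_apply (g : V ≃ₗ[F] V) (v : V) : (toA g)⁻¹ (g v) = v := by
  rw [← toA_apply, inv_apply_self]

theorem toA_injective : Function.Injective (toA : (V ≃ₗ[F] V) →* Equiv.Perm V) := by
  intro g h hgh
  ext v
  exact DFunLike.congr_fun hgh v

theorem semi_toA (g : V ≃ₗ[F] V) : Semi (1 : F ≃+* F) (toA g) := by
  constructor
  · intro v w
    rw [toA_apply, map_add]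
    rfl
  · intro a v
    rw [toA_apply, map_smul]
    rfl

theorem exists_toA {c : Equiv.Perm V} (hc : Semi (1 : F ≃+* F) c) :
    ∃ g : V ≃ₗ[F] V, toA g = c :=
  ⟨{ c with
      map_add' := hc.add
      map_smul' := hc.smul }, rfl⟩

theorem Semi.conj {σ : F ≃+* F} {d : Equiv.Perm V} (hd : Semi σ d) (g : V ≃ₗ[F] V) :
    Semi σ (toA g * d * (toA g)⁻¹) := by
  have h := ((semi_toA g).mul hd).mul (semi_toA g).inv
  simpa using h

variable (F) in
/-- `x` is multiplication by a scalar. -/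
def IsScal (x : Equiv.Perm V) : Prop := ∃ a : F, ∀ v, x v = a • v

/-- Proportional semilinear maps. -/
def Scl (F : Type*) [Field F] [Module F V] (x y : Equiv.Perm V) : Prop :=
  ∃ s : F, s ≠ 0 ∧ ∀ v, x v = s • y v

theorem Scl.refl (x : Equiv.Perm V) : Scl F x x := ⟨1, one_ne_zero, fun v => (one_smul F _).symm⟩

theorem Scl.symm {x y : Equiv.Perm V} (h : Scl F x y) : Scl F y x := by
  obtain ⟨s, hs, h⟩ := h
  exact ⟨s⁻¹, inv_ne_zero hs, fun v => by rw [h, inv_smul_smul₀ hs]⟩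

theorem Scl.mul {σ : F ≃+* F} {x y x' y' : Equiv.Perm V} (hy : Semi σ y) (h : Scl F x y)
    (h' : Scl F x' y') : Scl F (x * x') (y * y') := by
  obtain ⟨s, hs, h⟩ := h
  obtain ⟨s', hs', h'⟩ := h'
  refine ⟨s * σ s', mul_ne_zero hs (by rwa [Ne, EmbeddingLike.map_eq_zero_iff]), fun v => ?_⟩
  rw [Equiv.Perm.mul_apply, Equiv.Perm.mul_apply, h, h', hy.smul, smul_smul]

theorem Scl.pow {σ : F ≃+* F} {x y : Equiv.Perm V} (hy : Semi σ y) (h : Scl F x y) (m : ℕ) :
    Scl F (x ^ m) (y ^ m) := by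
  induction m with
  | zero => exact Scl.refl 1
  | succ m ih => rw [pow_succ', pow_succ']; exact h.mul hy ih

theorem Scl.isScal_iff {x y : Equiv.Perm V} (h : Scl F x y) : IsScal F x ↔ IsScal F y := by
  obtain ⟨s, hs, h⟩ := h
  constructor
  · rintro ⟨a, ha⟩
    exact ⟨s⁻¹ * a, fun v => by rw [mul_smul, ← ha, h, inv_smul_smul₀ hs]⟩
  · rintro ⟨a, ha⟩
    exact ⟨s * a, fun v => by rw [mul_smul, ← ha, h]⟩

/-- A scalar multiple of an additive automorphism. -/
def smulA (s : Fˣ) (c : Equiv.Perm V) : Equiv.Perm V := toA (LinearEquiv.smulOfUnit s) * c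

@[simp] theorem smulA_apply (s : Fˣ) (c : Equiv.Perm V) (v : V) : smulA s c v = (s : F) • c v := rfl

theorem Semi.smulA {σ : F ≃+* F} {c : Equiv.Perm V} (hc : Semi σ c) (s : Fˣ) :
    Semi σ (smulA s c) := by
  have h := (semi_toA (LinearEquiv.smulOfUnit s)).mul hc
  rwa [one_mul] at h

theorem scl_smulA (s : Fˣ) (c : Equiv.Perm V) : Scl F (smulA s c) c :=
  ⟨s, s.ne_zero, fun _ => rfl⟩

variable (F) in
/-- The pair predicate: `SL(V)`-conjugates, powers allowed. -/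
def MP (p : ℕ) (c d : Equiv.Perm V) : Prop :=
  ∃ g : V ≃ₗ[F] V, LinearEquiv.det g = 1 ∧ ∃ i j : ℕ, ∀ k : ℕ,
    ¬ IsScal F ((c ^ i * (toA g * d * (toA g)⁻¹) ^ j) ^ p ^ k)

variable (F) in
/-- The pair predicate for `GL(V)`-conjugates. -/
def MPG (p : ℕ) (c d : Equiv.Perm V) : Prop :=
  ∃ g : V ≃ₗ[F] V, ∃ i j : ℕ, ∀ k : ℕ,
    ¬ IsScal F ((c ^ i * (toA g * d * (toA g)⁻¹) ^ j) ^ p ^ k)

theorem MP.of_scl {p : ℕ} {σ τ : F ≃+* F} {c c' d d' : Equiv.Perm V} (hc : Semi σ c)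
    (hd : Semi τ d) (hcc : Scl F c' c) (hdd : Scl F d' d) (h : MP F p c' d') : MP F p c d := by
  obtain ⟨g, hg, i, j, h⟩ := h
  refine ⟨g, hg, i, j, fun k hk => h k ?_⟩
  have h1 : Scl F (toA g * d' * (toA g)⁻¹) (toA g * d * (toA g)⁻¹) :=
    Scl.mul ((semi_toA g).mul hd) (Scl.mul (semi_toA g) (Scl.refl _) hdd) (Scl.refl _)
  have h2 : Scl F (c' ^ i * (toA g * d' * (toA g)⁻¹) ^ j) (c ^ i * (toA g * d * (toA g)⁻¹) ^ j) :=
    Scl.mul (hc.pow i) (hcc.pow hc i) (h1.pow (hd.conj g) j)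
  exact ((h2.pow ((hc.pow i).mul ((hd.conj g).pow j)) _).isScal_iff).2 hk

/-- Commuting with elements of every determinant allows to pass from `GL` to `SL`. -/
theorem MPG.toMP {p : ℕ} {c d : Equiv.Perm V} (h : MPG F p c d)
    (hc : ∀ δ : Fˣ, ∃ z : V ≃ₗ[F] V, LinearEquiv.det z = δ ∧ toA z * c = c * toA z) :
    MP F p c d := by
  obtain ⟨g, i, j, h⟩ := h
  obtain ⟨z, hz, hzc⟩ := hc ((LinearEquiv.det g)⁻¹)
  refine ⟨z * g, by rw [map_mul, hz, inv_mul_cancel], i, j, fun k hk => h k ?_⟩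
  have h1 : c ^ i * (toA (z * g) * d * (toA (z * g))⁻¹) ^ j
      = toA z * (c ^ i * (toA g * d * (toA g)⁻¹) ^ j) * (toA z)⁻¹ := by
    have h2 : toA (z * g) * d * (toA (z * g))⁻¹
        = toA z * (toA g * d * (toA g)⁻¹) * (toA z)⁻¹ := by
      rw [map_mul]; group
    have h3 : c ^ i * toA z = toA z * c ^ i :=
      ((Commute.pow_right (show Commute (toA z) c from hzc) i).eq).symm
    rw [h2, conj_pow]
    generalize (toA g * d * (toA g)⁻¹) ^ j = y
    rw [← mul_assoc, ← mul_assoc, h3]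
    group
  rw [h1, conj_pow] at hk
  obtain ⟨a, ha⟩ := hk
  refine ⟨a, fun v => ?_⟩
  have h4 := ha (z v)
  rw [Equiv.Perm.mul_apply, Equiv.Perm.mul_apply] at h4
  rw [toA_inv_apply, toA_apply, ← map_smul] at h4
  exact z.injective h4

theorem MPG.toMP_right {p : ℕ} {c d : Equiv.Perm V} (h : MPG F p c d)
    (hd : ∀ δ : Fˣ, ∃ z : V ≃ₗ[F] V, LinearEquiv.det z = δ ∧ toA z * d = d * toA z) :
    MP F p c d := by
  obtain ⟨g, i, j, h⟩ := h
  obtain ⟨z, hz, hzd⟩ := hd ((LinearEquiv.det g)⁻¹)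
  refine ⟨g * z, by rw [map_mul, hz, mul_inv_cancel], i, j, fun k hk => h k ?_⟩
  have h2 : toA (g * z) * d * (toA (g * z))⁻¹ = toA g * d * (toA g)⁻¹ := by
    have : toA (g * z) * d * (toA (g * z))⁻¹
        = toA g * (toA z * d) * (toA z)⁻¹ * (toA g)⁻¹ := by rw [map_mul]; group
    rw [this, hzd]; group
  rwa [h2] at hk

end Cfsg.Agent.H957.T5V
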