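import Mathlib
import Cfsg.Agent.H957.UStab
import Cfsg.Agent.H951.Lin
import Cfsg.Agent.S0277
/-!
# Unitary elements of prime order: elements without fixed vectors and their extensions by the identity
-/

set_option autoImplicit false

namespace Cfsg.Agent.H957.Uni

open Module Matrix
open scoped MatrixGroups
open Cfsg Cfsg.Agent.LieClassical.HermBasic Cfsg.Agent.H957 Cfsg.Agent.H951

variable {F : Type*} [Field F] {q : ℕ} [Fintype F]

omit [Fintype F] in
theorem orderOf_sq_of_odd {M : Type*} [Monoid M] {a : M} (h : Odd (orderOf a)) : orderOf (a ^ 2) = orderOf a := by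
  rw [orderOf_pow' a two_ne_zero, Nat.Coprime.gcd_eq_one h.coprime_two_right, Nat.div_one]

/-- Existence of a unitary matrix of prime order without fixed vectors. -/
theorem exists_fixed_free (hF : Fintype.card F = q ^ 2) {r : ℕ} [Fact r.Prime] (hrq : ¬ r ∣ q) {c : ℕ}
    (hc : orderOf (-(q : ZMod r)) = c) (hodd : Odd c) :
    ∃ x ∈ GU c F q, x ^ r = 1 ∧ ∀ v : Fin c → F, (x : Matrix (Fin c) (Fin c) F) *ᵥ v = v → v = 0 := by
  have hq := LieClassical.HermBasic.two_le hF
  have hrp : r.Prime := Fact.out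
  have hc0 : 0 < c := hodd.pos
  have hrF : (r : F) ≠ 0 := by
    intro h0
    obtain ⟨p, hp⟩ := CharP.exists F
    have hpr : p.Prime := CharP.char_is_prime F p
    rw [CharP.cast_eq_zero_iff F p] at h0
    have h1 : p = r := (Nat.prime_dvd_prime_iff_eq hpr hrp).1 h0
    obtain ⟨n, -, hn⟩ := FiniteField.card F p
    apply hrq
    rw [← h1]
    have h2 : p ∣ q ^ 2 := by rw [← hF, hn]; exact dvd_pow_self p n.ne_zero
    exact hpr.dvd_of_dvd_pow h2
  have hdvd : r ∣ Nat.card (GU c F q) := by
    rw [S0277.result hF]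
    apply Dvd.dvd.mul_left
    apply Dvd.dvd.trans _ (Finset.dvd_prod_of_mem _ (Finset.mem_range.2 (show c - 1 < c by omega)))
    rw [if_pos (by obtain ⟨k, hk⟩ := hodd; exact ⟨k, by omega⟩), show c - 1 + 1 = c by omega]
    rw [← ZMod.natCast_eq_zero_iff]
    have h1 : (-(q : ZMod r)) ^ c = 1 := by rw [← hc]; exact pow_orderOf_eq_one _
    rw [hodd.neg_pow] at h1
    push_cast
    linear_combination -h1
  have hfin : Finite (GU c F q) := Subtype.finite
  obtain ⟨x, hx⟩ := exists_prime_orderOf_dvd_card' (G := GU c F q) r hdvd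
  have hxr : (x : GL (Fin c) F) ^ r = 1 := by
    have := pow_orderOf_eq_one x
    rw [hx] at this
    exact congrArg Subtype.val this
  have hx1 : (x : GL (Fin c) F) ≠ 1 := by
    intro h
    have h1 : x = 1 := Subtype.ext h
    rw [h1, orderOf_one] at hx
    exact hrp.one_lt.ne hx
  refine ⟨x, x.2, hxr, ?_⟩
  set T : Module.End F (Fin c → F) := Matrix.toLin' ((x : GL (Fin c) F) : Matrix (Fin c) (Fin c) F) with hT
  have hTr : T ^ r = 1 := by
    rw [hT, ← Matrix.toLin'_pow, ← Units.val_pow_eq_pow_val, hxr, Units.val_one, Matrix.toLin'_one]; rfl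
  have hcompl := isCompl_fx_cm hrF hTr
  have hd := ord_dvd_finrank (F := F) (x := T) (W := cm T) hTr (fun w hw => by
    obtain ⟨y, rfl⟩ := mem_cm.1 hw
    exact mem_cm.2 ⟨T y, by rw [map_sub]⟩) (by rw [inf_comm]; exact hcompl.inf_eq_bot)
  have hord : orderOf ((Fintype.card F : ℕ) : ZMod r) = c := by
    rw [hF]
    push_cast
    rw [← neg_sq, orderOf_sq_of_odd (by rw [hc]; exact hodd), hc]
  rw [hord] at hd
  have hpos : 0 < finrank F (cm T) := by
    rw [Nat.pos_iff_ne_zero]
    intro h0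
    have h1 : cm T = ⊥ := Submodule.finrank_eq_zero.1 h0
    apply hx1
    apply glOf_ext
    intro v
    rw [Units.val_one, Matrix.one_mulVec, ← sub_eq_zero]
    have h2 : T v - v ∈ cm T := mem_cm.2 ⟨v, rfl⟩
    rw [h1] at h2
    exact (Submodule.mem_bot F).1 h2
  have hle := Nat.le_of_dvd hpos hd
  have hsum := Submodule.finrank_add_eq_of_isCompl hcompl
  rw [Module.finrank_fintype_fun_eq_card, Fintype.card_fin] at hsum
  have h3 : finrank F (fx T) = 0 := by omega
  have h4 : fx T = ⊥ := Submodule.finrank_eq_zero.1 h3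
  intro v hv
  have h5 : v ∈ fx T := mem_fx.2 hv
  rw [h4] at h5
  exact (Submodule.mem_bot F).1 h5

/-- Extension of a unitary matrix without fixed vectors by the identity. -/
theorem exists_extend (hF : Fintype.card F = q ^ 2) {r : ℕ} {c k : ℕ} {x : GL (Fin c) F} (hx : x ∈ GU c F q)
    (hxr : x ^ r = 1) (hfx : ∀ v : Fin c → F, (x : Matrix (Fin c) (Fin c) F) *ᵥ v = v → v = 0) :
    ∃ y ∈ GU (c + k) F q, y ^ r = 1 ∧
      finrank F ↥(LinearMap.ker (Matrix.toLin' (y : Matrix (Fin (c + k)) (Fin (c + k)) F) -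
        (1 : F) • (1 : Module.End F (Fin (c + k) → F)))) = k := by
  let E : ((Fin c → F) × (Fin k → F)) ≃ₗ[F] (Fin (c + k) → F) :=
    (LinearEquiv.sumArrowLequivProdArrow (Fin c) (Fin k) F F).symm.trans
      (LinearEquiv.funCongrLeft F F finSumFinEquiv.symm)
  have hE1 : ∀ p i, E p (Fin.castAdd k i) = p.1 i := by
    intro p i
    simp only [E, LinearEquiv.trans_apply, LinearEquiv.funCongrLeft_apply, LinearMap.funLeft_apply,
      finSumFinEquiv_symm_apply_castAdd, finSumFinEquiv_symm_apply_natAdd]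
    rfl
  have hE2 : ∀ p i, E p (Fin.natAdd c i) = p.2 i := by
    intro p i
    simp only [E, LinearEquiv.trans_apply, LinearEquiv.funCongrLeft_apply, LinearMap.funLeft_apply,
      finSumFinEquiv_symm_apply_castAdd, finSumFinEquiv_symm_apply_natAdd]
    rfl
  have hEh : ∀ p p', hermForm (c + k) F q (E p) (E p') = hermForm c F q p.1 p'.1 + hermForm k F q p.2 p'.2 := by
    intro p p'
    rw [herm_def, herm_def, herm_def, Fin.sum_univ_add]
    simp only [hE1, hE2]
  let P : ((Fin c → F) × (Fin k → F)) ≃ₗ[F] ((Fin c → F) × (Fin k → F)) :=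
    (eOf x).prodCongr (LinearEquiv.refl F (Fin k → F))
  have hP : ∀ p, P p = ((x : Matrix (Fin c) (Fin c) F) *ᵥ p.1, p.2) := fun p => rfl
  let g : (Fin (c + k) → F) ≃ₗ[F] (Fin (c + k) → F) := (E.symm.trans P).trans E
  have hg : ∀ p, g (E p) = E (P p) := fun p => by simp [g]
  have hgr : g ^ r = 1 := by
    have h1 : ∀ j : ℕ, ∀ p, (g ^ j) (E p) = E (((x ^ j : GL (Fin c) F) : Matrix (Fin c) (Fin c) F) *ᵥ p.1, p.2) := by
      intro j
      induction j with
      | zero => intro p; simp
      | succ j ih =>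
        intro p
        rw [pow_succ, LinearEquiv.mul_apply, hg, hP, ih, pow_succ, Units.val_mul, ← Matrix.mulVec_mulVec]
    ext1 v
    obtain ⟨p, rfl⟩ := E.surjective v
    rw [h1, hxr]
    simp
  have hxu := (ClassicalGeometry.GUBasic.mem_GU_iff x).1 hx
  refine ⟨glOf g, ?_, ?_, ?_⟩
  · rw [ClassicalGeometry.GUBasic.mem_GU_iff]
    intro u v
    obtain ⟨p, rfl⟩ := E.surjective u
    obtain ⟨p', rfl⟩ := E.surjective v
    rw [glOf_mulVec, glOf_mulVec, hg, hg, hEh, hEh, hP, hP]
    simp only [hxu]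
  · rw [← glOf_pow, hgr, glOf_one]
  · have h1 : LinearMap.ker (Matrix.toLin' (glOf g : Matrix (Fin (c + k)) (Fin (c + k)) F) -
        (1 : F) • (1 : Module.End F (Fin (c + k) → F))) =
        LinearMap.range ((E : ((Fin c → F) × (Fin k → F)) →ₗ[F] (Fin (c + k) → F)).comp
          (LinearMap.inr F (Fin c → F) (Fin k → F))) := by
      ext v
      obtain ⟨p, rfl⟩ := E.surjective v
      rw [LinearMap.mem_ker, LinearMap.sub_apply, sub_eq_zero, Matrix.toLin'_apply, glOf_mulVec, hg, one_smul,
        Module.End.one_apply, E.injective.eq_iff, hP, LinearMap.mem_range]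
      constructor
      · intro h
        have h2 := hfx p.1 (congrArg Prod.fst h)
        exact ⟨p.2, by
          rw [LinearMap.comp_apply]
          change E (0, p.2) = E p
          rw [← h2]⟩
      · rintro ⟨w, hw⟩
        have h2 : ((0 : Fin c → F), w) = p := E.injective hw
        rw [← h2]
        simp
    rw [h1, LinearMap.finrank_range_of_inj]
    · rw [Module.finrank_fintype_fun_eq_card, Fintype.card_fin]
    · exact E.injective.comp LinearMap.inr_injective

/-- Determinants of elements of prime order prime to `q + 1`. -/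
theorem det_eq_one_of_pow (hF : Fintype.card F = q ^ 2) {n r : ℕ} [Fact r.Prime] (hr : ¬ r ∣ q + 1)
    {x : GL (Fin n) F} (hx : x ∈ GU n F q) (hxr : x ^ r = 1) : (x : Matrix (Fin n) (Fin n) F).det = 1 := by
  have h1 := det_norm hF hx
  have h2 : (x : Matrix (Fin n) (Fin n) F).det ^ r = 1 := by
    rw [← Matrix.det_pow, ← Units.val_pow_eq_pow_val, hxr, Units.val_one, Matrix.det_one]
  have h3 := orderOf_dvd_of_pow_eq_one h1
  have h4 := orderOf_dvd_of_pow_eq_one h2
  have hco : Nat.Coprime r (q + 1) := (Nat.Prime.coprime_iff_not_dvd Fact.out).2 hr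
  exact orderOf_eq_one_iff.1 (Nat.eq_one_of_dvd_coprimes hco h4 h3)

end Cfsg.Agent.H957.Uni
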