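import Mathlib
import Cfsg.Agent.H957.UStab
import Cfsg.Agent.S0277
/-!
# The index of the stabiliser of a pair of complementary totally singular subspaces (Hermitian form)
-/

set_option autoImplicit false

namespace Cfsg.Agent.H957.Uni

open Module Matrix
open scoped MatrixGroups
open Cfsg Cfsg.Agent.LieClassical.HermBasic Cfsg.Agent.H957

variable {F : Type*} [Field F] {q n : ℕ}

/-- The unitary matrices fixing both members of a pair. -/
def fixPair (q : ℕ) (D : Fin 2 → Submodule F (Fin n → F)) : Subgroup (GL (Fin n) F) where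
  carrier := {g | g ∈ GU n F q ∧ ∀ i, (D i).map (Matrix.toLin' (g : Matrix (Fin n) (Fin n) F)) = D i}
  mul_mem' {a b} ha hb := ⟨(GU n F q).mul_mem ha.1 hb.1, fun i => by
    rw [Units.val_mul, Matrix.toLin'_mul, Submodule.map_comp, hb.2, ha.2]⟩
  one_mem' := ⟨(GU n F q).one_mem, fun i => by simp⟩
  inv_mem' {a} ha := ⟨(GU n F q).inv_mem ha.1, fun i => by
    conv_lhs => rw [← ha.2 i]
    rw [← Submodule.map_comp, ← Matrix.toLin'_mul, ← Units.val_mul, inv_mul_cancel]
    simp⟩

theorem mem_fixPair_of {D : Fin 2 → Submodule F (Fin n → F)} {g : GL (Fin n) F} (hg : g ∈ GU n F q)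
    (h : ∀ i, ∀ v ∈ D i, (g : Matrix (Fin n) (Fin n) F) *ᵥ v ∈ D i) : g ∈ fixPair q D := by
  refine ⟨hg, fun i => ?_⟩
  apply Submodule.eq_of_le_of_finrank_eq
  · rintro _ ⟨v, hv, rfl⟩
    exact h i v hv
  · exact LinearEquiv.finrank_map_eq (eOf g) (D i)

theorem fixPair_apply {D : Fin 2 → Submodule F (Fin n → F)} {g : GL (Fin n) F} (hg : g ∈ fixPair q D) (i : Fin 2)
    {v : Fin n → F} (hv : v ∈ D i) : (g : Matrix (Fin n) (Fin n) F) *ᵥ v ∈ D i := by
  rw [← hg.2 i, ← Matrix.toLin'_apply]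
  exact Submodule.mem_map_of_mem hv

theorem fixPair_le {D : Fin 2 → Submodule F (Fin n → F)} :
    fixPair q D ≤ Cfsg.Geo.decompositionStabilizer D ⊓ GU n F q :=
  fun _ hg => ⟨⟨1, fun i => by rw [hg.2, Equiv.Perm.one_apply]⟩, hg.1⟩

variable [Fintype F]

/-- The order of the pointwise stabiliser of the pair. -/
theorem card_fixPair (hF : Fintype.card F = q ^ 2) {m : ℕ} (hm : n = 2 * m) (hm0 : 0 < m)
    {D : Fin 2 → Submodule F (Fin n → F)} (hD : IsPair q D) :
    Nat.card (fixPair q D) = ∏ i : Fin m, ((q ^ 2) ^ m - (q ^ 2) ^ (i : ℕ)) := by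
  have hfr : ∀ i, finrank F (D i) = m := fun i => by have := hD.fr i; omega
  have hne : Nonempty (Fin m) := ⟨⟨0, hm0⟩⟩
  obtain ⟨e, f, he, hf, h⟩ := exists_frame_of_pair (m := m) hF (hD.ts 0) (hD.ts 1) hD.sup (hfr 0)
  have hcard : n = 2 * Fintype.card (Fin m) := by rw [Fintype.card_fin]; exact hm
  have h1 := card_linearIndependent (K := F) (V := D 0) (k := m) (le_of_eq (hfr 0).symm)
  rw [hfr 0, hF] at h1
  rw [← h1]
  have heli : LinearIndependent F e := by
    have := (h.linearIndependent hF).comp Sum.inl Sum.inl_injective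
    exact this
  have hspan : ∀ v, v ∈ D 0 → v ∈ Submodule.span F (Set.range e) := by
    intro v hv
    have h2 : Submodule.span F (Set.range e) = D 0 := by
      apply Submodule.eq_of_le_of_finrank_eq
      · rw [Submodule.span_le]
        rintro _ ⟨i, rfl⟩
        exact he i
      · rw [finrank_span_eq_card heli, Fintype.card_fin, hfr 0]
    rw [h2]; exact hv
  let φ : fixPair q D → { s : Fin m → D 0 // LinearIndependent F s } := fun g =>
    ⟨fun i => ⟨(g.1 : Matrix (Fin n) (Fin n) F) *ᵥ e i, fixPair_apply g.2 0 (he i)⟩, by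
      have h2 : LinearIndependent F (fun i => (eOf g.1 : (Fin n → F) →ₗ[F] (Fin n → F)) (e i)) :=
        heli.map' _ (LinearEquiv.ker (eOf g.1))
      exact LinearIndependent.of_comp (D 0).subtype h2⟩
  apply Nat.card_congr
  refine Equiv.ofBijective φ ⟨?_, ?_⟩
  · intro g g' hgg
    have h3 : ∀ i, (g.1 : Matrix (Fin n) (Fin n) F) *ᵥ e i = (g'.1 : Matrix (Fin n) (Fin n) F) *ᵥ e i := fun i => by
      have := congrFun (congrArg Subtype.val hgg) i
      exact congrArg Subtype.val this
    -- agree on `D 0`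
    have h4 : ∀ v ∈ D 0, (g.1 : Matrix (Fin n) (Fin n) F) *ᵥ v = (g'.1 : Matrix (Fin n) (Fin n) F) *ᵥ v := by
      intro v hv
      have h5 := LinearMap.eqOn_span (f := Matrix.toLin' (g.1 : Matrix (Fin n) (Fin n) F))
        (g := Matrix.toLin' (g'.1 : Matrix (Fin n) (Fin n) F)) (s := Set.range e) (by
          rintro _ ⟨i, rfl⟩
          rw [Matrix.toLin'_apply, Matrix.toLin'_apply]
          exact h3 i) (hspan v hv)
      rwa [Matrix.toLin'_apply, Matrix.toLin'_apply] at h5
    have hg := (ClassicalGeometry.GUBasic.mem_GU_iff g.1).1 g.2.1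
    have hg' := (ClassicalGeometry.GUBasic.mem_GU_iff g'.1).1 g'.2.1
    have h6 : ∀ v ∈ D 1, (g.1 : Matrix (Fin n) (Fin n) F) *ᵥ v = (g'.1 : Matrix (Fin n) (Fin n) F) *ᵥ v := by
      intro v hv
      rw [← sub_eq_zero]
      have h7 : (g.1 : Matrix (Fin n) (Fin n) F) *ᵥ v - (g'.1 : Matrix (Fin n) (Fin n) F) *ᵥ v ∈ D 1 :=
        (D 1).sub_mem (fixPair_apply g.2 1 hv) (fixPair_apply g'.2 1 hv)
      apply herm_nondeg hF
      intro w
      -- write w as image
      obtain ⟨a, ha, b, hb, hab⟩ : ∃ a ∈ D 0, ∃ b ∈ D 1, a + b = w := by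
        have : w ∈ D 0 ⊔ D 1 := by rw [hD.sup]; trivial
        exact Submodule.mem_sup.1 this
      obtain ⟨a', ha', rfl⟩ : ∃ a' ∈ D 0, (g.1 : Matrix (Fin n) (Fin n) F) *ᵥ a' = a := by
        have : a ∈ (D 0).map (Matrix.toLin' (g.1 : Matrix (Fin n) (Fin n) F)) := by rw [g.2.2]; exact ha
        obtain ⟨a', ha', h⟩ := this
        exact ⟨a', ha', h⟩
      rw [← hab, herm_add_right hF, hD.ts 1 _ h7 _ hb, add_zero, herm_sub_left, hg, h4 a' ha', hg', sub_self]
    apply Subtype.ext
    apply glOf_ext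
    intro v
    obtain ⟨a, ha, b, hb, rfl⟩ : ∃ a ∈ D 0, ∃ b ∈ D 1, a + b = v := by
      have : v ∈ D 0 ⊔ D 1 := by rw [hD.sup]; trivial
      exact Submodule.mem_sup.1 this
    rw [Matrix.mulVec_add, Matrix.mulVec_add, h4 a ha, h6 b hb]
  · rintro ⟨s, hs⟩
    have hs' : LinearIndependent F (fun i => (s i : Fin n → F)) :=
      hs.map' (D 0).subtype (Submodule.ker_subtype _)
    obtain ⟨f', hf', h'⟩ := exists_frame_of_basis hF (hD.ts 0) (hD.ts 1) hD.sup (fun i => (s i : Fin n → F))
      (fun i => (s i).2) hs'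
    obtain ⟨g, hg, hge, hgf⟩ := exists_map_frame hF hcard h h'
    have hspanf : ∀ v, v ∈ D 1 → v ∈ Submodule.span F (Set.range f) := by
      intro v hv
      have hfli : LinearIndependent F f := by
        have := (h.linearIndependent hF).comp Sum.inr Sum.inr_injective
        exact this
      have h2 : Submodule.span F (Set.range f) = D 1 := by
        apply Submodule.eq_of_le_of_finrank_eq
        · rw [Submodule.span_le]
          rintro _ ⟨i, rfl⟩
          exact hf i
        · rw [finrank_span_eq_card hfli, Fintype.card_fin, hfr 1]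
      rw [h2]; exact hv
    have hgD : g ∈ fixPair q D := by
      apply mem_fixPair_of hg
      intro i
      have key : ∀ (k : Fin m → (Fin n → F)) (W : Submodule F (Fin n → F)),
          (∀ j, (g : Matrix (Fin n) (Fin n) F) *ᵥ k j ∈ W) → ∀ v ∈ Submodule.span F (Set.range k),
            (g : Matrix (Fin n) (Fin n) F) *ᵥ v ∈ W := by
        intro k W hk v hv
        induction hv using Submodule.span_induction with
        | mem x hx => obtain ⟨i, rfl⟩ := hx; exact hk i
        | zero => rw [Matrix.mulVec_zero]; exact W.zero_mem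
        | add x y _ _ hx hy => rw [Matrix.mulVec_add]; exact W.add_mem hx hy
        | smul a x _ hx => rw [Matrix.mulVec_smul]; exact W.smul_mem a hx
      fin_cases i
      · intro v hv
        exact key e (D 0) (fun j => by rw [hge]; exact (s j).2) v (hspan v hv)
      · intro v hv
        exact key f (D 1) (fun j => by rw [hgf]; exact hf' j) v (hspanf v hv)
    refine ⟨⟨g, hgD⟩, ?_⟩
    apply Subtype.ext
    funext i
    apply Subtype.ext
    exact hge i

/-- The index of the stabiliser in the special unitary group. -/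
theorem relIndex_eq (hF : Fintype.card F = q ^ 2) {m : ℕ} (hm : n = 2 * m) (hm0 : 0 < m)
    {D : Fin 2 → Submodule F (Fin n → F)} (hD : IsPair q D) :
    (Cfsg.Geo.decompositionStabilizer D).relIndex (GU n F q ⊓ Cfsg.Geo.specialLinear (Fin n) F) =
      (Cfsg.Geo.decompositionStabilizer D).relIndex (GU n F q) := by
  have hfr : ∀ i, finrank F (D i) = m := fun i => by have := hD.fr i; omega
  have hne : Nonempty (Fin m) := ⟨⟨0, hm0⟩⟩
  obtain ⟨e, f, he, hf, h⟩ := exists_frame_of_pair (m := m) hF (hD.ts 0) (hD.ts 1) hD.sup (hfr 0)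
  have hcard : n = 2 * Fintype.card (Fin m) := by rw [Fintype.card_fin]; exact hm
  set H := Cfsg.Geo.decompositionStabilizer D with hH
  have hle : GU n F q ⊓ Cfsg.Geo.specialLinear (Fin n) F ≤ GU n F q := inf_le_left
  have hsurj : Function.Surjective (Subgroup.quotientSubgroupOfEmbeddingOfLE H hle) := by
    rintro ⟨g⟩
    obtain ⟨y, hy, hydet, hye, hyf⟩ := exists_diag_det hF hcard h (δ := (g.1 : Matrix (Fin n) (Fin n) F).det)
      (det_norm hF g.2)
    have hspan : ∀ (k : Fin m → (Fin n → F)) (W : Submodule F (Fin n → F)), LinearIndependent F k →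
        (∀ j, k j ∈ W) → finrank F W = m → (∀ j, ∃ a : F, a ≠ 0 ∧ (y : Matrix (Fin n) (Fin n) F) *ᵥ k j = a • k j) →
        ∀ v ∈ W, (y : Matrix (Fin n) (Fin n) F) *ᵥ v ∈ W := by
      intro k W hk hkW hW hyk v hv
      have h2 : Submodule.span F (Set.range k) = W := by
        apply Submodule.eq_of_le_of_finrank_eq
        · rw [Submodule.span_le]
          rintro _ ⟨i, rfl⟩
          exact hkW i
        · rw [finrank_span_eq_card hk, Fintype.card_fin, hW]
      rw [← h2] at hv
      induction hv using Submodule.span_induction with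
      | mem x hx =>
        obtain ⟨i, rfl⟩ := hx
        obtain ⟨a, -, ha⟩ := hyk i
        rw [ha]
        exact W.smul_mem a (hkW i)
      | zero => rw [Matrix.mulVec_zero]; exact W.zero_mem
      | add x y _ _ hx hy => rw [Matrix.mulVec_add]; exact W.add_mem hx hy
      | smul a x _ hx => rw [Matrix.mulVec_smul]; exact W.smul_mem a hx
    have hyD : y ∈ fixPair q D := by
      apply mem_fixPair_of hy
      intro i
      fin_cases i
      · exact hspan e (D 0) ((h.linearIndependent hF).comp Sum.inl Sum.inl_injective) he (hfr 0) hye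
      · exact hspan f (D 1) ((h.linearIndependent hF).comp Sum.inr Sum.inr_injective) hf (hfr 1) hyf
    have hyH : y ∈ H := (fixPair_le hyD).1
    refine ⟨QuotientGroup.mk (⟨g.1 * y⁻¹, (GU n F q).mul_mem g.2 ((GU n F q).inv_mem hy), ?_⟩ :
      (GU n F q ⊓ Cfsg.Geo.specialLinear (Fin n) F : Subgroup (GL (Fin n) F))), ?_⟩
    · have h3 : ((g.1 * y⁻¹ : GL (Fin n) F)) * y = g.1 := by group
      have h4 := congrArg (fun z : GL (Fin n) F => (z : Matrix (Fin n) (Fin n) F).det) h3
      simp only [Units.val_mul, Matrix.det_mul, hydet] at h4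
      apply mem_SL.2
      rw [Units.val_mul, Matrix.det_mul]
      have h5 : (g.1 : Matrix (Fin n) (Fin n) F).det ≠ 0 := by
        intro h0
        have := det_norm hF g.2
        rw [h0, zero_pow (by omega)] at this
        exact zero_ne_one this
      exact mul_right_cancel₀ h5 (by rw [h4, one_mul])
    · rw [Subgroup.quotientSubgroupOfEmbeddingOfLE_apply_mk]
      apply QuotientGroup.eq.2
      rw [Subgroup.mem_subgroupOf]
      have h6 : (g.1 * y⁻¹)⁻¹ * g.1 = y := by group
      simp only [Subgroup.coe_mul, Subgroup.coe_inv, Subgroup.coe_inclusion]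
      rw [h6]
      exact hyH
  exact Nat.card_congr (Equiv.ofBijective _ ⟨(Subgroup.quotientSubgroupOfEmbeddingOfLE H hle).injective, hsurj⟩)

omit [Fintype F] in
theorem card_mul_index (H : Subgroup (GL (Fin n) F)) :
    Nat.card (H ⊓ GU n F q : Subgroup (GL (Fin n) F)) * H.relIndex (GU n F q) = Nat.card (GU n F q) := by
  rw [← Subgroup.inf_relIndex_right]
  have h := Subgroup.relIndex_mul_relIndex (⊥ : Subgroup (GL (Fin n) F)) (H ⊓ GU n F q)
    (GU n F q) bot_le inf_le_right
  rwa [Subgroup.relIndex_bot_left, Subgroup.relIndex_bot_left] at h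

omit [Field F] [Fintype F] in
theorem prod_split (q m : ℕ) : ∏ i ∈ Finset.range (2 * m), (if Even i then q ^ (i + 1) + 1 else q ^ (i + 1) - 1) =
    (∏ j ∈ Finset.range m, (q ^ (2 * j + 1) + 1)) * ∏ j ∈ Finset.range m, (q ^ (2 * j + 2) - 1) := by
  induction m with
  | zero => simp
  | succ m ih =>
    rw [show 2 * (m + 1) = 2 * m + 1 + 1 by ring, Finset.prod_range_succ, Finset.prod_range_succ, ih,
      Finset.prod_range_succ, Finset.prod_range_succ, if_pos (even_two_mul m),
      if_neg (by rw [Nat.not_even_iff_odd]; exact odd_two_mul_add_one m)]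
    ring

omit [Field F] [Fintype F] in
theorem prod_gl (q m : ℕ) (hq : 1 ≤ q) : ∏ i : Fin m, ((q ^ 2) ^ m - (q ^ 2) ^ (i : ℕ)) =
    q ^ (m * (m - 1)) * ∏ j ∈ Finset.range m, (q ^ (2 * j + 2) - 1) := by
  have h1 : ∏ i : Fin m, ((q ^ 2) ^ m - (q ^ 2) ^ (i : ℕ)) =
      ∏ i ∈ Finset.range m, (q ^ (2 * i) * (q ^ (2 * (m - 1 - i) + 2) - 1)) := by
    rw [Finset.prod_range fun i => q ^ (2 * i) * (q ^ (2 * (m - 1 - i) + 2) - 1)]
    refine Finset.prod_congr rfl fun i _ => ?_
    rw [Nat.mul_sub, mul_one, ← pow_add, ← pow_mul, ← pow_mul]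
    congr 2
    have := i.2
    omega
  rw [h1, Finset.prod_mul_distrib, Finset.prod_range_reflect (fun j => q ^ (2 * j + 2) - 1) m,
    Finset.prod_pow_eq_pow_sum]
  congr 2
  rw [← Finset.mul_sum, mul_comm, Finset.sum_range_id_mul_two]

/-- Primes dividing the index. -/
theorem exists_dvd (hF : Fintype.card F = q ^ 2) {m : ℕ} (hm : n = 2 * m) (hm0 : 0 < m)
    {D : Fin 2 → Submodule F (Fin n → F)} (hD : IsPair q D) {r : ℕ} (hr : r.Prime) (hrq : ¬ r ∣ q)
    (h : r ∣ (Cfsg.Geo.decompositionStabilizer D).relIndex (GU n F q ⊓ Cfsg.Geo.specialLinear (Fin n) F)) :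
    ∃ j < m, r ∣ q ^ (2 * j + 1) + 1 := by
  have hq := LieClassical.HermBasic.two_le hF
  rw [relIndex_eq hF hm hm0 hD] at h
  have h1 := card_mul_index (q := q) (Cfsg.Geo.decompositionStabilizer D)
  obtain ⟨k, hk⟩ := Subgroup.card_dvd_of_le (fixPair_le (q := q) (D := D))
  rw [hk, card_fixPair hF hm hm0 hD, prod_gl q m (by omega), S0277.result hF n] at h1
  have h0 : q ^ (n * (n - 1) / 2) * ∏ i ∈ Finset.range n, (if Even i then q ^ (i + 1) + 1 else q ^ (i + 1) - 1) =
      q ^ (2 * m * (2 * m - 1) / 2) * ((∏ j ∈ Finset.range m, (q ^ (2 * j + 1) + 1)) *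
        ∏ j ∈ Finset.range m, (q ^ (2 * j + 2) - 1)) := by
    rw [hm, prod_split]
  rw [h0] at h1
  have hB : 0 < ∏ j ∈ Finset.range m, (q ^ (2 * j + 2) - 1) := Finset.prod_pos fun j _ => by
    have : 1 < q ^ (2 * j + 2) := Nat.one_lt_pow (by omega) (by omega)
    omega
  set B := ∏ j ∈ Finset.range m, (q ^ (2 * j + 2) - 1)
  set C := ∏ j ∈ Finset.range m, (q ^ (2 * j + 1) + 1) with hC
  set N := (Cfsg.Geo.decompositionStabilizer D).relIndex (GU n F q)
  have h2 : q ^ (m * (m - 1)) * k * N = q ^ (2 * m * (2 * m - 1) / 2) * C := by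
    apply Nat.eq_of_mul_eq_mul_right hB
    rw [mul_assoc (q ^ (2 * m * (2 * m - 1) / 2)) C B, ← h1]
    ring
  have h3 : r ∣ q ^ (2 * m * (2 * m - 1) / 2) * C := by
    rw [← h2]; exact Dvd.dvd.mul_left h _
  rcases hr.dvd_mul.1 h3 with h4 | h4
  · exact absurd (hr.dvd_of_dvd_pow h4) hrq
  · rw [hC, hr.prime.dvd_finset_prod_iff] at h4
    obtain ⟨j, hj, hj'⟩ := h4
    exact ⟨j, Finset.mem_range.1 hj, hj'⟩

end Cfsg.Agent.H957.Uni
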