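import Mathlib
import Cfsg.Agent.H957.UBad
import Cfsg.Agent.H957.UIndex
import Cfsg.Agent.H956.FieldArith
import Cfsg.Agent.ClassicalGeometry.UnitTransv
/-!
# Elements of prime order of the unitary group not conjugate into the stabiliser of a pair of complementary
totally singular subspaces
-/

set_option autoImplicit false

namespace Cfsg.Agent.H957.Uni

open Module Matrix
open scoped MatrixGroups
open Cfsg Cfsg.Agent.LieClassical.HermBasic Cfsg.Agent.H957

variable {F : Type*} [Field F] {q n : ℕ}

/-- The eigenspace of a matrix. -/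
abbrev eig (x : Matrix (Fin n) (Fin n) F) (c : F) : Submodule F (Fin n → F) :=
  LinearMap.ker (Matrix.toLin' x - c • (1 : Module.End F (Fin n → F)))

theorem mem_eig {x : Matrix (Fin n) (Fin n) F} {c : F} {v : Fin n → F} : v ∈ eig x c ↔ x *ᵥ v = c • v := by
  rw [LinearMap.mem_ker, LinearMap.sub_apply, sub_eq_zero, Matrix.toLin'_apply]; rfl

theorem finrank_eig_conj (x g : GL (Fin n) F) (c : F) :
    finrank F ↥(eig ((g⁻¹ * x * g : GL (Fin n) F) : Matrix (Fin n) (Fin n) F) c) =
      finrank F ↥(eig (x : Matrix (Fin n) (Fin n) F) c) := by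
  have h1 : (eig ((g⁻¹ * x * g : GL (Fin n) F) : Matrix (Fin n) (Fin n) F) c).map
      ((eOf g : (Fin n → F) ≃ₗ[F] (Fin n → F)) : (Fin n → F) →ₗ[F] (Fin n → F)) =
      eig (x : Matrix (Fin n) (Fin n) F) c := by
    have hgg : (g : Matrix (Fin n) (Fin n) F) * ((g⁻¹ : GL (Fin n) F) : Matrix (Fin n) (Fin n) F) = 1 := by
      rw [← Units.val_mul, mul_inv_cancel, Units.val_one]
    have hgg' : ((g⁻¹ : GL (Fin n) F) : Matrix (Fin n) (Fin n) F) * (g : Matrix (Fin n) (Fin n) F) = 1 := by
      rw [← Units.val_mul, inv_mul_cancel, Units.val_one]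
    ext v
    constructor
    · rintro ⟨w, hw, rfl⟩
      have hw' := mem_eig.1 hw
      rw [mem_eig]
      change (x : Matrix (Fin n) (Fin n) F) *ᵥ ((g : Matrix (Fin n) (Fin n) F) *ᵥ w) =
        c • ((g : Matrix (Fin n) (Fin n) F) *ᵥ w)
      have h2 := congrArg (fun u => (g : Matrix (Fin n) (Fin n) F) *ᵥ u) hw'
      simp only [Matrix.mulVec_mulVec, Matrix.mulVec_smul, Units.val_mul] at h2
      rw [← mul_assoc, ← mul_assoc, hgg, one_mul, ← Matrix.mulVec_mulVec] at h2
      exact h2
    · intro hv
      rw [mem_eig] at hv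
      refine ⟨((g⁻¹ : GL (Fin n) F) : Matrix (Fin n) (Fin n) F) *ᵥ v, ?_, ?_⟩
      · apply mem_eig.2
        rw [Units.val_mul, Units.val_mul, Matrix.mulVec_mulVec, mul_assoc, hgg, mul_one, ← Matrix.mulVec_mulVec, hv,
          Matrix.mulVec_smul]
      · change (g : Matrix (Fin n) (Fin n) F) *ᵥ (((g⁻¹ : GL (Fin n) F) : Matrix (Fin n) (Fin n) F) *ᵥ v) = v
        rw [Matrix.mulVec_mulVec, hgg, Matrix.one_mulVec]
  rw [← h1]
  exact (LinearEquiv.finrank_map_eq (eOf g) _).symm

variable [Fintype F]

/-- Elements with an eigenspace (for an eigenvalue of norm one) of odd dimension are not conjugate into the stabiliser,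
under an additional condition excluding that the two subspaces are interchanged. -/
theorem not_conj (hF : Fintype.card F = q ^ 2) (hn : 0 < n) {D : Fin 2 → Submodule F (Fin n → F)}
    (hD : IsPair q D) {x : GL (Fin n) F} (hx : x ∈ GU n F q) {c : F} (hc : c ^ (q + 1) = 1)
    (hodd : Odd (finrank F ↥(eig (x : Matrix (Fin n) (Fin n) F) c)))
    (hsw : (∃ r, Odd r ∧ x ^ r = 1) ∨ n < 2 * finrank F ↥(eig (x : Matrix (Fin n) (Fin n) F) c))
    {g : GL (Fin n) F} (hg : g ∈ GU n F q) : g⁻¹ * x * g ∉ Cfsg.Geo.decompositionStabilizer D := by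
  intro hmem
  have hc0 : c ≠ 0 := by
    rintro rfl
    rw [zero_pow (by omega)] at hc
    exact zero_ne_one hc
  have hy : g⁻¹ * x * g ∈ GU n F q := (GU n F q).mul_mem ((GU n F q).mul_mem ((GU n F q).inv_mem hg) hx) hg
  have hfr := finrank_eig_conj x g c
  have hyr : ∀ r : ℕ, x ^ r = 1 → (g⁻¹ * x * g) ^ r = 1 := by
    intro r hxr
    have h1 := conj_pow (i := r) (a := g⁻¹) (b := x)
    rw [inv_inv] at h1
    rw [h1, hxr]; group
  generalize g⁻¹ * x * g = y at hmem hy hfr hyr
  rcases stab_cases hmem with h | ⟨h, h'⟩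
  · have := even_finrank_eigen hF hD (Matrix.toLin' (y : Matrix (Fin n) (Fin n) F))
      (fun u v => (ClassicalGeometry.GUBasic.mem_GU_iff _).1 hy u v) (fun i v hv => h i v hv) hc
    change Even (finrank F ↥(eig (y : Matrix (Fin n) (Fin n) F) c)) at this
    rw [hfr] at this
    exact (Nat.not_even_iff_odd.2 hodd) this
  · rcases hsw with ⟨r, hr, hxr⟩ | hsw
    · obtain ⟨k, rfl⟩ := hr
      have h2 : ∀ j : ℕ, ∀ v ∈ D 0, ((y ^ (2 * j + 1) : GL (Fin n) F) : Matrix (Fin n) (Fin n) F) *ᵥ v ∈ D 1 := by
        intro j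
        induction j with
        | zero => intro v hv; rw [mul_zero, zero_add, pow_one]; exact h v hv
        | succ j ih =>
          intro v hv
          rw [show 2 * (j + 1) + 1 = 1 + (1 + (2 * j + 1)) by ring, pow_add, pow_add, pow_one, Units.val_mul,
            Units.val_mul, ← Matrix.mulVec_mulVec, ← Matrix.mulVec_mulVec]
          exact h _ (h' _ (ih v hv))
      have h3 : D 0 = ⊥ := by
        rw [eq_bot_iff, ← hD.inf]
        intro v hv
        refine ⟨hv, ?_⟩
        have := h2 k v hv
        rwa [hyr _ hxr, Units.val_one, Matrix.one_mulVec] at this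
      have h4 := hD.fr 0
      rw [h3, finrank_bot] at h4
      omega
    · have h1 := finrank_eigen_le_of_swap hD
        (Matrix.toLin' (y : Matrix (Fin n) (Fin n) F)) (fun v hv => h v hv) hc0
      change 2 * finrank F ↥(eig (y : Matrix (Fin n) (Fin n) F) c) ≤ n at h1
      rw [hfr] at h1
      omega

omit [Fintype F] in
/-- Eigenspaces of diagonal matrices. -/
theorem finrank_eig_diagonal (a : Fin n → F) (c : F) :
    finrank F ↥(eig (Matrix.diagonal a) c) + Nat.card {i // a i - c ≠ 0} = n := by
  classical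
  rw [Nat.card_eq_fintype_card]
  have h1 : Matrix.toLin' (Matrix.diagonal a) - c • (1 : Module.End F (Fin n → F)) =
      Matrix.toLin' (Matrix.diagonal fun i => a i - c) := by
    apply LinearMap.ext
    intro v
    ext i
    simp only [LinearMap.sub_apply, Matrix.toLin'_apply, Matrix.mulVec_diagonal, LinearMap.smul_apply,
      Module.End.one_apply, Pi.sub_apply, Pi.smul_apply, smul_eq_mul]
    ring
  have h2 := LinearMap.finrank_range_add_finrank_ker (Matrix.toLin' (Matrix.diagonal fun i => a i - c))
  have h3 : finrank F ↥(LinearMap.range (Matrix.toLin' (Matrix.diagonal fun i => a i - c))) =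
      Fintype.card {i // a i - c ≠ 0} := by
    rw [← Matrix.rank_diagonal (fun i => a i - c)]
    rfl
  rw [h3, Module.finrank_fintype_fun_eq_card, Fintype.card_fin] at h2
  rw [eig, h1]
  omega

/-- The transvections. -/
theorem exists_transvection (hF : Fintype.card F = q ^ 2) (p : ℕ) [Fact p.Prime] [CharP F p] {v : Fin n → F}
    (hv : v ≠ 0) (hvv : hermForm n F q v v = 0) :
    ∃ x ∈ GU n F q ⊓ Cfsg.Geo.specialLinear (Fin n) F, x ^ p = 1 ∧
      finrank F ↥(eig (x : Matrix (Fin n) (Fin n) F) 1) + 1 = n := by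
  obtain ⟨c, hc0, hc⟩ := exists_trace_zero_ne hF
  have hpow : ∀ j : ℕ, ∀ u : Fin n → F, (unitaryTransvection n q v c) ^ j *ᵥ u =
      u + ((j : F) * c * hermForm n F q u v) • v := by
    intro j
    induction j with
    | zero => intro u; simp
    | succ j ih =>
      intro u
      rw [pow_succ', ← Matrix.mulVec_mulVec, ih, ClassicalGeometry.UnitTransv.unitaryTransvection_mulVec, herm_add_left,
        herm_smul_left, hvv, mul_zero, add_zero, add_assoc, ← add_smul]
      congr 2
      push_cast; ring
  have hp : (unitaryTransvection n q v c) ^ p = (1 : Matrix (Fin n) (Fin n) F) := by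
    apply Matrix.ext_of_mulVec_single
    intro i
    rw [hpow, CharP.cast_eq_zero, zero_mul, zero_mul, zero_smul, add_zero, Matrix.one_mulVec]
  have hdet : (unitaryTransvection n q v c).det = 1 := ClassicalGeometry.UnitTransv.det_unitaryTransvection hvv c
  refine ⟨Matrix.GeneralLinearGroup.mkOfDetNeZero (unitaryTransvection n q v c) (by rw [hdet]; exact one_ne_zero),
    ⟨?_, ?_⟩, ?_, ?_⟩
  · apply (ClassicalGeometry.GUBasic.mem_GU_iff _).2
    intro u w
    change hermForm n F q (unitaryTransvection n q v c *ᵥ u) (unitaryTransvection n q v c *ᵥ w) = _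
    rw [ClassicalGeometry.UnitTransv.herm_utv hF hvv, hc, zero_mul, add_zero]
  · exact mem_SL.2 hdet
  · apply Units.ext
    rw [Units.val_pow_eq_pow_val, Units.val_one]
    exact hp
  · have hlf : (lf q v : Module.Dual F (Fin n → F)) ≠ 0 := by
      intro h0
      apply hv
      apply herm_nondeg hF
      intro w
      rw [herm_eq_zero_swap hF]
      have := LinearMap.congr_fun h0 w
      rwa [lf_apply] at this
    have h1 := Module.Dual.finrank_ker_add_one_of_ne_zero hlf
    rw [Module.finrank_fintype_fun_eq_card, Fintype.card_fin] at h1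
    have h2 : eig (unitaryTransvection n q v c) 1 = LinearMap.ker (lf q v) := by
      ext u
      rw [mem_eig, ClassicalGeometry.UnitTransv.unitaryTransvection_mulVec, one_smul, add_eq_left, LinearMap.mem_ker, lf_apply, smul_eq_zero,
        mul_eq_zero]
      constructor
      · rintro ((h | h) | h)
        · exact absurd h hc0
        · exact h
        · exact absurd h hv
      · intro h; exact Or.inl (Or.inr h)
    change finrank F ↥(eig (unitaryTransvection n q v c) 1) + 1 = n
    rw [h2, h1]

/-- The negative direction. -/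
theorem neg_direction {p : ℕ} [Fact p.Prime] [CharP F p] (hF : Fintype.card F = q ^ 2) (hn : 4 ≤ n) (he : Even n)
    {D : Fin 2 → Submodule F (Fin n → F)} (hD : IsPair q D) (r : ℕ) [Fact r.Prime]
    (hΩ : r ∣ (Cfsg.Geo.decompositionStabilizer D).relIndex (Cfsg.GU n F q ⊓ Cfsg.Geo.specialLinear (Fin n) F))
    (H : ∀ x ∈ Cfsg.GU n F q ⊓ Cfsg.Geo.specialLinear (Fin n) F, (∃ z : F, ((x ^ r : GL (Fin n) F) : Matrix (Fin n) (Fin n) F) = z • (1 : Matrix (Fin n) (Fin n) F)) →
      (∀ z : F, (x : Matrix (Fin n) (Fin n) F) ≠ z • (1 : Matrix (Fin n) (Fin n) F)) →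
      ∃ g ∈ Cfsg.GU n F q ⊓ Cfsg.Geo.specialLinear (Fin n) F, g⁻¹ * x * g ∈ Cfsg.Geo.decompositionStabilizer D) :
    r = 2 ∧ Odd q ∧ padicValNat 2 (q + 1) ≤ padicValNat 2 n := by
  classical
  have hrp : r.Prime := Fact.out
  have hpp : p.Prime := Fact.out
  have hq := LieClassical.HermBasic.two_le hF
  -- reformulation of the hypothesis
  have H' : ∀ x ∈ Cfsg.GU n F q ⊓ Cfsg.Geo.specialLinear (Fin n) F,
      (∃ z : F, ((x ^ r : GL (Fin n) F) : Matrix (Fin n) (Fin n) F) = z • (1 : Matrix (Fin n) (Fin n) F)) →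
      ∀ c : F, c ^ (q + 1) = 1 → Odd (finrank F ↥(eig (x : Matrix (Fin n) (Fin n) F) c)) →
      ((∃ s, Odd s ∧ x ^ s = 1) ∨ n < 2 * finrank F ↥(eig (x : Matrix (Fin n) (Fin n) F) c)) → False := by
    intro x hx hz c hc hodd hsw
    obtain ⟨g, hg, hgx⟩ := H x hx hz (by
      intro z hxz
      have h1 : finrank F ↥(eig (x : Matrix (Fin n) (Fin n) F) c) = 0 ∨
          finrank F ↥(eig (x : Matrix (Fin n) (Fin n) F) c) = n := by
        by_cases hzc : z = c
        · right
          have : eig (x : Matrix (Fin n) (Fin n) F) c = ⊤ := by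
            rw [eq_top_iff]
            intro v _
            rw [mem_eig, hxz, hzc, Matrix.smul_mulVec, Matrix.one_mulVec]
          rw [this, finrank_top, Module.finrank_fintype_fun_eq_card, Fintype.card_fin]
        · left
          have : eig (x : Matrix (Fin n) (Fin n) F) c = ⊥ := by
            rw [eq_bot_iff]
            intro v hv
            rw [mem_eig, hxz, Matrix.smul_mulVec, Matrix.one_mulVec, ← sub_eq_zero, ← sub_smul, smul_eq_zero] at hv
            exact hv.resolve_left (sub_ne_zero.2 hzc)
          rw [this, finrank_bot]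
      rcases h1 with h1 | h1
      · rw [h1] at hodd; exact absurd hodd (by decide)
      · rw [h1] at hodd; exact (Nat.not_even_iff_odd.2 hodd) he)
    exact not_conj hF (by omega) hD hx.1 hc hodd hsw hg.1 hgx
  have hone : ∀ x : GL (Fin n) F, ∀ s : ℕ, x ^ s = 1 → ∃ z : F, ((x ^ s : GL (Fin n) F) : Matrix (Fin n) (Fin n) F) =
      z • (1 : Matrix (Fin n) (Fin n) F) := fun x s h => ⟨1, by rw [h, Units.val_one, one_smul]⟩
  obtain ⟨m, hm⟩ := he
  have hm' : n = 2 * m := by omega
  -- the characteristic
  have hrp' : r ≠ p := by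
    rintro rfl
    have hfr0 : finrank F (D 0) ≠ 0 := by
      have := hD.fr 0
      omega
    obtain ⟨v, hv, hv0⟩ : ∃ v ∈ D 0, v ≠ 0 := by
      by_contra hcon
      push Not at hcon
      apply hfr0
      have : D 0 = ⊥ := by
        rw [eq_bot_iff]; intro v hv; exact hcon v hv
      rw [this, finrank_bot]
    obtain ⟨x, hx, hxp, hfr⟩ := exists_transvection hF r hv0 (hD.ts 0 v hv v hv)
    exact H' x hx (hone x r hxp) 1 (one_pow _) ⟨m - 1, by omega⟩ (Or.inr (by omega))
  have hrq : ¬ r ∣ q := by
    intro h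
    apply hrp'
    obtain ⟨k, -, hk⟩ := FiniteField.card F p
    have h1 : r ∣ p ^ (k : ℕ) := by rw [← hk, hF]; exact Dvd.dvd.trans h (dvd_pow_self q two_ne_zero)
    exact (Nat.prime_dvd_prime_iff_eq hrp hpp).1 (hrp.dvd_of_dvd_pow h1)
  have hsub : q + 1 ∣ q ^ 2 - 1 := ⟨q - 1, by
    have := Nat.sq_sub_sq q 1
    rw [one_pow] at this
    exact this⟩
  by_cases hr2 : r = 2
  · refine ⟨hr2, ?_, ?_⟩
    · rw [← Nat.not_even_iff_odd]
      rintro ⟨k, hk⟩
      apply hrq
      rw [hr2]
      exact ⟨k, by omega⟩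
    · by_contra hcon
      push Not at hcon
      subst hr2
      set a := padicValNat 2 n with ha
      have h2F : (2 : F) ≠ 0 := by
        intro h0
        have h1 : p ∣ 2 := (CharP.cast_eq_zero_iff F p 2).1 (by exact_mod_cast h0)
        exact hrp' ((Nat.prime_dvd_prime_iff_eq hpp hrp).1 h1).symm
      have hdvd : 2 ^ (a + 1) ∣ q + 1 := (padicValNat_dvd_iff_le (by omega)).2 (by omega)
      obtain ⟨u, hu⟩ := Cfsg.Agent.H956.FieldArith.exists_prim hF (hdvd.trans hsub)
      have hu1 : u ^ (q + 1) = 1 := by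
        obtain ⟨k, hk⟩ := hdvd
        rw [hk, pow_mul, hu.pow_eq_one, one_pow]
      have hun : u ^ n = -1 := by
        have h1 : u ^ (2 ^ a) = -1 := by
          have h2 : (u ^ (2 ^ a)) ^ 2 = 1 := by rw [← pow_mul, ← pow_succ, hu.pow_eq_one]
          have h9 : (u ^ (2 ^ a) - 1) * (u ^ (2 ^ a) + 1) = 0 := by linear_combination h2
          rcases (mul_eq_zero.1 h9).imp sub_eq_zero.1 eq_neg_of_add_eq_zero_left with h3 | h3
          · exfalso
            have h4 := hu.pow_ne_one_of_pos_of_lt (l := 2 ^ a) (by positivity)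
              (Nat.pow_lt_pow_right (by norm_num) (by omega))
            exact h4 h3
          · exact h3
        obtain ⟨k, hk⟩ := pow_padicValNat_dvd (p := 2) (n := n)
        rw [← ha] at hk
        have hkodd : Odd k := by
          rw [← Nat.not_even_iff_odd]
          rintro ⟨l, hl⟩
          have h5 : 2 ^ (a + 1) ∣ n := ⟨l, by rw [hk, hl, pow_succ]; ring⟩
          have h6 := (padicValNat_dvd_iff_le (p := 2) (show n ≠ 0 by omega)).1 h5
          omega
        conv_lhs => rw [hk]
        rw [pow_mul, h1, hkodd.neg_one_pow]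
      let i₀ : Fin n := ⟨0, by omega⟩
      let d : Fin n → F := fun i => if i = i₀ then -u else u
      have hdn : ∀ i, d i ^ (q + 1) = 1 := by
        intro i
        by_cases hi : i = i₀
        · have hqodd : Even (q + 1) := by
            rw [even_iff_two_dvd]
            exact Dvd.dvd.trans (dvd_pow_self 2 (by omega)) hdvd
          simp only [d, if_pos hi, hqodd.neg_pow, hu1]
        · simp only [d, if_neg hi, hu1]
      have hdet : (Matrix.diagonal d).det = 1 := by
        rw [Matrix.det_diagonal, ← Finset.mul_prod_erase _ _ (Finset.mem_univ i₀)]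
        have h3 : ∏ x ∈ Finset.univ.erase i₀, d x = u ^ (n - 1) := by
          rw [Finset.prod_congr rfl (g := fun _ => u), Finset.prod_const, Finset.card_erase_of_mem (Finset.mem_univ _),
            Finset.card_univ, Fintype.card_fin]
          intro i hi
          simp only [d, if_neg (Finset.ne_of_mem_erase hi)]
        rw [h3]
        simp only [d, if_pos]
        have h4 : u * u ^ (n - 1) = u ^ n := by rw [← pow_succ']; congr 1; omega
        rw [neg_mul, h4, hun, neg_neg]
      set x := ClassicalGeometry.GUBasic.guDiag q d hdn with hx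
      have hxc : ((x : GL (Fin n) F) : Matrix (Fin n) (Fin n) F) = Matrix.diagonal d := rfl
      have hu0 : u ≠ 0 := hu.ne_zero (by positivity)
      have hcount : Nat.card {i // d i - u ≠ 0} = 1 := by
        have h5 : ∀ i, d i - u ≠ 0 ↔ i = i₀ := by
          intro i
          by_cases hi : i = i₀
          · simp only [hi, iff_true]
            intro h6
            have h8 : d i₀ = -u := if_pos rfl
            rw [h8] at h6
            have h7 : (2 : F) * u = 0 := by linear_combination -h6
            exact (mul_ne_zero h2F hu0) h7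
          · simp only [d, if_neg hi, hi, sub_self, iff_false]
            exact fun h => h rfl
        rw [Nat.card_congr (Equiv.subtypeEquivRight h5)]
        simp
      have hfr := finrank_eig_diagonal d u
      rw [hcount] at hfr
      refine H' x ⟨x.2, ?_⟩ ⟨u ^ 2, ?_⟩ u hu1 ?_ (Or.inr ?_)
      · apply mem_SL.2; rw [hxc, hdet]
      · rw [Units.val_pow_eq_pow_val, hxc, Matrix.diagonal_pow, ← Matrix.diagonal_one, ← Matrix.diagonal_smul]
        congr 1
        funext i
        simp only [Pi.pow_apply, Pi.smul_apply, smul_eq_mul, mul_one, d]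
        split_ifs <;> ring
      · rw [hxc]; exact ⟨m - 1, by omega⟩
      · rw [hxc]; omega
  · exfalso
    have hrodd : Odd r := hrp.odd_of_ne_two hr2
    by_cases hrq1 : r ∣ q + 1
    · obtain ⟨u, hu⟩ := Cfsg.Agent.H956.FieldArith.exists_prim hF (hrq1.trans hsub)
      have hu1 : u ^ (q + 1) = 1 := by
        obtain ⟨k, hk⟩ := hrq1
        rw [hk, pow_mul, hu.pow_eq_one, one_pow]
      have hu0 : u ≠ 0 := hu.ne_zero hrp.ne_zero
      have hune1 : u ≠ 1 := hu.ne_one hrp.one_lt
      have huinv : u⁻¹ ≠ u := by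
        intro h
        have h1 : u ^ 2 = 1 := by
          rw [pow_two]
          nth_rewrite 1 [← h]
          exact inv_mul_cancel₀ hu0
        have h2 := (hu.pow_eq_one_iff_dvd 2).1 h1
        exact hr2 ((Nat.prime_dvd_prime_iff_eq hrp Nat.prime_two).1 h2)
      let i₀ : Fin n := ⟨0, by omega⟩
      let i₁ : Fin n := ⟨1, by omega⟩
      have hi01 : i₁ ≠ i₀ := by
        intro h
        have := congrArg Fin.val h
        simp [i₀, i₁] at this
      let d : Fin n → F := fun i => if i = i₀ then u else if i = i₁ then u⁻¹ else 1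
      have hdn : ∀ i, d i ^ (q + 1) = 1 := by
        intro i
        simp only [d]
        split_ifs
        · exact hu1
        · rw [inv_pow, hu1, inv_one]
        · exact one_pow _
      have hdet : (Matrix.diagonal d).det = 1 := by
        rw [Matrix.det_diagonal, ← Finset.mul_prod_erase _ _ (Finset.mem_univ i₀),
          ← Finset.mul_prod_erase _ _ (Finset.mem_erase.2 ⟨hi01, Finset.mem_univ i₁⟩)]
        have h3 : ∏ x ∈ (Finset.univ.erase i₀).erase i₁, d x = 1 := by
          apply Finset.prod_eq_one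
          intro i hi
          simp only [d, if_neg (Finset.ne_of_mem_erase (Finset.mem_of_mem_erase hi)),
            if_neg (Finset.ne_of_mem_erase hi)]
        rw [h3]
        simp only [d, if_pos, if_neg hi01, mul_one]
        exact mul_inv_cancel₀ hu0
      set x := ClassicalGeometry.GUBasic.guDiag q d hdn with hx
      have hxc : ((x : GL (Fin n) F) : Matrix (Fin n) (Fin n) F) = Matrix.diagonal d := rfl
      have hxr : (x : GL (Fin n) F) ^ r = 1 := by
        apply Units.ext
        rw [Units.val_pow_eq_pow_val, hxc, Matrix.diagonal_pow, Units.val_one, ← Matrix.diagonal_one]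
        congr 1
        funext i
        simp only [Pi.pow_apply, d]
        split_ifs
        · exact hu.pow_eq_one
        · rw [inv_pow, hu.pow_eq_one, inv_one]
        · exact one_pow _
      have hcount : Nat.card {i // d i - u ≠ 0} = n - 1 := by
        have h5 : ∀ i, d i - u ≠ 0 ↔ i ≠ i₀ := by
          intro i
          by_cases hi : i = i₀
          · simp [d, hi]
          · simp only [d, if_neg hi, ne_eq, hi, not_false_eq_true, iff_true]
            split_ifs
            · exact fun h => huinv (sub_eq_zero.1 h)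
            · exact fun h => hune1 (sub_eq_zero.1 h).symm
        rw [Nat.card_congr (Equiv.subtypeEquivRight h5), Nat.card_eq_fintype_card]
        simp
      have hfr := finrank_eig_diagonal d u
      rw [hcount] at hfr
      refine H' x ⟨x.2, ?_⟩ (hone _ r hxr) u hu1 ?_ (Or.inl ⟨r, hrodd, hxr⟩)
      · apply mem_SL.2; rw [hxc, hdet]
      · rw [hxc]; exact ⟨0, by omega⟩
    · obtain ⟨j, hj, hjd⟩ := exists_dvd hF hm' (by omega) hD hrp hrq hΩ
      set c := orderOf (-(q : ZMod r)) with hc
      have h1 : (-(q : ZMod r)) ^ (2 * j + 1) = 1 := by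
        rw [← ZMod.natCast_eq_zero_iff] at hjd
        push_cast at hjd
        rw [(odd_two_mul_add_one j).neg_pow]
        linear_combination -hjd
      have h2 : c ∣ 2 * j + 1 := orderOf_dvd_of_pow_eq_one h1
      have hcodd : Odd c := Odd.of_dvd_nat (odd_two_mul_add_one j) h2
      have hcle : c ≤ 2 * j + 1 := Nat.le_of_dvd (by omega) h2
      obtain ⟨x₀, hx₀, hx₀r, hfx⟩ := exists_fixed_free hF hrq hc.symm hcodd
      obtain ⟨k, hk⟩ : ∃ k, n = c + k := ⟨n - c, by omega⟩
      obtain ⟨y, hy, hyr, hfr⟩ := exists_extend (k := k) hF hx₀ hx₀r hfx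
      have hkodd : Odd k := by
        rw [← Nat.not_even_iff_odd]
        intro hke
        have : Odd n := by rw [hk]; exact hcodd.add_even hke
        exact (Nat.not_even_iff_odd.2 this) ⟨m, hm⟩
      subst hk
      exact H' y ⟨hy, mem_SL.2 (det_eq_one_of_pow hF hrq1 hy hyr)⟩ (hone y r hyr) 1 (one_pow _) (by
        change Odd (finrank F ↥(LinearMap.ker (Matrix.toLin' (y : Matrix (Fin (c + k)) (Fin (c + k)) F) -
          (1 : F) • (1 : Module.End F (Fin (c + k) → F)))))
        rw [hfr]; exact hkodd) (Or.inl ⟨r, hrodd, hyr⟩)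

end Cfsg.Agent.H957.Uni
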