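import Cfsg.Agent.H957.T5U10

/-!
# The types of linear elements: diagonalisable elements
-/

set_option autoImplicit false

namespace Cfsg.Agent.H957.T5U

open Cfsg Cfsg.Agent.LieClassical.HermBasic Cfsg.Agent.LieClassical.HermSiegel
open Cfsg.Agent.H957.T5V Cfsg.Agent.H957.T5Conf Cfsg.Agent.H957.T5Pairs Cfsg.Agent.H957.T5Two
  Cfsg.Agent.H957.T5Semi
open Module

variable {F : Type} [Field F] [Fintype F] {n q p : ℕ} {c : Equiv.Perm (Fin n → F)}

omit [Fintype F] in
theorem eig_pow (hc : SI q (1 : F ≃+* F) c) {v : Fin n → F} {d : F} (h : c v = d • v) (m : ℕ) :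
    (c ^ m) v = d ^ m • v := by
  rw [pow_eigen hc.semi h, nm_one]

omit [Fintype F] in
theorem eig_root (hc : SI q (1 : F ≃+* F) c) (hcp : c ^ p = 1) {v : Fin n → F} (hv : v ≠ 0)
    {d : F} (h : c v = d • v) : d ^ p = 1 := by
  have h2 := eig_pow hc h p
  rw [hcp, Equiv.Perm.one_apply] at h2
  have h3 : (d ^ p - 1) • v = 0 := by rw [sub_smul, one_smul, ← h2, sub_self]
  exact sub_eq_zero.1 ((smul_eq_zero.1 h3).resolve_right hv)

/-- Orthonormal eigenbasis with two different eigenvalues. -/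
theorem exists_eig_data (hF : Fintype.card F = q ^ 2) (hp : p.Prime)
    (hpq : p ∣ q + 1) (hn : 0 < n) (hc : SI q (1 : F ≃+* F) c) (hcp : c ^ p = 1)
    (hns : ¬ IsScal F c) :
    ∃ (b : Fin n → (Fin n → F)) (η : Fin n → F),
      (∀ i j, hermForm n F q (b i) (b j) = if i = j then 1 else 0) ∧
        (∀ i, c (b i) = η i • b i) ∧ (∀ i, η i ^ p = 1) ∧ (∀ i, η i * η i ^ q = 1) ∧
        ∃ i j, η i ≠ η j := by
  obtain ⟨b, hb, hbc⟩ := exists_onb_eig hF hp hpq hc hcp n le_rfl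
  choose η hη using hbc
  have hli := li_orth hF hb
  refine ⟨b, η, hb, hη, fun i => eig_root hc hcp (hli.ne_zero i) (hη i), ?_, ?_⟩
  · intro i
    have h := hc.herm (b i) (b i)
    rw [hη, herm_smul_left, herm_smul_right, hb] at h
    simpa using h
  · by_contra hcon
    push Not at hcon
    apply hns
    have hne : Nonempty (Fin n) := ⟨⟨0, hn⟩⟩
    let B : Module.Basis (Fin n) F (Fin n → F) :=
      basisOfLinearIndependentOfCardEqFinrank hli (by rw [finrank_fin_fun, Fintype.card_fin])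
    have hB : ∀ i, B i = b i := fun i => by simp [B]
    obtain ⟨f, hf, hfc⟩ := exists_end hc.semi
    refine ⟨η ⟨0, hn⟩, fun v => ?_⟩
    rw [← hf, ← B.sum_repr v, map_sum, Finset.smul_sum]
    refine Finset.sum_congr rfl fun i _ => ?_
    rw [map_smul, hB, hf, hη, hcon i ⟨0, hn⟩, smul_comm]

theorem fr_eig (hF : Fintype.card F = q ^ 2) (hp : p.Prime) (hp2 : p ≠ 2)
    (hpq : p ∣ q + 1) (hn : 0 < n) (hc : SI q (1 : F ≃+* F) c) (hcp : c ^ p = 1)
    (hns : ¬ IsScal F c) {t : F} (ht : t ^ q ≠ t) :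
    ∃ s : Fˣ, (s : F) * (s : F) ^ q = 1 ∧ ∃ e f, Fr hF (t ^ q - t) (smulA s c) e f := by
  obtain ⟨b, η, hb, hη, hηp, hηq, i, j, hij⟩ := exists_eig_data hF hp hpq hn hc hcp hns
  have hη0 : ∀ i, η i ≠ 0 := by
    intro i h
    have := hηq i
    rw [h, zero_mul] at this
    exact zero_ne_one this
  obtain ⟨m, hm⟩ := hp.odd_of_ne_two hp2
  -- `s² η i η j = 1`
  set s : F := (η i)⁻¹ * (η i * (η j)⁻¹) ^ (m + 1) with hs
  have hs0 : s ≠ 0 := mul_ne_zero (inv_ne_zero (hη0 i))
    (pow_ne_zero _ (mul_ne_zero (hη0 i) (inv_ne_zero (hη0 j))))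
  have hs2 : s * s * (η i * η j) = 1 := by
    have h1 : (η i * (η j)⁻¹) ^ (2 * m + 1) = 1 := by
      rw [← hm, mul_pow, inv_pow, hηp, hηp, inv_one, one_mul]
    have hu := mul_inv_cancel₀ (hη0 i)
    have hv := mul_inv_cancel₀ (hη0 j)
    have hX : (η i * (η j)⁻¹) ^ (m + 1) * (η i * (η j)⁻¹) ^ (m + 1) = η i * (η j)⁻¹ := by
      rw [← pow_add, show m + 1 + (m + 1) = (2 * m + 1) + 1 by ring, pow_succ, h1, one_mul]
    rw [hs]
    linear_combination ((η i)⁻¹ * (η i)⁻¹ * η i * η j) * hX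
      + (η j * (η j)⁻¹) * (η i * (η i)⁻¹ + 1) * hu + hv
  have hsq : s * s ^ q = 1 := by
    have h1 : ∀ i, (η i)⁻¹ * ((η i)⁻¹) ^ q = 1 := by
      intro i
      rw [inv_pow, ← mul_inv, hηq, inv_one]
    have h2 : (η i * (η j)⁻¹) * (η i * (η j)⁻¹) ^ q = 1 := by
      rw [mul_pow]
      linear_combination (hηq i) * ((η j)⁻¹ * (η j)⁻¹ ^ q) + h1 j
    have h3 : (η i * (η j)⁻¹) ^ (m + 1) * ((η i * (η j)⁻¹) ^ (m + 1)) ^ q = 1 := by
      rw [← pow_mul, mul_comm (m + 1) q, pow_mul, ← mul_pow, h2, one_pow]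
    rw [hs, mul_pow (η i)⁻¹]
    linear_combination (h1 i) * ((η i * (η j)⁻¹) ^ (m + 1) * ((η i * (η j)⁻¹) ^ (m + 1)) ^ q) + h3
  obtain ⟨a, ha0, ha⟩ := exists_norm_eq_ne hF (neg_one_pow_q hF) (neg_ne_zero.2 one_ne_zero)
  set κ : F := s * η i with hκ
  have hκ0 : κ ≠ 0 := mul_ne_zero hs0 (hη0 i)
  have hκq : κ * κ ^ q = 1 := by
    rw [hκ, mul_pow]
    linear_combination (η i * η i ^ q) * hsq + hηq i
  have hκj : s * η j = κ ^ q := by
    apply mul_left_cancel₀ hκ0
    rw [hκq, hκ]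
    linear_combination hs2
  have hci : ∀ x : F, smulA (Units.mk0 s hs0) c (x • b i) = (κ * x) • b i := by
    intro x
    rw [smulA_apply, Units.val_mk0, hc.semi.smul, hη, smul_smul, smul_smul, hκ]
    congr 1
    simp only [RingAut.one_apply]
    ring
  have hcj : ∀ x : F, smulA (Units.mk0 s hs0) c (x • b j) = (κ ^ q * x) • b j := by
    intro x
    rw [smulA_apply, Units.val_mk0, hc.semi.smul, hη, smul_smul, smul_smul, ← hκj]
    congr 1
    simp only [RingAut.one_apply]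
    ring
  have hci1 : smulA (Units.mk0 s hs0) c (b i) = κ • b i := by
    have := hci 1
    rwa [one_smul, mul_one] at this
  have hne : i ≠ j := by rintro rfl; exact hij rfl
  have hli := li_orth hF hb
  have hsemi := hc.semi.smulA (Units.mk0 s hs0)
  refine ⟨Units.mk0 s hs0, hsq, _, _, fr_of_onb hF (x := b i) (y := b j) (by rw [hb, if_pos rfl])
    (by rw [hb, if_pos rfl]) (by rw [hb, if_neg hne]) (a := a) (by rw [← ha]) ht ⟨κ, ?_⟩
    ⟨κ * t, ?_⟩ ?_⟩
  · rw [hsemi.add, hci1, hcj, mul_comm]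
  · rw [hsemi.add, hci, hcj, mul_pow]
    congr 2
    ring
  · rintro ⟨r, hr⟩
    have h1 := hr 1 0
    simp only [Subfield.coe_one, Subfield.coe_zero, zero_smul, add_zero, one_smul] at h1
    rw [hsemi.add, hci1, hcj] at h1
    have h2 := congrArg (fun v => hermForm n F q v (b i)) h1
    have h3 := congrArg (fun v => hermForm n F q v (b j)) h1
    simp only [herm_add_left, herm_smul_left, hb, if_true, if_neg hne, if_neg hne.symm, mul_one,
      mul_zero, add_zero, zero_add] at h2 h3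
    have h4 : κ ^ q = κ := by
      apply mul_right_cancel₀ ha0
      rw [h3, h2]
    apply hij
    have h5 : s * η i = s * η j := by rw [hκj, h4]
    exact mul_left_cancel₀ hs0 h5

theorem ri_eig (hF : Fintype.card F = q ^ 2) (hp : p.Prime)
    (hpq : p ∣ q + 1) (hn : 3 ≤ n) (hc : SI q (1 : F ≃+* F) c) (hcp : c ^ p = 1)
    (hns : ¬ IsScal F c) : ∃ s : Fˣ, (s : F) * (s : F) ^ q = 1 ∧ RI q (smulA s c) := by
  obtain ⟨b, η, hb, hη, hηp, hηq, i, j, hij⟩ := exists_eig_data hF hp hpq (by omega) hc hcp hns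
  have hη0 : ∀ i, η i ≠ 0 := by
    intro i h
    have := hηq i
    rw [h, zero_mul] at this
    exact zero_ne_one this
  have hne : i ≠ j := by rintro rfl; exact hij rfl
  obtain ⟨k, hki, hkj⟩ : ∃ k : Fin n, k ≠ i ∧ k ≠ j := by
    by_contra hcon
    push Not at hcon
    have h1 : (Finset.univ : Finset (Fin n)) ⊆ {i, j} := by
      intro k _
      by_cases hk : k = i
      · simp [hk]
      · simp [hcon k hk]
    have h2 := Finset.card_le_card h1
    rw [Finset.card_univ, Fintype.card_fin] at h2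
    have h3 := Finset.card_le_two (a := i) (b := j)
    omega
  obtain ⟨a, ha0, ha⟩ := exists_norm_eq_ne hF (neg_one_pow_q hF) (neg_ne_zero.2 one_ne_zero)
  refine ⟨Units.mk0 (η k)⁻¹ (inv_ne_zero (hη0 k)), ?_, b i + a • b j, b k, ?_, ?_, ?_, ?_, ?_⟩
  · rw [Units.val_mk0, inv_pow, ← mul_inv, hηq, inv_one]
  · rw [smulA_apply, Units.val_mk0, hη, smul_smul, inv_mul_cancel₀ (hη0 k), one_smul]
  · rw [hb, if_pos rfl]
  · rw [herm_add_left, herm_smul_left, hb, hb, if_neg hki.symm, if_neg hkj.symm]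
    ring
  · simp only [herm_add_left, herm_add_right hF, herm_smul_left, herm_smul_right, hb, if_true,
      if_neg hne, if_neg hne.symm]
    linear_combination ha
  · rw [smulA_apply, Units.val_mk0, hc.semi.add, hc.semi.smul, hη, hη]
    simp only [RingAut.one_apply, herm_add_left, herm_add_right hF, herm_smul_left,
      herm_smul_right, hb, if_true, if_neg hne, if_neg hne.symm]
    intro h
    apply hij
    rw [← pow_q_inj hF]
    have h1 : ((η k)⁻¹) ^ q ≠ 0 := pow_ne_zero _ (inv_ne_zero (hη0 k))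
    apply mul_left_cancel₀ h1
    linear_combination h + (-1) * ((η k)⁻¹ ^ q * η j ^ q) * ha

/-- Eigenvalues in the small field. -/
theorem fr_split (hF : Fintype.card F = q ^ 2) (hp : p.Prime) (hp2 : p ≠ 2)
    (hpq : p ∣ q - 1) (hpF : (p : F) ≠ 0) (hc : SI q (1 : F ≃+* F) c)
    (hcp : c ^ p = 1) (hns : ¬ IsScal F c) {ε : F} (hε : ε ≠ 0) :
    ∃ e f, Fr hF ε c e f := by
  have : Fact p.Prime := ⟨hp⟩
  have hpF1 : p ∣ Nat.card F - 1 := by
    rw [Nat.card_eq_fintype_card, hF]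
    have h1 : q ^ 2 - 1 = (q + 1) * (q - 1) := by
      have := Nat.sq_sub_sq q 1
      rwa [one_pow] at this
    rw [h1]
    exact Dvd.dvd.mul_left hpq _
  obtain ⟨f, hf, hfc⟩ := exists_end hc.semi
  have hfp : (f : Module.End F (Fin n → F)) ^ p = ((1 : F) ^ p) • 1 := by
    refine LinearMap.ext fun v => ?_
    rw [pow_end hf, hcp, one_pow, one_smul]
    rfl
  obtain ⟨b, d, hb⟩ := Cfsg.Agent.H957.T5Lin.exists_eigenbasis (κ := Fin n) hpF1 one_ne_zero hfp
    (by rw [finrank_fin_fun, Fintype.card_fin])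
  have hbc : ∀ i, c (b i) = d i • b i := fun i => by rw [← hf]; exact hb i
  obtain ⟨i, hi⟩ : ∃ i, d i ≠ 1 := by
    by_contra hcon
    push Not at hcon
    apply hns
    refine ⟨1, fun v => ?_⟩
    rw [← hf, ← b.sum_repr v, map_sum, Finset.smul_sum]
    refine Finset.sum_congr rfl fun i _ => ?_
    rw [map_smul, hf, hbc, hcon, one_smul]
    exact (one_smul F _).symm
  set ζ := d i with hζ
  set e := b i with he
  have he0 : e ≠ 0 := b.ne_zero i
  have hζp : ζ ^ p = 1 := eig_root hc hcp he0 (hbc i)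
  have hζ0 : ζ ≠ 0 := by
    intro h
    rw [h, zero_pow hp.ne_zero] at hζp
    exact zero_ne_one hζp
  have hζq : ζ ^ q = ζ := by
    obtain ⟨m, hm⟩ := hpq
    have h1 := q_pos hF
    have h2 : q = p * m + 1 := by omega
    rw [h2, pow_succ, pow_mul, hζp, one_pow, one_mul]
  have hζ2 : ζ * ζ ≠ 1 := by
    intro h
    have h1 : orderOf ζ ∣ p := orderOf_dvd_of_pow_eq_one hζp
    have h2 : orderOf ζ ∣ 2 := orderOf_dvd_of_pow_eq_one (by rw [pow_two]; exact h)
    have h3 : orderOf ζ ∣ Nat.gcd p 2 := Nat.dvd_gcd h1 h2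
    rw [(Nat.coprime_primes hp Nat.prime_two).2 hp2, Nat.dvd_one, orderOf_eq_one_iff] at h3
    exact hi h3
  have hce : c e = ζ • e := hbc i
  have hee : hermForm n F q e e = 0 := by
    have h1 := hc.herm e e
    rw [hce, herm_smul_left, herm_smul_right, hζq] at h1
    have h2 : (ζ * ζ - 1) * hermForm n F q e e = 0 := by
      rw [sub_mul, one_mul, mul_assoc, h1]
      exact sub_self _
    exact (mul_eq_zero.1 h2).resolve_left (sub_ne_zero.2 hζ2)
  obtain ⟨w, hw⟩ := exists_herm_ne_zero hF he0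
  set g : Fin n → F := ∑ m ∈ Finset.range p, ζ ^ m • (c ^ m) w with hg
  have hcg : c g = ζ⁻¹ • g := by
    have h1 : ζ • c g = g := by
      have h2 : c g = ∑ m ∈ Finset.range p, ζ ^ m • (c ^ (m + 1)) w := by
        rw [hg, ← hf, map_sum]
        refine Finset.sum_congr rfl fun m _ => ?_
        rw [map_smul, hf, pow_succ', Equiv.Perm.mul_apply]
      have h3 : ζ • c g = ∑ m ∈ Finset.range p, ζ ^ (m + 1) • (c ^ (m + 1)) w := by
        rw [h2, Finset.smul_sum]
        refine Finset.sum_congr rfl fun m _ => ?_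
        rw [smul_smul, ← pow_succ']
      have h4 := Finset.sum_range_succ' (fun m => ζ ^ m • (c ^ m) w) p
      have h5 := Finset.sum_range_succ (fun m => ζ ^ m • (c ^ m) w) p
      rw [h5] at h4
      simp only [hζp, hcp, pow_zero] at h4
      rw [h3]
      exact (add_right_cancel h4).symm
    conv_rhs => rw [← h1]
    rw [smul_smul, inv_mul_cancel₀ hζ0, one_smul]
  have heg : hermForm n F q e g ≠ 0 := by
    have h1 : ∀ m : ℕ, hermForm n F q e (ζ ^ m • (c ^ m) w) = hermForm n F q e w := by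
      intro m
      have h2 := (hc.pow m).herm e w
      rw [eig_pow hc hce, herm_smul_left, one_pow] at h2
      rw [herm_smul_right, ← pow_mul, mul_comm m q, pow_mul, hζq, h2]
      rfl
    rw [hg, herm_sum_right hF, Finset.sum_congr rfl fun m _ => h1 m, Finset.sum_const,
      Finset.card_range, nsmul_eq_mul]
    exact mul_ne_zero hpF hw
  have hgg : hermForm n F q g g = 0 := by
    have h1 := hc.herm g g
    rw [hcg, herm_smul_left, herm_smul_right, inv_pow, hζq] at h1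
    have h2 : (ζ⁻¹ * ζ⁻¹ - 1) * hermForm n F q g g = 0 := by
      rw [sub_mul, one_mul, mul_assoc, h1]
      exact sub_self _
    refine (mul_eq_zero.1 h2).resolve_left (sub_ne_zero.2 fun h3 => hζ2 ?_)
    rw [← mul_inv, inv_eq_one] at h3
    exact h3
  set γ := hermForm n F q e g with hγ
  refine ⟨e, ((ε / γ) ^ q) • g, ⟨hee, ?_, ?_, ⟨⟨ζ, hζq⟩, 0, ?_⟩,
    ⟨0, ⟨ζ⁻¹, by rw [mem_Kq, inv_pow, hζq]⟩, ?_⟩, ?_⟩⟩
  · rw [herm_smul_left, herm_smul_right, hgg, mul_zero, mul_zero]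
  · rw [herm_smul_right, pow_q_pow_q hF, ← hγ, div_mul_cancel₀ _ heg]
  · rw [hce, Subfield.coe_zero, zero_smul, add_zero]
  · rw [hc.semi.smul, hcg, Subfield.coe_zero, zero_smul, zero_add, smul_comm]
    rfl
  · rintro ⟨t, ht⟩
    have h1 := ht 1 0
    have h2 := ht 0 1
    simp only [Subfield.coe_one, Subfield.coe_zero, zero_smul, add_zero, zero_add, one_smul] at h1 h2
    rw [hce] at h1
    have h3 : t = ζ := by
      have : (ζ - t) • e = 0 := by rw [sub_smul, h1, sub_self]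
      exact (sub_eq_zero.1 ((smul_eq_zero.1 this).resolve_right he0)).symm
    have h4 : ((ε / γ) ^ q) • g ≠ 0 := by
      intro h5
      have h6 : hermForm n F q e (((ε / γ) ^ q) • g) = 0 := by rw [h5, herm_zero_right hF]
      rw [herm_smul_right, pow_q_pow_q hF, ← hγ, div_mul_cancel₀ _ heg] at h6
      exact hε h6
    rw [hc.semi.smul, hcg, h3, smul_comm] at h2
    have h5 : (ζ⁻¹ - ζ) • (((ε / γ) ^ q) • g) = 0 := by
      rw [sub_smul, sub_eq_zero]
      exact h2
    have h6 := sub_eq_zero.1 ((smul_eq_zero.1 h5).resolve_right h4)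
    apply hζ2
    calc ζ * ζ = ζ * ζ⁻¹ := by rw [h6]
      _ = 1 := mul_inv_cancel₀ hζ0

end Cfsg.Agent.H957.T5U
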