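import Cfsg.Agent.H957.T5U12
import Cfsg.Agent.H957.T5U3

/-!
# Totally isotropic invariant subspaces of linear isometries of order `p`
-/

set_option autoImplicit false

namespace Cfsg.Agent.H957.T5U

open Cfsg Cfsg.Agent.LieClassical.HermBasic Cfsg.Agent.LieClassical.HermSiegel
open Cfsg.Agent.H957.T5V Cfsg.Agent.H957.T5Conf Cfsg.Agent.H957.T5Pairs
open Polynomial

variable {F : Type} [Field F] [Fintype F] {n q p : ℕ} {c : Equiv.Perm (Fin n → F)}

omit [Fintype F] in
theorem herm_pow_inv {f : Module.End F (Fin n → F)}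
    (hf : ∀ u v, hermForm n F q (f u) (f v) = hermForm n F q u v)
    (hp0 : 0 < p) (hfp : f ^ p = 1) (u v : Fin n → F) (k : ℕ) :
    hermForm n F q ((f ^ k) u) v = hermForm n F q u ((f ^ (k * (p - 1))) v) := by
  induction k generalizing u v with
  | zero => simp
  | succ k ih =>
    have h1 : ∀ x y, hermForm n F q (f x) y = hermForm n F q x ((f ^ (p - 1)) y) := by
      intro x y
      rw [← hf x ((f ^ (p - 1)) y)]
      congr 1
      have h2 : f ((f ^ (p - 1)) y) = (f ^ (p - 1 + 1)) y := by rw [pow_succ']; rfl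
      rw [h2, Nat.sub_add_cancel hp0, hfp]; rfl
    rw [pow_succ']
    change hermForm n F q (f ((f ^ k) u)) v = _
    rw [h1, ih]
    congr 1
    rw [Nat.succ_mul, pow_add]
    rfl

theorem herm_aeval_inv (hF : Fintype.card F = q ^ 2) {f : Module.End F (Fin n → F)}
    (hf : ∀ u v, hermForm n F q (f u) (f v) = hermForm n F q u v)
    (hp0 : 0 < p) (hfp : f ^ p = 1) (a : F[X]) (u v : Fin n → F) :
    hermForm n F q (aeval f a u) v =
      hermForm n F q u (aeval f (expand F (p - 1) (a.map ((conj hF : F ≃+* F) : F →+* F))) v) := by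
  induction a using Polynomial.induction_on' with
  | add a b ha hb =>
    rw [Polynomial.map_add, map_add, map_add, map_add, LinearMap.add_apply, LinearMap.add_apply,
      herm_add_left, herm_add_right hF, ha, hb]
  | monomial k t =>
    have h1 : ∀ (s : F) (m : ℕ) (x : Fin n → F), aeval f (C s * X ^ m) x = s • (f ^ m) x := by
      intro s m x
      rw [map_mul, aeval_C, map_pow, aeval_X, Module.End.mul_apply, Module.algebraMap_end_apply]
    have h2 : ∀ s : F, expand F (p - 1) (C s * X ^ k) = C s * X ^ (k * (p - 1)) := by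
      intro s
      rw [map_mul (expand F (p - 1)), map_pow (expand F (p - 1)), expand_C, expand_X, ← pow_mul,
        mul_comm (p - 1) k]
    rw [← C_mul_X_pow_eq_monomial, Polynomial.map_mul, Polynomial.map_pow, map_X, map_C, h2, h1,
      h1, herm_smul_left, herm_smul_right, herm_pow_inv hf hp0 hfp]
    change _ = (t ^ q) ^ q * _
    rw [pow_q_pow_q hF]

/-- In case `C2` the kernels are totally isotropic. -/
theorem ker_ti (hF : Fintype.card F = q ^ 2) (hp : p.Prime) (hpF : (p : F) ≠ 0)
    (hno : ∀ j, Odd j → ¬ p ∣ q ^ j + 1) {f : Module.End F (Fin n → F)}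
    (hf : ∀ u v, hermForm n F q (f u) (f v) = hermForm n F q u v) (hfp : f ^ p = 1)
    {P : F[X]} (hP : Irreducible P) (hPd : P ∣ cyclotomic p F) {x y : Fin n → F}
    (hx : aeval f P x = 0) (hy : aeval f P y = 0) : hermForm n F q x y = 0 := by
  have hpf : Fact p.Prime := ⟨hp⟩
  set P' := P.map ((conj hF : F ≃+* F) : F →+* F) with hP'
  set S := expand F (p - 1) P' with hS
  by_cases hPS : P ∣ S
  · exfalso
    have : Fact (Irreducible P) := ⟨hP⟩
    have hfd : FiniteDimensional F (AdjoinRoot P) := (AdjoinRoot.powerBasis hP.ne_zero).finite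
    have hfin : Finite (AdjoinRoot P) := Module.finite_of_finite F
    set ρ := AdjoinRoot.root P with hρ
    have hρP : aeval ρ P = 0 := by rw [hρ, AdjoinRoot.aeval_eq, AdjoinRoot.mk_self]
    have hpE : (p : AdjoinRoot P) ≠ 0 := by
      intro h
      apply hpF
      apply (algebraMap F (AdjoinRoot P)).injective
      rw [map_natCast, h, map_zero]
    have hprim : IsPrimitiveRoot ρ p := by
      have : NeZero (p : AdjoinRoot P) := ⟨hpE⟩
      rw [← isRoot_cyclotomic_iff]
      obtain ⟨R, hR⟩ := hPd
      rw [IsRoot.def, ← map_cyclotomic p (algebraMap F (AdjoinRoot P)), eval_map_algebraMap, hR,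
        map_mul, hρP, zero_mul]
    have hρp : ρ ^ p = 1 := hprim.pow_eq_one
    have hρ0 : ρ ≠ 0 := by
      intro h
      rw [h, zero_pow hp.ne_zero] at hρp
      exact zero_ne_one hρp
    -- `P' (ρ⁻¹) = 0`
    have e1 : aeval (ρ ^ (p - 1)) P' = 0 := by
      obtain ⟨R, hR⟩ := hPS
      have : aeval ρ S = 0 := by rw [hR, map_mul, hρP, zero_mul]
      rwa [hS, expand_aeval] at this
    -- `P' (ρ ^ q) = 0`
    have e2 : aeval (ρ ^ q) P' = 0 := by
      have h1 : ∀ a : F[X], aeval (ρ ^ q) (a.map ((conj hF : F ≃+* F) : F →+* F))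
          = (aeval ρ a) ^ q := by
        intro a
        induction a using Polynomial.induction_on' with
        | add a b ha hb =>
          have := add_pow_N hF (R := AdjoinRoot P) 1 (aeval ρ a) (aeval ρ b)
          rw [pow_one] at this
          rw [Polynomial.map_add, map_add, map_add, ha, hb, this]
        | monomial k t =>
          rw [map_monomial, aeval_monomial, aeval_monomial, mul_pow, ← pow_mul, ← pow_mul,
            mul_comm q k, ← map_pow]
          rfl
      rw [hP', h1, hρP, zero_pow (q_pos hF).ne']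
    have hP'irr : Irreducible P' := by
      have : P' = Polynomial.mapEquiv (conj hF) P := rfl
      rw [this, MulEquiv.irreducible_iff]
      exact hP
    have hmin : minpoly F (ρ ^ (p - 1)) = minpoly F (ρ ^ q) := by
      rw [← minpoly.eq_of_irreducible hP'irr e1, ← minpoly.eq_of_irreducible hP'irr e2]
    obtain ⟨g, hg⟩ := (isConjRoot_iff_exists_algEquiv (K := F) (x := ρ ^ (p - 1))
      (y := ρ ^ q)).1 hmin
    obtain ⟨i, hi⟩ := (FiniteField.bijective_frobeniusAlgEquivOfAlgebraic_pow F
      (AdjoinRoot P)).2 g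
    simp only at hi
    rw [← hi, AlgEquiv.coe_pow, FiniteField.coe_frobeniusAlgEquivOfAlgebraic_iterate] at hg
    simp only at hg
    have h2 : ρ ^ (q ^ (2 * (i : ℕ) + 1) + 1) = 1 := by
      rw [pow_succ, pow_succ q, pow_mul q 2, ← hF, mul_comm (Fintype.card F ^ (i : ℕ)) q, pow_mul,
        hg, ← pow_succ, Nat.sub_add_cancel hp.pos, hρp]
    have h3 : p ∣ q ^ (2 * (i : ℕ) + 1) + 1 := by
      rw [hprim.eq_orderOf]
      exact orderOf_dvd_of_pow_eq_one h2
    exact hno _ ⟨i, rfl⟩ h3
  · obtain ⟨A, B, hAB⟩ := (hP.coprime_iff_not_dvd (n := S)).2 hPS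
    have h1 : y = aeval f S (aeval f B y) := by
      have := congrArg (fun r => aeval f r y) hAB
      simp only [map_add, LinearMap.add_apply, map_one, Module.End.one_apply, map_mul,
        Module.End.mul_apply, hy, map_zero, zero_add] at this
      rw [← Module.End.mul_apply, ← map_mul, mul_comm, map_mul, Module.End.mul_apply]
      exact this.symm
    rw [h1, hS, hP', ← herm_aeval_inv hF hf hp.pos hfp, hx, herm_zero_left]

theorem ti_lin (hF : Fintype.card F = q ^ 2) (hp : p.Prime) (hpF : (p : F) ≠ 0)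
    (hno : ∀ j, Odd j → ¬ p ∣ q ^ j + 1) (hc : SI q (1 : F ≃+* F) c) (hcp : c ^ p = 1)
    (hns : ¬ IsScal F c) {m : ℕ} (hm : m = orderOf ((q : ZMod p) ^ 2)) (hm2 : 2 ≤ m) :
    TIm q m c := by
  obtain ⟨f', hf', hfc⟩ := exists_end hc.semi
  set f : Module.End F (Fin n → F) := (f' : Module.End F (Fin n → F)) with hfdef
  have hf0 : ∀ v, f v = c v := hf'
  have hfp : f ^ p = 1 := by
    refine LinearMap.ext fun v => ?_
    rw [pow_end hf', hcp]
    rfl
  have hf : ∀ u v, hermForm n F q (f u) (f v) = hermForm n F q u v := by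
    intro u v
    rw [hf0, hf0]
    exact hc.herm u v
  obtain ⟨P, hP, hPd, w, hw, hPw⟩ := exists_cyc_factor hp hfp (by
    intro h
    apply hns
    refine ⟨1, fun v => ?_⟩
    rw [← hf0, h]
    exact (one_smul F v).symm)
  have hdeg : P.natDegree = m := by rw [natDegree_cyc hF hp hpF hP hPd, hm]
  -- the annihilator of `w`
  have hann : ∀ a : F[X], aeval f a w = 0 → P ∣ a := by
    intro a ha
    by_contra hcon
    obtain ⟨A, B, hAB⟩ := (hP.coprime_iff_not_dvd (n := a)).2 hcon
    apply hw
    have := congrArg (fun r => aeval f r w) hAB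
    simp only [map_add, LinearMap.add_apply, map_one, Module.End.one_apply, map_mul,
      Module.End.mul_apply, ha, hPw, map_zero, add_zero] at this
    exact this.symm
  have hli : LinearIndependent F (fun i : Fin m => (f ^ (i : ℕ)) w) := by
    rw [Fintype.linearIndependent_iff]
    intro g hg
    let R : F[X] := ∑ i : Fin m, C (g i) * X ^ (i : ℕ)
    have hR : aeval f R w = 0 := by
      rw [← hg]
      simp only [R, map_sum, map_mul, aeval_C, map_pow, aeval_X, LinearMap.sum_apply,
        Module.End.mul_apply, Module.algebraMap_end_apply]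
    have hR0 : R = 0 := by
      refine eq_zero_of_dvd_of_degree_lt (hann R hR) ?_
      rw [degree_eq_natDegree hP.ne_zero, hdeg]
      refine lt_of_le_of_lt (degree_sum_le _ _) ?_
      rw [Finset.sup_lt_iff (by exact WithBot.bot_lt_coe m)]
      intro i _
      refine lt_of_le_of_lt (degree_C_mul_X_pow_le _ _) ?_
      exact_mod_cast i.2
    intro i
    have h1 := congrArg (fun r => coeff r (i : ℕ)) hR0
    simp only [R, finsetSum_coeff, coeff_C_mul, coeff_X_pow, coeff_zero] at h1
    rw [Finset.sum_eq_single i] at h1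
    · simpa using h1
    · intro j _ hji
      rw [if_neg (fun h => hji (Fin.ext h.symm)), mul_zero]
    · intro h
      exact absurd (Finset.mem_univ _) h
  set W := Submodule.span F (Set.range fun i : Fin m => (f ^ (i : ℕ)) w) with hW
  have hWker : ∀ v ∈ W, aeval f P v = 0 := by
    intro v hv
    suffices hle : W ≤ LinearMap.ker (aeval f P : Module.End F (Fin n → F)) from
      LinearMap.mem_ker.1 (hle hv)
    rw [hW, Submodule.span_le]
    rintro _ ⟨i, rfl⟩
    change aeval f P ((f ^ (i : ℕ)) w) = 0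
    have h1 : (f ^ (i : ℕ)) w = aeval f (X ^ (i : ℕ) : F[X]) w := by rw [map_pow, aeval_X]
    rw [h1, ← Module.End.mul_apply, ← map_mul, mul_comm, map_mul, Module.End.mul_apply, hPw,
      map_zero]
  have hmem : ∀ i < m, (f ^ i) w ∈ W := fun i hi => Submodule.subset_span ⟨⟨i, hi⟩, rfl⟩
  have hmem' : (f ^ m) w ∈ W := by
    have h1 := hPw
    rw [aeval_eq_sum_range, LinearMap.sum_apply, Finset.sum_range_succ, hdeg] at h1
    simp only [LinearMap.smul_apply] at h1
    have h2 : P.coeff m ≠ 0 := by
      rw [← hdeg]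
      exact leadingCoeff_ne_zero.2 hP.ne_zero
    have h3 : (f ^ m) w = -((P.coeff m)⁻¹ • ∑ i ∈ Finset.range m, P.coeff i • (f ^ i) w) := by
      have h4 : P.coeff m • (f ^ m) w = -∑ i ∈ Finset.range m, P.coeff i • (f ^ i) w :=
        eq_neg_of_add_eq_zero_right h1
      rw [← smul_neg, ← h4, smul_smul, inv_mul_cancel₀ h2, one_smul]
    rw [h3]
    refine Submodule.neg_mem _ (Submodule.smul_mem _ _ (Submodule.sum_mem _ fun i hi => ?_))
    exact Submodule.smul_mem _ _ (hmem i (Finset.mem_range.1 hi))
  have hinv : ∀ v ∈ W, f v ∈ W := by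
    intro v hv
    have h1 : W ≤ W.comap f := by
      conv_lhs => rw [hW]
      rw [Submodule.span_le]
      rintro _ ⟨i, rfl⟩
      change f ((f ^ (i : ℕ)) w) ∈ W
      have h2 : f ((f ^ (i : ℕ)) w) = (f ^ ((i : ℕ) + 1)) w := by rw [pow_succ']; rfl
      rw [h2]
      rcases Nat.lt_or_ge ((i : ℕ) + 1) m with h3 | h3
      · exact hmem _ h3
      · have : (i : ℕ) + 1 = m := by have := i.2; omega
        rw [this]
        exact hmem'
    exact h1 hv
  refine ⟨W, ?_, ?_, ?_, ?_⟩
  · rw [hW, finrank_span_eq_card hli, Fintype.card_fin]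
  · intro u hu v hv
    exact ker_ti hF hp hpF hno hf hfp hP hPd (hWker u hu) (hWker v hv)
  · intro u hu
    rw [← hf0]
    exact hinv u hu
  · rintro ⟨t, ht⟩
    have h1 := ht w (by simpa using hmem 0 (by omega))
    rw [← hf0] at h1
    have h2 := Fintype.linearIndependent_iff.1 hli
      (fun i => if (i : ℕ) = 0 then -t else if (i : ℕ) = 1 then 1 else 0) (by
        rw [Finset.sum_eq_add (⟨0, by omega⟩ : Fin m) (⟨1, by omega⟩ : Fin m)]
        · simp [h1]
        · simp
        · rintro i - ⟨hi0, hi1⟩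
          have h3 : (i : ℕ) ≠ 0 := fun h => hi0 (Fin.ext h)
          have h4 : (i : ℕ) ≠ 1 := fun h => hi1 (Fin.ext h)
          rw [if_neg h3, if_neg h4, zero_smul]
        · intro h
          exact absurd (Finset.mem_univ _) h
        · intro h
          exact absurd (Finset.mem_univ _) h) ⟨1, by omega⟩
    simp at h2

end Cfsg.Agent.H957.T5U
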