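import Cfsg.Agent.H957.T5U7

/-!
# Normal forms of semilinear isometries of order `p` modulo scalars (T5, row PSU)
-/

set_option autoImplicit false

namespace Cfsg.Agent.H957.T5U

open Cfsg Cfsg.Agent.LieClassical.HermBasic Cfsg.Agent.LieClassical.HermSiegel
open Cfsg.Agent.H957.T5V Cfsg.Agent.H957.T5Conf Cfsg.Agent.H957.T5Pairs Cfsg.Agent.H957.T5Two
  Cfsg.Agent.H957.T5Semi
open Cfsg.Agent.H967.CopMat (Fx mem_Fx card_Fx)

variable {F : Type} [Field F] [Fintype F] {n q p : ℕ} {θ : F ≃+* F} {c : Equiv.Perm (Fin n → F)}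

omit [Fintype F] in
theorem smulA_pow (hc : Semi θ c) (s : Fˣ) (m : ℕ) (v : Fin n → F) :
    ((smulA s c) ^ m) v = nm θ s m • (c ^ m) v :=
  Cfsg.Agent.CpAut.Descent.pow_mul_apply ⟨hc.add, hc.smul⟩ (fun v => smulA_apply s c v) m v

omit [Fintype F] in
theorem fix_scal (hn : 0 < n) (hc : Semi θ c) {l : F} {m : ℕ} (hl : ∀ v, (c ^ m) v = l • v) :
    θ l = l := by
  have hv0 : (Pi.single ⟨0, hn⟩ 1 : Fin n → F) ≠ 0 := by
    intro h
    have := congrFun h ⟨0, hn⟩
    simp at this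
  set v : Fin n → F := Pi.single ⟨0, hn⟩ 1
  have h1 : c ((c ^ m) v) = (c ^ m) (c v) := by
    rw [← Equiv.Perm.mul_apply, ← Equiv.Perm.mul_apply, ← pow_succ, ← pow_succ']
  rw [hl, hl, hc.smul] at h1
  have h2 : (θ l - l) • c v = 0 := by rw [sub_smul, h1, sub_self]
  have h3 : c v ≠ 0 := by
    intro h
    apply hv0
    apply c.injective
    rw [h, hc.zero]
  exact sub_eq_zero.1 ((smul_eq_zero.1 h2).resolve_right h3)

/-- Scaling a semilinear isometry with nontrivial companion automorphism. -/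
theorem scale_semi (hF : Fintype.card F = q ^ 2) (hn : 0 < n) (hp : p.Prime) (hp2 : p ≠ 2)
    (hθ : orderOf θ = p) (hc : SI q θ c) (hcp : IsScal F (c ^ p)) :
    ∃ s : Fˣ, (s : F) * (s : F) ^ q = 1 ∧ (smulA s c) ^ p = 1 := by
  obtain ⟨l, hl⟩ := hcp
  have hll := scal_norm hn (hc.pow p) hl
  have hθl := fix_scal hn hc.semi hl
  obtain ⟨y, hy0, hyθ, hy⟩ := h90_fix hF hp hp2 hθ hθl hll
  obtain ⟨x, hx0, hx⟩ := Cfsg.Agent.CpAut.Descent.exists_norm hθ hp.pos hy0 hyθ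
  have hx' : nm θ x p = y := hx
  have hyq : y ^ q ≠ 0 := pow_ne_zero _ hy0
  have hxq : x ^ q ≠ 0 := pow_ne_zero _ hx0
  refine ⟨Units.mk0 (x ^ q * x⁻¹) (mul_ne_zero hxq (inv_ne_zero hx0)), ?_, ?_⟩
  · rw [Units.val_mk0, mul_pow, pow_q_pow_q hF, inv_pow]
    field_simp
  · ext1 v
    rw [smulA_pow hc.semi, hl, Units.val_mk0, nm_mul, nm_inv, nm_pow, hx', smul_smul]
    have h1 : y ^ q * y⁻¹ * l = 1 := by
      rw [mul_comm _ l, ← mul_assoc, hy, mul_inv_cancel₀ hy0]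
    rw [h1, one_smul]
    rfl

/-- Scaling a linear isometry. -/
theorem scale_lin (hF : Fintype.card F = q ^ 2) (hn : 0 < n) (hp : p.Prime) (hp2 : p ≠ 2)
    (hc : SI q (1 : F ≃+* F) c) (hcp : IsScal F (c ^ p)) :
    (∃ s : Fˣ, (s : F) * (s : F) ^ q = 1 ∧ (smulA s c) ^ p = 1) ∨
      (p ∣ q + 1 ∧ ∃ l : F, l * l ^ q = 1 ∧ (∀ v, (c ^ p) v = l • v) ∧ ∀ t : F, t ^ p ≠ l) := by
  obtain ⟨l, hl⟩ := hcp
  have hll := scal_norm hn (hc.pow p) hl
  have hl0 : l ≠ 0 := by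
    rintro rfl
    rw [zero_mul] at hll
    exact zero_ne_one hll
  have key : ∀ t : F, t * t ^ q = 1 → t ^ p = l →
      ∃ s : Fˣ, (s : F) * (s : F) ^ q = 1 ∧ (smulA s c) ^ p = 1 := by
    intro t ht htp
    have ht0 : t ≠ 0 := by
      rintro rfl
      rw [zero_mul] at ht
      exact zero_ne_one ht
    refine ⟨Units.mk0 t⁻¹ (inv_ne_zero ht0), ?_, ?_⟩
    · rw [Units.val_mk0, inv_pow, ← mul_inv, ht, inv_one]
    · ext1 v
      rw [smulA_pow hc.semi, hl, Units.val_mk0, nm_one, smul_smul, inv_pow, htp,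
        inv_mul_cancel₀ hl0, one_smul]
      rfl
  by_cases hpq : p ∣ q + 1
  · by_cases ht : ∃ t : F, t ^ p = l
    · obtain ⟨t, ht⟩ := ht
      left
      refine key t ?_ ht
      -- `t ^ (q + 1)` is a `p`-th root of unity in the small field
      have ht0 : t ≠ 0 := by
        rintro rfl
        rw [zero_pow hp.ne_zero] at ht
        exact hl0 ht.symm
      have h1 : (t * t ^ q) ^ p = 1 := by
        rw [mul_pow, ← pow_mul, mul_comm q p, pow_mul, ht, hll]
      have h2 : (t * t ^ q) ^ (q - 1) = 1 := by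
        have h3 : (t * t ^ q) ^ q = t * t ^ q := norm_pow_q hF t
        have h4 : t * t ^ q ≠ 0 := mul_ne_zero ht0 (pow_ne_zero _ ht0)
        apply mul_right_cancel₀ h4
        rw [one_mul, ← pow_succ, Nat.sub_add_cancel (q_pos hF), h3]
      have h3 : Nat.Coprime p (q - 1) := by
        rw [Nat.Prime.coprime_iff_not_dvd hp]
        intro h4
        have h5 : p ∣ (q + 1) - (q - 1) := Nat.dvd_sub hpq h4
        have h6 := two_le hF
        rw [show (q + 1) - (q - 1) = 2 by omega] at h5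
        exact hp2 ((Nat.prime_dvd_prime_iff_eq hp Nat.prime_two).1 h5)
      have h4 : orderOf (t * t ^ q) ∣ Nat.gcd p (q - 1) :=
        Nat.dvd_gcd (orderOf_dvd_of_pow_eq_one h1) (orderOf_dvd_of_pow_eq_one h2)
      rw [h3, Nat.dvd_one, orderOf_eq_one_iff] at h4
      exact h4
    · right
      push Not at ht
      exact ⟨hpq, l, hll, hl, ht⟩
  · left
    have hcop : Nat.Coprime p (q + 1) := (Nat.Prime.coprime_iff_not_dvd hp).2 hpq
    obtain ⟨m, -, hm⟩ := Nat.exists_mul_mod_eq_one_of_coprime hcop (by have := two_le hF; omega)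
    have hlq : l ^ (q + 1) = 1 := by rw [pow_succ', hll]
    refine key (l ^ m) ?_ ?_
    · rw [← pow_mul, mul_comm m q, pow_mul, ← mul_pow, hll, one_pow]
    · rw [← pow_mul, mul_comm, ← Nat.div_add_mod (p * m) (q + 1), hm, pow_add, pow_mul, hlq,
        one_pow, one_mul, pow_one]

end Cfsg.Agent.H957.T5U
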