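import Cfsg.Agent.H957.T5U4
import Cfsg.Agent.H957.T5U8
import Cfsg.Agent.H957.T5U10
import Cfsg.Agent.H957.T5U11
import Cfsg.Agent.H957.T5U13

/-!
# Assembly: pairs of semilinear isometries of order `p` modulo scalars
-/

set_option autoImplicit false

namespace Cfsg.Agent.H957.T5U

open Cfsg Cfsg.Agent.LieClassical.HermBasic Cfsg.Agent.LieClassical.HermSiegel
open Cfsg.Agent.H957.T5V Cfsg.Agent.H957.T5Conf Cfsg.Agent.H957.T5Pairs
open Cfsg.Agent.H957.T5Main (isScal_of_pow_one not_isScal_smulA)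
open Polynomial

variable {F : Type} [Field F] [Fintype F] {n q p : ℕ} {σ τ : F ≃+* F}
  {c d : Equiv.Perm (Fin n → F)}

omit [Fintype F] in
theorem NT.le_n {P : F[X]} (h : NT q p c P) : P.natDegree ≤ n := by
  obtain ⟨⟨f, j, l, u, hfc, hj, hN, hl, hlp, hPd, hu, hPu⟩, hirr⟩ := h
  have h1 : P ∣ minpoly F f := by
    by_contra hcon
    obtain ⟨A, B, hAB⟩ := (hirr.coprime_iff_not_dvd (n := minpoly F f)).2 hcon
    apply hu
    have := congrArg (fun r => aeval f r u) hAB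
    simp only [map_add, LinearMap.add_apply, map_one, Module.End.one_apply, map_mul,
      Module.End.mul_apply, minpoly.aeval, hPu, map_zero, LinearMap.zero_apply, add_zero] at this
    exact this.symm
  have h2 : P ∣ LinearMap.charpoly f := h1.trans (LinearMap.minpoly_dvd_charpoly f)
  have h3 := natDegree_le_of_dvd h2 (LinearMap.charpoly_monic f).ne_zero
  rwa [LinearMap.charpoly_natDegree, Module.finrank_fintype_fun_eq_card, Fintype.card_fin] at h3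

omit [Fintype F] in
theorem scal_pow_smulA (hc : SI q σ c) (s : Fˣ) (h : c ^ p = 1) :
    IsScal F ((smulA s c) ^ p) :=
  (((scl_smulA s c).pow hc.semi p).isScal_iff).2 (isScal_of_pow_one h)

theorem not_dvd_q (hF : Fintype.card F = q ^ 2) (hp : p.Prime) (hpF : (p : F) ≠ 0) : ¬ p ∣ q := by
  intro h
  apply hpF
  obtain ⟨r, hr⟩ := CharP.exists F
  obtain ⟨k, hrp, hk⟩ := FiniteField.card F r
  have h1 : p ∣ r ^ (k : ℕ) := by
    rw [← hk, hF]
    exact dvd_pow h two_ne_zero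
  have h2 : p = r := (Nat.prime_dvd_prime_iff_eq hp hrp).1 (hp.dvd_of_dvd_pow h1)
  rw [h2]
  exact CharP.cast_eq_zero F r

/-- The order of `q ^ 2` modulo `p`. -/
theorem two_le_ord (hp : p.Prime) (hq : ¬ p ∣ q) (hpq : ¬ p ∣ q ^ 2 - 1) :
    2 ≤ orderOf ((q : ZMod p) ^ 2) := by
  have : Fact p.Prime := ⟨hp⟩
  have hq0 : (q : ZMod p) ≠ 0 := by
    intro h
    exact hq ((ZMod.natCast_eq_zero_iff q p).1 h)
  have h1 : orderOf ((q : ZMod p) ^ 2) ≠ 0 := by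
    rw [← Nat.pos_iff_ne_zero, orderOf_pos_iff, isOfFinOrder_iff_pow_eq_one]
    exact ⟨p - 1, by have := hp.two_le; omega, ZMod.pow_card_sub_one_eq_one (pow_ne_zero 2 hq0)⟩
  have h2 : orderOf ((q : ZMod p) ^ 2) ≠ 1 := by
    rw [Ne, orderOf_eq_one_iff]
    intro h
    apply hpq
    have hq1 : 1 ≤ q ^ 2 := Nat.one_le_iff_ne_zero.2 (by
      intro h0
      apply hq
      rw [pow_eq_zero_iff two_ne_zero] at h0
      rw [h0]
      exact dvd_zero p)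
    rw [← ZMod.natCast_eq_zero_iff, Nat.cast_sub hq1]
    push_cast
    rw [h, sub_self]
  omega

omit [Fintype F] in
theorem nu_pow (hp : p.Prime) (hpq : ¬ p ∣ q - 1) (hq : 0 < q) {ν : F} (h0 : ν ≠ 0) (h1 : ν ≠ 1)
    (hq1 : ν ^ q = ν) (m : ℕ) : ν ^ p ^ m ≠ 1 := by
  intro h
  have h2 : ν ^ (q - 1) = 1 := by
    apply mul_left_cancel₀ h0
    rw [← pow_succ', Nat.sub_add_cancel hq, hq1, mul_one]
  have h3 : orderOf ν ∣ q - 1 := orderOf_dvd_of_pow_eq_one h2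
  obtain ⟨i, -, hi⟩ := (Nat.dvd_prime_pow hp).1 (orderOf_dvd_of_pow_eq_one h)
  rcases Nat.eq_zero_or_pos i with rfl | hi0
  · rw [pow_zero, orderOf_eq_one_iff] at hi
    exact h1 hi
  · exact hpq ((hi ▸ dvd_pow_self p hi0.ne' : p ∣ orderOf ν).trans h3)

theorem TIm.le (hF : Fintype.card F = q ^ 2) {m : ℕ} (h : TIm q m c) : 2 * m ≤ n := by
  obtain ⟨U, hU, h0, -, -⟩ := h
  let b := Module.finBasisOfFinrankEq F U hU
  refine Cfsg.Agent.H77.Geom.two_mul_le_of_iso (q := q) hF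
    (b := fun i => ((b i : U) : Fin n → F)) ?_ ?_
  · exact b.linearIndependent.map' U.subtype (Submodule.ker_subtype U)
  · intro i j
    exact h0 _ (b i).2 _ (b j).2

section core

variable (hF : Fintype.card F = q ^ 2) (hn : 3 ≤ n) (hp : p.Prime) (hp5 : 5 ≤ p)
  (hpF : (p : F) ≠ 0)

include hF hn hp hp5 hpF

theorem up_AA (hc : SI q (1 : F ≃+* F) c) (hcp : c ^ p = 1) (hcn : ¬ IsScal F c)
    (hd : SI q (1 : F ≃+* F) d) (hdp : d ^ p = 1) (hdn : ¬ IsScal F d) : UP q p c d := by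
  have hp2 : p ≠ 2 := by omega
  have hnq := not_dvd_q hF hp hpF
  have hq2 := two_le hF
  obtain ⟨t, ht⟩ := exists_not_fixed hF
  have hε : t ^ q - t ≠ 0 := sub_ne_zero.2 ht
  have hεq : (t ^ q - t) ^ q = -(t ^ q - t) := by
    rw [sub_pow_q hF, pow_q_pow_q hF]
    ring
  by_cases h1 : p ∣ q - 1
  · obtain ⟨e, f, h⟩ := fr_split hF hp hp2 h1 hpF hc hcp hcn hε
    obtain ⟨e', f', h'⟩ := fr_split hF hp hp2 h1 hpF hd hdp hdn hε
    exact up_plane hF hn hp hp5 hpF hε hεq hc hd h h' (isScal_of_pow_one hcp)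
      (isScal_of_pow_one hdp)
  by_cases h2 : p ∣ q + 1
  · obtain ⟨s, hs, e, f, h⟩ := fr_eig hF hp hp2 h2 (by omega) hc hcp hcn ht
    obtain ⟨s', hs', e', f', h'⟩ := fr_eig hF hp hp2 h2 (by omega) hd hdp hdn ht
    refine UP.of_smulA hc hd s s' ?_
    exact up_plane hF hn hp hp5 hpF hε hεq (hc.smulA hs) (hd.smulA hs') h h'
      (scal_pow_smulA hc s hcp) (scal_pow_smulA hd s' hdp)
  have h3 : ¬ p ∣ q ^ 2 - 1 := by
    intro h
    rw [show q ^ 2 - 1 = (q + 1) * (q - 1) by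
      rw [show (1 : ℕ) = 1 ^ 2 by norm_num, Nat.sq_sub_sq, one_pow]] at h
    rcases hp.dvd_mul.1 h with h | h
    · exact h2 h
    · exact h1 h
  have hm2 := two_le_ord hp hnq h3
  by_cases h4 : ∃ j, Odd j ∧ p ∣ q ^ j + 1
  · obtain ⟨j, hj, hpj⟩ := h4
    obtain ⟨P, hP, hPd⟩ := nt_one hF hp hpF hj hpj hc hcp hcn
    obtain ⟨P', hP', hPd'⟩ := nt_one hF hp hpF hj hpj hd hdp hdn
    rcases deg_data hp hp5 h3 hj hpj (by omega) rfl with h5 | ⟨h5, h6, h7⟩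
    · have hP5 : 5 ≤ P.natDegree := by omega
      exact up_K hF (hP5.trans hP.le_n) hpF hc hd (hP.d5 hF hpF hc hP5)
        (hP'.d5 hF hpF hd (by omega))
    · obtain ⟨u0, hu0, hu1⟩ := hP'.d3 hF hpF hd (by omega) 1 one_ne_zero
      obtain ⟨ν, hν0, hν1, hνq⟩ := exists_nu_one hF h6
      refine up_E hF hn hc hd (hP.d3 hF hpF hc (by omega)) hu0 ?_ hν0 hνq rfl
        (nu_pow hp h1 (by omega) hν0 hν1 hνq)
      rw [herm_swap hF, hu1, one_pow]
      exact one_ne_zero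
  · push Not at h4
    exact up_ti hF hp hp5 hpF hc hd hm2 (ti_lin hF hp hpF h4 hc hcp hcn rfl hm2)
      (ti_lin hF hp hpF h4 hd hdp hdn rfl hm2) (isScal_of_pow_one hcp) (isScal_of_pow_one hdp)

theorem up_AC (hc : SI q (1 : F ≃+* F) c) (hcp : c ^ p = 1) (hcn : ¬ IsScal F c)
    (hτ : orderOf τ = p) (hd : SI q τ d) (hdp : d ^ p = 1) : UP q p c d := by
  have hp2 : p ≠ 2 := by omega
  have hp3 : 3 ≤ p := by omega
  have hnq := not_dvd_q hF hp hpF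
  have hq2 := two_le hF
  obtain ⟨t, htτ, ht⟩ := exists_tau hF hp hp2 hτ
  have hε : t ^ q - t ≠ 0 := sub_ne_zero.2 ht
  have hεq : (t ^ q - t) ^ q = -(t ^ q - t) := by
    rw [sub_pow_q hF, pow_q_pow_q hF]
    ring
  by_cases h1 : p ∣ q - 1
  · obtain ⟨e, f, h⟩ := fr_split hF hp hp2 h1 hpF hc hcp hcn hε
    obtain ⟨e', f', h'⟩ := fr_semi hF hp hp3 hτ hd hdp (by omega) htτ ht
    exact up_plane hF hn hp hp5 hpF hε hεq hc hd h h' (isScal_of_pow_one hcp)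
      (isScal_of_pow_one hdp)
  by_cases h2 : p ∣ q + 1
  · obtain ⟨s, hs, e, f, h⟩ := fr_eig hF hp hp2 h2 (by omega) hc hcp hcn ht
    obtain ⟨e', f', h'⟩ := fr_semi hF hp hp3 hτ hd hdp (by omega) htτ ht
    refine UP.of_scl hc hd (scl_smulA s c) (Scl.refl d) ?_
    exact up_plane hF hn hp hp5 hpF hε hεq (hc.smulA hs) hd h h'
      (scal_pow_smulA hc s hcp) (isScal_of_pow_one hdp)
  have h3 : ¬ p ∣ q ^ 2 - 1 := by
    intro h
    rw [show q ^ 2 - 1 = (q + 1) * (q - 1) by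
      rw [show (1 : ℕ) = 1 ^ 2 by norm_num, Nat.sq_sub_sq, one_pow]] at h
    rcases hp.dvd_mul.1 h with h | h
    · exact h2 h
    · exact h1 h
  have hm2 := two_le_ord hp hnq h3
  by_cases h4 : ∃ j, Odd j ∧ p ∣ q ^ j + 1
  · obtain ⟨j, hj, hpj⟩ := h4
    obtain ⟨P, hP, hPd⟩ := nt_one hF hp hpF hj hpj hc hcp hcn
    have hri : RI q d := ri_semi hF hp hp3 hτ hd hdp hn
    rcases deg_data hp hp5 h3 hj hpj (by omega) rfl with h5 | ⟨h5, h6, h7⟩
    · have hP5 : 5 ≤ P.natDegree := by omega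
      exact up_R hF (hP5.trans hP.le_n) hpF hc hd (hP.d5 hF hpF hc hP5) hri
    · obtain ⟨u0, u1, -, -, -, hu0, hβ⟩ := hri
      obtain ⟨ν, hν0, hν1, hντ, hνq⟩ := exists_nu hF hp hp2 hτ h7
      exact up_E hF hn hc hd (hP.d3 hF hpF hc (by omega)) hu0 hβ hν0 hνq hντ
        (nu_pow hp h1 (by omega) hν0 hν1 hνq)
  · push Not at h4
    have hti := ti_lin hF hp hpF h4 hc hcp hcn rfl hm2
    exact up_ti hF hp hp5 hpF hc hd hm2 hti
      (ti_semi hF hp hp3 hτ hd hdp (by omega) (hti.le hF)) (isScal_of_pow_one hcp)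
      (isScal_of_pow_one hdp)

omit hn in
/-- Type `B`: linear, `c ^ p` is a scalar which is not a `p`-th power. -/
theorem d5_B (hn0 : 0 < n) (hc : SI q (1 : F ≃+* F) c) (hpq : p ∣ q + 1)
    (h : ∃ l : F, l * l ^ q = 1 ∧ (∀ v, (c ^ p) v = l • v) ∧ ∀ t : F, t ^ p ≠ l) :
    D5 q c ∧ 5 ≤ n := by
  obtain ⟨l, hll, hl, hlp⟩ := h
  have hP := nt_two hF hn0 hp (by omega) hpq hc hll hl hlp
  have hdeg : (X ^ p - C l : F[X]).natDegree = p := natDegree_X_pow_sub_C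
  exact ⟨hP.d5 hF hpF hc (by rw [hdeg]; exact hp5), hp5.trans (hdeg ▸ hP.le_n)⟩

theorem up_BA (hc : SI q (1 : F ≃+* F) c) (hpq : p ∣ q + 1)
    (h : ∃ l : F, l * l ^ q = 1 ∧ (∀ v, (c ^ p) v = l • v) ∧ ∀ t : F, t ^ p ≠ l)
    (hd : SI q (1 : F ≃+* F) d) (hdp : d ^ p = 1) (hdn : ¬ IsScal F d) : UP q p c d := by
  obtain ⟨h1, h2⟩ := d5_B hF hp hp5 hpF (by omega) hc hpq h
  obtain ⟨s, hs, h3⟩ := ri_eig hF hp hpq hn hd hdp hdn
  exact UP.of_scl hc hd (Scl.refl c) (scl_smulA s d) (up_R hF h2 hpF hc (hd.smulA hs) h1 h3)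

theorem up_BB (hc : SI q (1 : F ≃+* F) c) (hpq : p ∣ q + 1)
    (h : ∃ l : F, l * l ^ q = 1 ∧ (∀ v, (c ^ p) v = l • v) ∧ ∀ t : F, t ^ p ≠ l)
    (hd : SI q (1 : F ≃+* F) d)
    (h' : ∃ l : F, l * l ^ q = 1 ∧ (∀ v, (d ^ p) v = l • v) ∧ ∀ t : F, t ^ p ≠ l) :
    UP q p c d := by
  obtain ⟨h1, h2⟩ := d5_B hF hp hp5 hpF (by omega) hc hpq h
  obtain ⟨h3, h4⟩ := d5_B hF hp hp5 hpF (by omega) hd hpq h'
  exact up_K hF h2 hpF hc hd h1 h3

theorem up_BC (hc : SI q (1 : F ≃+* F) c) (hpq : p ∣ q + 1)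
    (h : ∃ l : F, l * l ^ q = 1 ∧ (∀ v, (c ^ p) v = l • v) ∧ ∀ t : F, t ^ p ≠ l)
    (hτ : orderOf τ = p) (hd : SI q τ d) (hdp : d ^ p = 1) : UP q p c d := by
  obtain ⟨h1, h2⟩ := d5_B hF hp hp5 hpF (by omega) hc hpq h
  exact up_R hF h2 hpF hc hd h1 (ri_semi hF hp (by omega) hτ hd hdp hn)

theorem up_CC (hσ : orderOf σ = p) (hc : SI q σ c) (hcp : c ^ p = 1)
    (hτ : orderOf τ = p) (hd : SI q τ d) (hdp : d ^ p = 1) : UP q p c d := by
  obtain ⟨t, htσ, ht⟩ := exists_tau hF hp (by omega) hσ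
  obtain ⟨j, hj⟩ := exists_pow_inv hp hτ hσ
  have htτ : τ t = t := by
    have h1 : ∀ m : ℕ, (σ ^ m) t = t := by
      intro m
      induction m with
      | zero => rfl
      | succ m ih =>
        rw [pow_succ]
        change (σ ^ m) (σ t) = t
        rw [htσ, ih]
    have h2 := h1 j
    rw [hj] at h2
    have h3 : τ (τ⁻¹ t) = t := RingEquiv.apply_symm_apply τ t
    rwa [h2] at h3
  have hε : t ^ q - t ≠ 0 := sub_ne_zero.2 ht
  have hεq : (t ^ q - t) ^ q = -(t ^ q - t) := by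
    rw [sub_pow_q hF, pow_q_pow_q hF]
    ring
  obtain ⟨e, f, h⟩ := fr_semi hF hp (by omega) hσ hc hcp (by omega) htσ ht
  obtain ⟨e', f', h'⟩ := fr_semi hF hp (by omega) hτ hd hdp (by omega) htτ ht
  exact up_plane hF hn hp hp5 hpF hε hεq hc hd h h' (isScal_of_pow_one hcp)
    (isScal_of_pow_one hdp)

/-- **Main theorem (unitary).** -/
theorem up_main (hc : SI q σ c) (hcp : IsScal F (c ^ p)) (hcn : ¬ IsScal F c)
    (hd : SI q τ d) (hdp : IsScal F (d ^ p)) (hdn : ¬ IsScal F d) : UP q p c d := by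
  have hp2 : p ≠ 2 := by omega
  have hn0 : 0 < n := by omega
  have : Fact p.Prime := ⟨hp⟩
  have hord : ∀ {θ : F ≃+* F} {x : Equiv.Perm (Fin n → F)}, SI q θ x → IsScal F (x ^ p) →
      θ = 1 ∨ orderOf θ = p := by
    intro θ x hx ⟨a, ha⟩
    have h1 : θ ^ p = 1 := by
      have hv : ∃ v : Fin n → F, v ≠ 0 := ⟨fun _ => 1, fun h => one_ne_zero (congrFun h ⟨0, hn0⟩)⟩
      obtain ⟨v, hv⟩ := hv
      have ha0 : a ≠ 0 := by
        rintro rfl
        apply hv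
        have h2 := ha v
        rw [zero_smul] at h2
        exact (x ^ p).injective (h2.trans (hx.pow p).semi.zero.symm)
      ext b
      have h2 := (hx.pow p).semi.smul b v
      rw [ha, ha, smul_smul, smul_smul, mul_comm a b] at h2
      have h3 : (b * a - (θ ^ p) b * a) • v = 0 := by rw [sub_smul, h2, sub_self]
      have h4 := (smul_eq_zero.1 h3).resolve_right hv
      have h5 : b * a = (θ ^ p) b * a := sub_eq_zero.1 h4
      exact (mul_right_cancel₀ ha0 h5).symm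
    by_cases h : θ = 1
    · exact Or.inl h
    · exact Or.inr (orderOf_eq_prime h1 h)
  rcases hord hc hcp with rfl | hσ <;> rcases hord hd hdp with rfl | hτ
  · rcases scale_lin hF hn0 hp hp2 hc hcp with ⟨s, hs, h1⟩ | ⟨hpq, h1⟩ <;>
      rcases scale_lin hF hn0 hp hp2 hd hdp with ⟨t, ht, h2⟩ | ⟨hpq', h2⟩
    · exact UP.of_smulA hc hd s t (up_AA hF hn hp hp5 hpF (hc.smulA hs) h1 (not_isScal_smulA hcn)
        (hd.smulA ht) h2 (not_isScal_smulA hdn))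
    · refine UP.of_scl hc hd (scl_smulA s c) (Scl.refl d) (UP.symm hd ?_)
      exact up_BA hF hn hp hp5 hpF hd hpq' h2 (hc.smulA hs) h1 (not_isScal_smulA hcn)
    · refine UP.of_scl hc hd (Scl.refl c) (scl_smulA t d) ?_
      exact up_BA hF hn hp hp5 hpF hc hpq h1 (hd.smulA ht) h2 (not_isScal_smulA hdn)
    · exact up_BB hF hn hp hp5 hpF hc hpq h1 hd h2
  · obtain ⟨t, ht, h2⟩ := scale_semi hF hn0 hp hp2 hτ hd hdp
    rcases scale_lin hF hn0 hp hp2 hc hcp with ⟨s, hs, h1⟩ | ⟨hpq, h1⟩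
    · exact UP.of_smulA hc hd s t (up_AC hF hn hp hp5 hpF (hc.smulA hs) h1 (not_isScal_smulA hcn)
        hτ (hd.smulA ht) h2)
    · exact UP.of_scl hc hd (Scl.refl c) (scl_smulA t d)
        (up_BC hF hn hp hp5 hpF hc hpq h1 hτ (hd.smulA ht) h2)
  · obtain ⟨s, hs, h1⟩ := scale_semi hF hn0 hp hp2 hσ hc hcp
    apply UP.symm hd
    rcases scale_lin hF hn0 hp hp2 hd hdp with ⟨t, ht, h2⟩ | ⟨hpq, h2⟩
    · exact UP.of_smulA hd hc t s (up_AC hF hn hp hp5 hpF (hd.smulA ht) h2 (not_isScal_smulA hdn)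
        hσ (hc.smulA hs) h1)
    · exact UP.of_scl hd hc (Scl.refl d) (scl_smulA s c)
        (up_BC hF hn hp hp5 hpF hd hpq h2 hσ (hc.smulA hs) h1)
  · obtain ⟨s, hs, h1⟩ := scale_semi hF hn0 hp hp2 hσ hc hcp
    obtain ⟨t, ht, h2⟩ := scale_semi hF hn0 hp hp2 hτ hd hdp
    exact UP.of_smulA hc hd s t (up_CC hF hn hp hp5 hpF hσ (hc.smulA hs) h1 hτ (hd.smulA ht) h2)

end core

end Cfsg.Agent.H957.T5U
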