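import Mathlib
import Cfsg.Agent.H430.CfBase
import Cfsg.Agent.S2337
import Cfsg.Agent.H121.ReeMin
import Cfsg.Agent.S1163
import Cfsg.Agent.S1073
import Cfsg.Agent.S1116
import Cfsg.Agent.LieRecognition.ReeFinal
import Cfsg.Agent.LieRecognition.ReeSetup
import Cfsg.Prelude.Def_Perm

/-!
# S5880, the Suzuki groups and the small Ree groups (helper957, task 599)
-/

set_option autoImplicit false
set_option linter.unusedSectionVars false

namespace Cfsg.Agent.H957.CfRankOne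

open Module Cfsg Cfsg.Agent.H430.CfBase

universe u

/-- the permutation representation on the cosets of a proper subgroup is not trivial -/
theorem exists_ne_one {G : Type*} [Group G] (L : Subgroup G) (hL : L ≠ ⊤) : ∃ g, permRep ℂ G (G ⧸ L) g ≠ 1 := by
  classical
  obtain ⟨g, hg⟩ : ∃ g, g ∉ L := by
    by_contra h
    push Not at h
    exact hL (eq_top_iff.2 fun x _ => h x)
  refine ⟨g, fun h => hg ?_⟩
  let f : G ⧸ L → ℂ := Pi.single (QuotientGroup.mk g) 1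
  have h1 : permRep ℂ G (G ⧸ L) g f (QuotientGroup.mk g) = f (QuotientGroup.mk g) := by rw [h]; rfl
  have h2 : f (g⁻¹ • (QuotientGroup.mk g : G ⧸ L)) = f (QuotientGroup.mk g) := h1
  have h3 : g⁻¹ • (QuotientGroup.mk g : G ⧸ L) = QuotientGroup.mk 1 := by
    change (QuotientGroup.mk (g⁻¹ * g) : G ⧸ L) = _
    rw [inv_mul_cancel]
  rw [h3] at h2
  by_contra hg'
  have h4 : (QuotientGroup.mk 1 : G ⧸ L) ≠ QuotientGroup.mk g := by
    intro h5
    rw [QuotientGroup.eq] at h5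
    apply hg'
    simpa using h5
  have h5 : f (QuotientGroup.mk 1) = 0 := Pi.single_eq_of_ne h4 _
  have h6 : f (QuotientGroup.mk g) = 1 := Pi.single_eq_same _ _
  rw [h5, h6] at h2
  exact zero_ne_one h2

theorem finrank_perm {G : Type*} [Group G] [Finite G] (L : Subgroup G) : finrank ℂ (G ⧸ L → ℂ) = L.index := by
  classical
  have : Fintype (G ⧸ L) := Fintype.ofFinite _
  rw [Module.finrank_fintype_fun_eq_card, ← Nat.card_eq_fintype_card]
  rfl

/-- Suzuki groups: indices are at least `2 (q - 1)` -/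
theorem sz_index {F : Type*} [Field F] [Fintype F] {m : ℕ} (hm : 1 ≤ m) (hF : Fintype.card F = 2 ^ (2 * m + 1))
    (hs : IsSimpleGroup ↥(Cfsg.Lie.Sz F (2 ^ (m + 1)))) [Finite ↥(Cfsg.Lie.Sz F (2 ^ (m + 1)))]
    (L : Subgroup ↥(Cfsg.Lie.Sz F (2 ^ (m + 1)))) (hL : L ≠ ⊤) : 2 * (Fintype.card F - 1) ≤ L.index := by
  classical
  have H := LieRecognition.SzMatrix.good hF
  rw [← finrank_perm L]
  refine S2337.bound H (permRep ℂ _ (↥(Cfsg.Lie.Sz F (2 ^ (m + 1))) ⧸ L)) ?_ 2 ?_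
  · refine ⟨1, H121.Chr.faithful _ (exists_ne_one L hL) fun h => ?_⟩
    rw [← H.u_zero] at h
    exact one_ne_zero (H.u_inj h).2
  · intro x hx
    by_contra h
    have h1 : x ≤ 1 := by omega
    have h2 : x ^ 2 ≤ 1 := by nlinarith
    have h3 : 2 ^ 3 ≤ 2 ^ (2 * m + 1) := Nat.pow_le_pow_right (by norm_num) (by omega)
    rw [hF] at hx
    omega

theorem row_sz {S : Type*} [Group S] [Finite S] [IsSimpleGroup S] (h : Cfsg.Lie.IsoSuzuki S) : Row S := by
  obtain ⟨F, _, _, m, hm, hF, ⟨e⟩⟩ := h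
  refine Row.of_nonempty ⟨e⟩ ?_
  have hs : IsSimpleGroup ↥(Cfsg.Lie.Sz F (2 ^ (m + 1))) := e.isSimpleGroup_congr.1 inferInstance
  have hfin : Finite ↥(Cfsg.Lie.Sz F (2 ^ (m + 1))) := Finite.of_equiv _ e.toEquiv
  obtain ⟨-, T, hT1, hT2, -⟩ := S1163.result hm hF
  refine Row.of_sylow T ?_ ?_
  · intro h
    rw [h, Subgroup.index_top] at hT2
    have : 0 < (2 ^ (2 * m + 1)) ^ 2 := by positivity
    omega
  · intro L hL
    have h1 := sz_index hm hF hs L hL
    rw [hT2]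
    have h3 : 2 ^ 3 ≤ 2 ^ (2 * m + 1) := Nat.pow_le_pow_right (by norm_num) (by omega)
    rw [hF] at h1
    obtain ⟨a, ha⟩ : ∃ a, 2 ^ (2 * m + 1) = a + 8 := ⟨2 ^ (2 * m + 1) - 8, by omega⟩
    rw [ha] at h1 ⊢
    have h4 : 2 * (a + 7) ≤ L.index := by omega
    calc (a + 8) ^ 2 + 1 ≤ (2 * (a + 7)) ^ 2 := by nlinarith
      _ ≤ L.index ^ 2 := Nat.pow_le_pow_left h4 2

section Ree

open Cfsg.Agent.LieRecognition Cfsg.Agent.LieRecognition.ReeAbs

variable {K : Type*} [Field K] [Fintype K] {G : Type*} [Group G] {m : ℕ}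
  {U : K → K → K → G} {h : Kˣ → G} {n : G}

/-- the unipotent subgroup -/
def unip (D : Data m U h n) : Subgroup G where
  carrier := {g | ∃ t u v, g = U t u v}
  one_mem' := ⟨0, 0, 0, D.U_zero.symm⟩
  mul_mem' := by
    rintro _ _ ⟨t, u, v, rfl⟩ ⟨t', u', v', rfl⟩
    exact ⟨_, _, _, D.U_mul t u v t' u' v'⟩
  inv_mem' := by
    rintro _ ⟨t, u, v, rfl⟩
    let u' := -(u + t * t ^ (3 ^ (m + 1)))
    have h1 : ∃ v', U t u v * U (-t) (-u - t * t ^ 3 ^ (m + 1)) v' = U 0 0 0 := by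
      have h2 : (-t) ^ 3 ^ (m + 1) = -(t ^ 3 ^ (m + 1)) := (odd_three_pow (m + 1)).neg_pow t
      refine ⟨-v + u * (-t) + t ^ 2 * (-t) ^ (3 ^ (m + 1)) - t * (-t) * (-t) ^ (3 ^ (m + 1)), ?_⟩
      rw [D.U_mul, h2]
      congr 1 <;> ring
    obtain ⟨v', hv'⟩ := h1
    rw [D.U_zero] at hv'
    exact ⟨_, _, _, inv_eq_of_mul_eq_one_right hv'⟩

theorem card_unip (D : Data m U h n) : Nat.card (unip D) = Fintype.card K ^ 3 := by
  rw [← Nat.card_eq_fintype_card]
  have : Nat.card (unip D) = Nat.card (K × K × K) := by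
    symm
    refine Nat.card_congr (Equiv.ofBijective (fun p : K × K × K => (⟨U p.1 p.2.1 p.2.2, _, _, _, rfl⟩ : unip D)) ⟨?_, ?_⟩)
    · rintro ⟨t, u, v⟩ ⟨t', u', v'⟩ hp
      have h1 : U t u v = U t' u' v' := congrArg Subtype.val hp
      have h2 := D.inj₁ t u v 1 t' u' v' 1 (by rw [h1])
      rw [h2.1, h2.2.1, h2.2.2.1]
    · rintro ⟨_, t, u, v, rfl⟩
      exact ⟨(t, u, v), rfl⟩
  rw [this, Nat.card_prod, Nat.card_prod]
  ring

theorem card_norm_ge [Finite G] (D : Data m U h n) : Fintype.card K ^ 3 * (Fintype.card K - 1) ≤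
    Nat.card (Subgroup.normalizer ((unip D : Subgroup G) : Set G)) := by
  classical
  have hle : unip D ≤ Subgroup.normalizer ((unip D : Subgroup G) : Set G) := Subgroup.le_normalizer
  have hh : ∀ a, h a ∈ Subgroup.normalizer ((unip D : Subgroup G) : Set G) := by
    intro a
    have h1 : ∀ a : Kˣ, ∀ x ∈ unip D, h a * x * (h a)⁻¹ ∈ unip D := by
      rintro a _ ⟨t, u, v, rfl⟩
      rw [D.h_U, mul_inv_cancel_right]
      exact ⟨_, _, _, rfl⟩
    rw [Subgroup.mem_normalizer_iff]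
    intro x
    refine ⟨h1 a x, fun hx => ?_⟩
    have h2 := h1 a⁻¹ _ hx
    rw [D.h_inv] at h2
    have h3 : (h a)⁻¹ * (h a * x * (h a)⁻¹) * ((h a)⁻¹)⁻¹ = x := by group
    rwa [h3] at h2
  let f : (K × K × K) × Kˣ → Subgroup.normalizer ((unip D : Subgroup G) : Set G) := fun p =>
    ⟨U p.1.1 p.1.2.1 p.1.2.2 * h p.2, Subgroup.mul_mem _ (hle ⟨_, _, _, rfl⟩) (hh _)⟩
  have hf : Function.Injective f := by
    rintro ⟨⟨t, u, v⟩, a⟩ ⟨⟨t', u', v'⟩, a'⟩ hp
    have h1 : U t u v * h a = U t' u' v' * h a' := congrArg Subtype.val hp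
    have h2 := D.inj₁ t u v a t' u' v' a' h1
    rw [h2.1, h2.2.1, h2.2.2.1, h2.2.2.2]
  have h1 := Nat.card_le_card_of_injective f hf
  rw [Nat.card_prod, Nat.card_prod, Nat.card_prod, Nat.card_units, Nat.card_eq_fintype_card] at h1
  calc _ = Fintype.card K * (Fintype.card K * Fintype.card K) * (Fintype.card K - 1) := by ring
    _ ≤ _ := h1

end Ree

theorem row_ree {S : Type*} [Group S] [Finite S] [IsSimpleGroup S] (h : Cfsg.Lie.IsoRee S) : Row S := by
  classical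
  obtain ⟨K, _, _, m, hm, hK, ⟨e⟩⟩ := h
  refine Row.of_nonempty ⟨e⟩ ?_
  have hs : IsSimpleGroup ↥(Cfsg.Lie.twistedG2 K (3 ^ m)) := e.isSimpleGroup_congr.1 inferInstance
  have hfin : Finite ↥(Cfsg.Lie.twistedG2 K (3 ^ m)) := Finite.of_equiv _ e.toEquiv
  have hch : CharP K 3 := LieRecognition.ReeAbs.charP_three hK
  have D := LieRecognition.ReeFinal.data hK
  have Dl := LieRecognition.ReeSetup.local_of_data D hK
  obtain ⟨f, t₀, T⟩ := LieRecognition.ReeSetup.exists_setup D hK (S1116.result hK hm) Dl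
  have hidx : ∀ L : Subgroup ↥(Cfsg.Lie.twistedG2 K (3 ^ m)), L ≠ ⊤ →
      (3 ^ (2 * m + 1)) ^ 2 - 3 ^ (2 * m + 1) + 1 ≤ L.index := by
    intro L hL
    rw [← finrank_perm L]
    exact H121.ReeMin.main (permRep ℂ _ (↥(Cfsg.Lie.twistedG2 K (3 ^ m)) ⧸ L)) D hK
      (fun x h1 h2 => isConj_iff.mpr (T.conjG x h1 h2)) (exists_ne_one L hL)
  have hcard := LieRecognition.ReeFinal.card hK
  set q := 3 ^ (2 * m + 1) with hq
  have hq27 : 27 ≤ q := by
    have : 3 ^ 3 ≤ 3 ^ (2 * m + 1) := Nat.pow_le_pow_right (by norm_num) (by omega)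
    omega
  have : Fact (Nat.Prime 3) := ⟨Nat.prime_three⟩
  -- a Sylow 3-subgroup
  have h3 : ¬ 3 ∣ (q ^ 3 + 1) * (q - 1) := by
    have hq3 : 3 ∣ q := dvd_pow_self 3 (by omega)
    rw [Nat.prime_three.dvd_mul]
    rintro (h1 | h1)
    · have h2 : 3 ∣ q ^ 3 := dvd_pow hq3 (by norm_num)
      have h4 := (Nat.dvd_add_right h2).1 h1
      omega
    · omega
  have hfac : (Nat.card ↥(Cfsg.Lie.twistedG2 K (3 ^ m))).factorization 3 = 3 * (2 * m + 1) := by
    rw [hcard]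
    have e1 : q ^ 3 * (q - 1) * (q ^ 3 + 1) = 3 ^ (3 * (2 * m + 1)) * ((q ^ 3 + 1) * (q - 1)) := by
      rw [mul_assoc, mul_comm (q - 1), hq, ← pow_mul, mul_comm (2 * m + 1) 3]
    rw [e1, Nat.factorization_mul (by positivity) (by
      intro h0
      rw [h0] at h3
      exact h3 (dvd_zero 3)), Finsupp.add_apply, Nat.factorization_eq_zero_of_not_dvd h3,
      Nat.Prime.factorization_pow Nat.prime_three, Finsupp.single_eq_same]
    omega
  have hU : Nat.card (unip D) = 3 ^ (Nat.card ↥(Cfsg.Lie.twistedG2 K (3 ^ m))).factorization 3 := by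
    rw [hfac, card_unip, hK, ← pow_mul, mul_comm]
  let P : Sylow 3 ↥(Cfsg.Lie.twistedG2 K (3 ^ m)) := Sylow.ofCard (unip D) hU
  have hN := card_norm_ge D
  have hNi : (Subgroup.normalizer ((P : Subgroup ↥(Cfsg.Lie.twistedG2 K (3 ^ m))) : Set ↥(Cfsg.Lie.twistedG2 K (3 ^ m)))).index ≤ q ^ 3 + 1 := by
    have h1 := (Subgroup.normalizer ((unip D : Subgroup ↥(Cfsg.Lie.twistedG2 K (3 ^ m))) : Set ↥(Cfsg.Lie.twistedG2 K (3 ^ m)))).card_mul_index
    rw [hcard] at h1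
    rw [hK] at hN
    change (Subgroup.normalizer ((unip D : Subgroup ↥(Cfsg.Lie.twistedG2 K (3 ^ m))) : Set ↥(Cfsg.Lie.twistedG2 K (3 ^ m)))).index ≤ q ^ 3 + 1
    have h2 : 0 < q ^ 3 * (q - 1) := by
      have : 0 < q - 1 := by omega
      positivity
    refine Nat.le_of_mul_le_mul_left ?_ h2
    calc _ ≤ Nat.card (Subgroup.normalizer ((unip D : Subgroup ↥(Cfsg.Lie.twistedG2 K (3 ^ m))) : Set ↥(Cfsg.Lie.twistedG2 K (3 ^ m)))) * _ :=
          Nat.mul_le_mul_right _ hN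
      _ = _ := by rw [h1]
  refine Row.of_sylow P ?_ ?_
  · intro htop
    have hn : (unip D).Normal := Subgroup.normalizer_eq_top_iff.1 htop
    rcases hs.eq_bot_or_eq_top_of_normal _ hn with h1 | h1
    · have h2 := card_unip D
      rw [h1, Subgroup.card_bot, hK] at h2
      have : 1 < q ^ 3 := Nat.one_lt_pow (by norm_num) (by omega)
      omega
    · have h2 := card_unip D
      rw [h1, Subgroup.card_top, hcard, hK, mul_assoc] at h2
      have h4 : (q - 1) * (q ^ 3 + 1) = 1 := by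
        have h5 : 0 < q ^ 3 := by positivity
        exact Nat.eq_of_mul_eq_mul_left h5 (by rw [h2, mul_one])
      have h5 : q - 1 = 1 := Nat.eq_one_of_mul_eq_one_right h4
      omega
  · intro L hL
    refine hNi.trans ?_
    have h1 := hidx L hL
    obtain ⟨a, ha⟩ : ∃ a, q = a + 27 := ⟨q - 27, by omega⟩
    rw [ha] at h1 ⊢
    have h4 : (a + 27) ^ 2 - (a + 27) = (a + 27) * (a + 26) := by
      rw [show (a + 27) ^ 2 = (a + 27) * (a + 26) + (a + 27) by ring, Nat.add_sub_cancel]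
    rw [h4] at h1
    calc (a + 27) ^ 3 + 1 ≤ ((a + 27) * (a + 26) + 1) ^ 2 := by nlinarith [Nat.zero_le a, Nat.zero_le (a^2), Nat.zero_le (a^3), Nat.zero_le (a^4)]
      _ ≤ L.index ^ 2 := Nat.pow_le_pow_left h1 2

end Cfsg.Agent.H957.CfRankOne
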