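import Cfsg.Agent.H957.InvU1
import Cfsg.Agent.S0283

/-!
# S3830, row PSU: non-degenerate subspaces of odd dimension (helper957)
-/

set_option autoImplicit false

namespace Cfsg.Agent.H957.InvU

open Cfsg Subgroup Cfsg.Agent.H459.Inv
open Cfsg.Agent.H903.SylSemi (Ind)
open Cfsg.Agent.LieClassical.HermBasic Cfsg.Agent.LieClassical.HermSiegel
open Cfsg.Agent.ClassicalGeometry.PSUAutCount Cfsg.Agent.ClassicalGeometry.UnitAutBasic
open Cfsg.Agent.H177.MeetPSU (rho rho_apply rho_injective yy yy_apply ind_yy uniq)
open Cfsg.Agent.H957.T5U Cfsg.Agent.H957.T5V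
open scoped Matrix

variable {F : Type} [Field F] [Fintype F] {n k q p : ℕ}

/-- The linear combination. -/
def emb (b : Fin k → (Fin n → F)) (x : Fin k → F) : Fin n → F := ∑ i, x i • b i

/-- The coordinates. -/
def crd (q : ℕ) (b : Fin k → (Fin n → F)) (v : Fin n → F) : Fin k → F :=
  fun i => hermForm n F q v (b i)

omit [Fintype F] in
theorem emb_add (b : Fin k → (Fin n → F)) (x y : Fin k → F) : emb b (x + y) = emb b x + emb b y := by
  unfold emb
  rw [← Finset.sum_add_distrib]
  exact Finset.sum_congr rfl fun i _ => by rw [Pi.add_apply, add_smul]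

omit [Fintype F] in
theorem emb_smul (b : Fin k → (Fin n → F)) (a : F) (x : Fin k → F) :
    emb b (a • x) = a • emb b x := by
  unfold emb
  rw [Finset.smul_sum]
  exact Finset.sum_congr rfl fun i _ => by rw [Pi.smul_apply, smul_eq_mul, mul_smul]

omit [Fintype F] in
theorem emb_sub (b : Fin k → (Fin n → F)) (x y : Fin k → F) : emb b (x - y) = emb b x - emb b y := by
  rw [sub_eq_add_neg, emb_add, ← neg_one_smul F y, emb_smul, neg_one_smul, ← sub_eq_add_neg]

theorem crd_add (b : Fin k → (Fin n → F)) (u v : Fin n → F) :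
    crd q b (u + v) = crd q b u + crd q b v := by
  funext i; exact herm_add_left u v (b i)

theorem crd_sub (b : Fin k → (Fin n → F)) (u v : Fin n → F) :
    crd q b (u - v) = crd q b u - crd q b v := by
  funext i; exact herm_sub_left u v (b i)

section onb

variable (hF : Fintype.card F = q ^ 2) {b : Fin k → (Fin n → F)}
  (hb : ∀ i j, hermForm n F q (b i) (b j) = if i = j then 1 else 0)

include hb in
theorem crd_emb (x : Fin k → F) : crd q b (emb b x) = x := by
  funext j
  unfold crd emb
  rw [herm_sum_left, Finset.sum_eq_single j]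
  · rw [herm_smul_left, hb, if_pos rfl, mul_one]
  · intro i _ hij
    rw [herm_smul_left, hb, if_neg hij, mul_zero]
  · intro h
    exact absurd (Finset.mem_univ _) h

include hb in
theorem emb_inj : Function.Injective (emb b) := fun x y h => by
  rw [← crd_emb hb x, h, crd_emb hb]

include hF in
theorem herm_emb_right (v : Fin n → F) (x : Fin k → F) :
    hermForm n F q v (emb b x) = hermForm k F q (crd q b v) x := by
  unfold emb
  rw [herm_sum_right hF, herm_def]
  exact Finset.sum_congr rfl fun i _ => by rw [herm_smul_right, mul_comm]; rfl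

include hF hb in
theorem herm_emb (x y : Fin k → F) :
    hermForm n F q (emb b x) (emb b y) = hermForm k F q x y := by
  rw [herm_emb_right hF, crd_emb hb]

/-- The matrix of the extension by the identity. -/
def extM (q : ℕ) (b : Fin k → (Fin n → F)) (M : Matrix (Fin k) (Fin k) F) :
    Matrix (Fin n) (Fin n) F :=
  1 + (Matrix.of fun i j => b j i) * ((M - 1) * (Matrix.of fun i j => (b i j) ^ q))

omit [Fintype F] in
theorem emb_eq (b : Fin k → (Fin n → F)) (x : Fin k → F) :
    (Matrix.of fun (i : Fin n) (j : Fin k) => b j i) *ᵥ x = emb b x := by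
  funext i
  simp only [Matrix.mulVec, dotProduct, Matrix.of_apply, emb, Finset.sum_apply, Pi.smul_apply,
    smul_eq_mul]
  exact Finset.sum_congr rfl fun j _ => mul_comm _ _

omit [Fintype F] in
theorem crd_eq (b : Fin k → (Fin n → F)) (v : Fin n → F) :
    (Matrix.of fun (i : Fin k) (j : Fin n) => (b i j) ^ q) *ᵥ v = crd q b v := by
  funext i
  simp only [Matrix.mulVec, dotProduct, Matrix.of_apply, crd, herm_def]
  exact Finset.sum_congr rfl fun j _ => mul_comm _ _

omit [Fintype F] in
theorem extM_mulVec (b : Fin k → (Fin n → F)) (M : Matrix (Fin k) (Fin k) F) (v : Fin n → F) :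
    extM q b M *ᵥ v = v + emb b (M *ᵥ crd q b v - crd q b v) := by
  unfold extM
  rw [Matrix.add_mulVec, Matrix.one_mulVec, ← Matrix.mulVec_mulVec, ← Matrix.mulVec_mulVec, crd_eq,
    emb_eq, Matrix.sub_mulVec, Matrix.one_mulVec]

include hb in
theorem extM_det (M : Matrix (Fin k) (Fin k) F) : (extM q b M).det = M.det := by
  unfold extM
  rw [Matrix.det_one_add_mul_comm, Matrix.mul_assoc]
  have h1 : (Matrix.of fun (i : Fin k) (j : Fin n) => (b i j) ^ q) *
      (Matrix.of fun (i : Fin n) (j : Fin k) => b j i) = 1 := by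
    ext i j
    rw [Matrix.mul_apply, Matrix.one_apply]
    have h2 := hb j i
    rw [herm_def] at h2
    simp only [Matrix.of_apply]
    rw [show (∑ x, b i x ^ q * b j x) = ∑ x, b j x * b i x ^ q from
      Finset.sum_congr rfl fun _ _ => mul_comm _ _, h2]
    simp only [eq_comm]
  rw [h1, mul_one, add_sub_cancel]

include hF hb in
theorem extM_herm {M : Matrix (Fin k) (Fin k) F}
    (hM : ∀ x y, hermForm k F q (M *ᵥ x) (M *ᵥ y) = hermForm k F q x y) (u v : Fin n → F) :
    hermForm n F q (extM q b M *ᵥ u) (extM q b M *ᵥ v) = hermForm n F q u v := by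
  have h1 : ∀ v : Fin n → F, extM q b M *ᵥ v = (v - emb b (crd q b v)) + emb b (M *ᵥ crd q b v) := by
    intro v
    rw [extM_mulVec, emb_sub]
    abel
  have h2 : ∀ (v : Fin n → F) (x : Fin k → F),
      hermForm n F q (v - emb b (crd q b v)) (emb b x) = 0 := by
    intro v x
    rw [herm_emb_right hF, crd_sub, crd_emb hb, sub_self, herm_zero_left]
  have h3 : ∀ (v : Fin n → F) (x : Fin k → F),
      hermForm n F q (emb b x) (v - emb b (crd q b v)) = 0 := fun v x =>
    herm_eq_zero_swap hF (h2 v x)
  have h4 : hermForm n F q u v = hermForm n F q (u - emb b (crd q b u)) (v - emb b (crd q b v))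
      + hermForm k F q (crd q b u) (crd q b v) := by
    conv_lhs => rw [show u = (u - emb b (crd q b u)) + emb b (crd q b u) by abel,
      show v = (v - emb b (crd q b v)) + emb b (crd q b v) by abel]
    rw [herm_add_left, herm_add_right hF, herm_add_right hF, h2, h3, herm_emb hF hb]
    ring
  rw [h1, h1, herm_add_left, herm_add_right hF, herm_add_right hF, h2, h3, herm_emb hF hb, hM, h4]
  ring

/-- Extension by the identity on the orthogonal complement. -/
def ext (g : SU k F q) : SU n F q :=
  mkSU (extM q b (mat g)) (by rw [extM_det hb]; exact g.1.2) (extM_herm hF hb (fun x y => herm_act g x y))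

theorem act_ext (g : SU k F q) (v : Fin n → F) :
    act (ext hF hb g) v = v + emb b (act g (crd q b v) - crd q b v) := extM_mulVec _ _ _

theorem crd_ext (g : SU k F q) (v : Fin n → F) :
    crd q b (act (ext hF hb g) v) = act g (crd q b v) := by
  rw [act_ext, crd_add, crd_emb hb, add_sub_cancel]

theorem ext_mul (g h : SU k F q) : ext hF hb (g * h) = ext hF hb g * ext hF hb h := by
  apply ext_act
  intro v
  rw [act_mul, act_ext hF hb g, crd_ext, act_ext hF hb h, act_ext, act_mul, emb_sub, emb_sub, emb_sub]
  abel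

theorem act_ext_emb (g : SU k F q) (x : Fin k → F) :
    act (ext hF hb g) (emb b x) = emb b (act g x) := by
  rw [act_ext, crd_emb hb, emb_sub]
  abel

/-- Extension, as a homomorphism. -/
def extHom : SU k F q →* SU n F q := MonoidHom.mk' (ext hF hb) (ext_mul hF hb)

theorem extHom_injective : Function.Injective (extHom hF hb) := by
  intro g h hgh
  apply ext_act
  intro x
  apply emb_inj hb
  rw [← act_ext_emb hF hb, ← act_ext_emb hF hb]
  exact congrArg (fun s => act s (emb b x)) hgh

theorem res_ext (g : SU k F q) : Res (emb b) (rho n F q (ext hF hb g)) (rho k F q g) := fun x => by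
  rw [rho_apply, rho_apply, act_ext_emb]

end onb

end Cfsg.Agent.H957.InvU
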