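import Mathlib
import Cfsg.Agent.H851.SimsForms
import Cfsg.Agent.H36.Sims.Zero

/-!
# Classical groups of large rank: from `FormsCore` to central quotients (helper957, S3386)

* `cw` : Chevalley-Warning, a common singular vector for finitely many operators;
* `large_abs` : `FormsCore` for a central quotient `Γ ⧸ Z(Γ)`, `⁅isom, isom⁆ ≤ Γ ≤ isom`.
-/

set_option autoImplicit false

namespace Cfsg.Agent.H957.Sims

open Module Cfsg.Agent.H851.Sims

/-- a common singular vector -/
theorem cw {F V : Type} [Field F] [Finite F] [AddCommGroup V] [Module F V] [Module.Finite F V] (r : ℕ) [Fact r.Prime]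
    [CharP F r] (D : FormData F V) (B : V →ₗ[F] V →ₗ[F] F) (hB : ∀ v, D.Q v = B v v) (K : ℕ)
    (T : Finset (V ≃ₗ[F] V)) (hT : T.card ≤ K) (W : Submodule F V) (hd : 2 * (K * K + K) + 1 ≤ finrank F W) :
    ∃ v ∈ W, v ≠ 0 ∧ (∀ s ∈ T, ∀ t ∈ T, D.f (s v) (t v) = 0) ∧ ∀ t ∈ T, D.Q (t v) = 0 := by
  classical
  letI : Algebra (ZMod r) F := ZMod.algebra F r
  letI : Module (ZMod r) V := Module.compHom V (algebraMap (ZMod r) F)
  haveI : IsScalarTower (ZMod r) F V := ⟨fun a b v => by
    show (a • b) • v = algebraMap (ZMod r) F a • (b • v)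
    rw [Algebra.smul_def, mul_smul]⟩
  have hsm : ∀ (a : ZMod r) (v : V), a • v = algebraMap (ZMod r) F a • v := fun _ _ => rfl
  haveI : Module.Finite (ZMod r) F := Module.Finite.of_finite
  let b := Module.finBasis (ZMod r) F
  set m := finrank (ZMod r) F with hm
  have hσ : ∀ a : ZMod r, D.σ (algebraMap (ZMod r) F a) = algebraMap (ZMod r) F a := by
    intro a
    have h : D.σ.comp (algebraMap (ZMod r) F) = algebraMap (ZMod r) F := RingHom.ext_zmod _ _
    exact congrArg (fun f => f a) h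
  -- the forms
  let fm : (V ≃ₗ[F] V) → (V ≃ₗ[F] V) → Fin m → W →ₗ[ZMod r] W →ₗ[ZMod r] ZMod r := fun s t j =>
    LinearMap.mk₂ (ZMod r) (fun u v => b.coord j (D.f (s u) (t v)))
      (fun u u' v => by rw [Submodule.coe_add, map_add, D.add_left, map_add])
      (fun a u v => by
        have h1 : ((a • u : W) : V) = algebraMap (ZMod r) F a • (u : V) := rfl
        rw [h1, map_smul, D.smul_left, ← Algebra.smul_def, map_smul])
      (fun u v v' => by rw [Submodule.coe_add, map_add, D.add_right, map_add])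
      (fun a u v => by
        have h1 : ((a • v : W) : V) = algebraMap (ZMod r) F a • (v : V) := rfl
        rw [h1, map_smul, D.smul_right, hσ, ← Algebra.smul_def, map_smul])
  let qm : (V ≃ₗ[F] V) → Fin m → W →ₗ[ZMod r] W →ₗ[ZMod r] ZMod r := fun t j =>
    LinearMap.mk₂ (ZMod r) (fun u v => b.coord j (B (t u) (t v)))
      (fun u u' v => by rw [Submodule.coe_add, map_add, map_add, LinearMap.add_apply, map_add])
      (fun a u v => by
        have h1 : ((a • u : W) : V) = algebraMap (ZMod r) F a • (u : V) := rfl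
        rw [h1, map_smul, map_smul, LinearMap.smul_apply, smul_eq_mul, ← Algebra.smul_def, map_smul])
      (fun u v v' => by rw [Submodule.coe_add, map_add, map_add, map_add])
      (fun a u v => by
        have h1 : ((a • v : W) : V) = algebraMap (ZMod r) F a • (v : V) := rfl
        rw [h1, map_smul, map_smul, smul_eq_mul, ← Algebra.smul_def, map_smul])
  let BB : (((T × T) ⊕ T) × Fin m) → W →ₗ[ZMod r] W →ₗ[ZMod r] ZMod r := fun x =>
    Sum.elim (fun y => fm y.1 y.2 x.2) (fun y => qm y x.2) x.1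
  have hfin : Module.Finite (ZMod r) W := Module.Finite.trans F W
  have hcard : 2 * Fintype.card (((T × T) ⊕ T) × Fin m) < finrank (ZMod r) W := by
    rw [Fintype.card_prod, Fintype.card_sum, Fintype.card_prod, Fintype.card_coe, Fintype.card_fin,
      ← Module.finrank_mul_finrank (ZMod r) F W]
    have hm0 : 0 < m := Module.finrank_pos
    have h1 : T.card * T.card + T.card ≤ K * K + K := Nat.add_le_add (Nat.mul_le_mul hT hT) hT
    calc 2 * ((T.card * T.card + T.card) * m) ≤ 2 * ((K * K + K) * m) := by gcongr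
      _ = m * (2 * (K * K + K)) := by ring
      _ < m * finrank F W := Nat.mul_lt_mul_of_pos_left (by omega) hm0
  obtain ⟨w, hw0, hw⟩ := H36.Sims.common_zero BB hcard
  have hz : ∀ x : F, (∀ j, b.coord j x = 0) → x = 0 := by
    intro x hx
    refine b.ext_elem fun j => ?_
    rw [map_zero]
    exact hx j
  refine ⟨w, w.2, fun h => hw0 (Subtype.ext h), fun s hs t ht => hz _ fun j => ?_, fun t ht => ?_⟩
  · exact hw (Sum.inl (⟨s, hs⟩, ⟨t, ht⟩), j)
  · rw [hB]
    exact hz _ fun j => hw (Sum.inr ⟨t, ht⟩, j)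

/-- a finite subgroup consisting of scalars has order prime to the characteristic -/
theorem coprime_scalars {F V : Type} [Field F] [Finite F] [AddCommGroup V] [Module F V] (r : ℕ) [Fact r.Prime]
    [CharP F r] {Γ : Type*} [Group Γ] (φ : Γ →* (V ≃ₗ[F] V)) (hφ : Function.Injective φ) (Y : Subgroup Γ)
    (hY : ∀ z ∈ Y, ∃ a : F, ∀ v, φ z v = a • v) (z : Γ) (hz : z ∈ Y) (k : ℕ) (hk : z ^ r ^ k = 1) : z = 1 := by
  obtain ⟨a, ha⟩ := hY z hz
  have hp : ∀ (n : ℕ) v, φ (z ^ n) v = a ^ n • v := by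
    intro n
    induction n with
    | zero => intro v; rw [pow_zero, pow_zero, map_one, one_smul]; rfl
    | succ n ih =>
      intro v
      rw [pow_succ, map_mul, LinearEquiv.mul_apply, ha, map_smul, ih, smul_smul, pow_succ, mul_comm]
  by_cases hV : ∃ v : V, v ≠ 0
  · obtain ⟨v, hv⟩ := hV
    have h1 : a ^ r ^ k = 1 := by
      have h2 := hp (r ^ k) v
      rw [hk, map_one, LinearEquiv.coe_one, id] at h2
      have h3 : (a ^ r ^ k - 1) • v = 0 := by rw [sub_smul, one_smul, ← h2, sub_self]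
      rcases smul_eq_zero.1 h3 with h4 | h4
      · exact sub_eq_zero.1 h4
      · exact absurd h4 hv
    have h5 : a = 1 := by
      have h6 : (a - 1) ^ r ^ k = 0 := by rw [sub_pow_char_pow, one_pow, h1, sub_self]
      exact sub_eq_zero.1 (pow_eq_zero_iff (pow_ne_zero _ (Fact.out : r.Prime).ne_zero) |>.1 h6)
    refine hφ (LinearEquiv.ext fun v => ?_)
    rw [ha, h5, one_smul, map_one]
    rfl
  · refine hφ (LinearEquiv.ext fun v => ?_)
    have h : ∀ x : V, x = 0 := fun x => by
      by_contra hx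
      exact hV ⟨x, hx⟩
    rw [h (φ z v), h (φ 1 v)]

/-- `FormsCore` for central quotients -/
theorem large_abs (hC : FormsCore) (c K : ℕ) : ∃ n₀ : ℕ, ∀ (F V : Type) [Field F] [Finite F] [AddCommGroup V]
    [Module F V] [Module.Finite F V] (r : ℕ) [Fact r.Prime] [CharP F r] (D : FormData F V)
    (B : V →ₗ[F] V →ₗ[F] F) (_ : ∀ v, D.Q v = B v v) (Γ : Type) [Group Γ] (φ : Γ →* (V ≃ₗ[F] V)),
    n₀ ≤ finrank F V → Function.Injective φ → φ.range ≤ D.isom → ⁅D.isom, D.isom⁆ ≤ φ.range →
    (∀ z ∈ Subgroup.center Γ, ∃ a : F, ∀ v, φ z v = a • v) →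
    ∀ Z : Subgroup (Γ ⧸ Subgroup.center Γ), Nat.card Z ≤ K → (Nat.card Z).Coprime r →
      ∃ E : Subgroup (Γ ⧸ Subgroup.center Γ), E ≤ Subgroup.centralizer (Z : Set _) ∧ IsPGroup r E ∧ c < Nat.card E := by
  classical
  obtain ⟨n₀, hn₀⟩ := hC c K (2 * (K * K + K) + 1)
  refine ⟨n₀, ?_⟩
  intro F V _ _ _ _ _ r _ _ D B hB Γ _ φ hn hφ hle hge hcen Z hZK hZr
  have hfinV : Finite V := Module.finite_of_finite F
  have hfinE : Finite (V ≃ₗ[F] V) := Finite.of_injective (fun e => (e : V → V)) DFunLike.coe_injective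
  have hfinΓ : Finite Γ := Finite.of_injective φ hφ
  let π := QuotientGroup.mk' (Subgroup.center Γ)
  have hπs : Function.Surjective π := QuotientGroup.mk'_surjective _
  have hπk : ∀ x, π x = 1 ↔ x ∈ Subgroup.center Γ := fun x => QuotientGroup.eq_one_iff x
  let X : Subgroup (V ≃ₗ[F] V) := (Z.comap π).map φ
  -- the order of `X`
  have hcopr : ∀ Y : Subgroup Γ, (∀ z ∈ Y, ∃ a : F, ∀ v, φ z v = a • v) → ¬ r ∣ Nat.card Y := by
    intro Y hY hd
    obtain ⟨z, hz⟩ := exists_prime_orderOf_dvd_card' r hd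
    have h1 : (z : Γ) = 1 := coprime_scalars r φ hφ Y hY z z.2 1 (by
      rw [pow_one, ← Subgroup.coe_pow, ← hz, pow_orderOf_eq_one, Subgroup.coe_one])
    have h2 : z = 1 := Subtype.ext h1
    rw [h2, orderOf_one] at hz
    exact (Fact.out : r.Prime).one_lt.ne hz
  have hXr : (Nat.card X).Coprime r := by
    have h1 : Nat.card X = Nat.card (Z.comap π) := Nat.card_congr ((Z.comap π).equivMapOfInjective φ hφ).toEquiv.symm
    have h2 : Nat.card (Z.comap π) = Nat.card Z * Nat.card (Subgroup.center Γ) := by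
      have h3 : Subgroup.center Γ ≤ Z.comap π := by
        intro z hz
        rw [Subgroup.mem_comap, (hπk z).2 hz]
        exact Z.one_mem
      have h4 := Subgroup.card_mul_index ((Subgroup.center Γ).subgroupOf (Z.comap π))
      have h5 : Nat.card ((Subgroup.center Γ).subgroupOf (Z.comap π)) = Nat.card (Subgroup.center Γ) :=
        Nat.card_congr (Subgroup.subgroupOfEquivOfLe h3).toEquiv
      have h6 : ((Subgroup.center Γ).subgroupOf (Z.comap π)).index = Nat.card Z := by
        have h7 : (Z.comap π).map π = Z := Subgroup.map_comap_eq_self_of_surjective hπs Z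
        have h8 := Subgroup.relIndex_ker π (K := Z.comap π)
        rw [h7, QuotientGroup.ker_mk'] at h8
        exact h8
      rw [← h4, h5, h6, mul_comm]
    rw [h1, h2]
    exact Nat.Coprime.mul_left hZr (((Nat.Prime.coprime_iff_not_dvd (Fact.out : r.Prime)).2 (hcopr _ hcen)).symm)
  -- the representatives
  have hsec : ∀ z : Z, ∃ x : Γ, π x = z := fun z => hπs z
  choose sec hsecp using hsec
  have hZfin : Fintype Z := Fintype.ofFinite Z
  let T : Finset (V ≃ₗ[F] V) := Finset.univ.image fun z : Z => φ (sec z)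
  have hTX : (T : Set (V ≃ₗ[F] V)) ⊆ X := by
    intro t ht
    obtain ⟨z, -, rfl⟩ := Finset.mem_image.1 (Finset.mem_coe.1 ht)
    refine Subgroup.mem_map_of_mem φ ?_
    rw [Subgroup.mem_comap, hsecp]
    exact z.2
  have hTK : T.card ≤ K := by
    refine (Finset.card_image_le).trans ?_
    rw [Finset.card_univ, ← Nat.card_eq_fintype_card]
    exact hZK
  have hT : ∀ x ∈ X, ∃ t ∈ T, ∃ a : F, ∀ v, x v = a • t v := by
    rintro x ⟨y, hy, rfl⟩
    refine ⟨φ (sec ⟨π y, hy⟩), Finset.mem_image_of_mem _ (Finset.mem_univ _), ?_⟩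
    have h1 : y * (sec ⟨π y, hy⟩)⁻¹ ∈ Subgroup.center Γ := by
      rw [← hπk, map_mul, map_inv, hsecp, mul_inv_cancel]
    obtain ⟨a, ha⟩ := hcen _ h1
    refine ⟨a, fun v => ?_⟩
    rw [← ha, ← LinearEquiv.mul_apply, ← map_mul, inv_mul_cancel_right]
  have hXle : X ≤ D.isom := by
    rintro x ⟨y, -, rfl⟩
    exact hle ⟨y, rfl⟩
  obtain ⟨E, hE1, hE2, hE3, hE4⟩ := hn₀ F V r D X hn hXle hXr ⟨T, hTX, hTK, hT⟩ (by
    intro W hWX hWd
    obtain ⟨v, hvW, hv0, hv1, hv2⟩ := cw r D B hB K T hTK W hWd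
    refine ⟨v, hvW, hv0, fun x hx y hy => ?_⟩
    obtain ⟨s, hs, a, ha⟩ := hT x hx
    obtain ⟨t, ht, b, hb⟩ := hT y hy
    refine ⟨?_, ?_⟩
    · rw [ha, hb, D.smul_left, D.smul_right, hv1 s hs t ht, mul_zero, mul_zero]
    · rw [ha]
      exact D.Q_smul a _ (hv2 s hs))
  let E0 : Subgroup Γ := E.comap φ
  have hE0 : E0.map φ = E := by
    rw [Subgroup.map_comap_eq]
    exact inf_eq_right.2 (hE1.trans hge)
  have hE0p : IsPGroup r E0 := hE3.comap_of_injective φ hφ
  refine ⟨E0.map π, ?_, hE0p.map π, ?_⟩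
  · rintro e ⟨e0, he0, rfl⟩
    rw [Subgroup.mem_centralizer_iff]
    intro z hz
    obtain ⟨z0, rfl⟩ := hπs z
    have h1 : φ z0 ∈ X := Subgroup.mem_map_of_mem φ hz
    have h2 : φ z0 * φ e0 = φ e0 * φ z0 := Subgroup.mem_centralizer_iff.1 (hE2 he0) _ h1
    rw [← map_mul, ← map_mul] at h2
    have h3 : z0 * e0 = e0 * z0 := hφ h2
    rw [← map_mul, h3, map_mul]
  · have h1 : Function.Injective (π.comp E0.subtype) := by
      rw [← MonoidHom.ker_eq_bot_iff, eq_bot_iff]
      intro e he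
      have h2 : (e : Γ) ∈ Subgroup.center Γ := (hπk _).1 he
      obtain ⟨k, hk⟩ := hE0p e
      have h3 : (e : Γ) = 1 := coprime_scalars r φ hφ _ hcen e h2 k (by
        rw [← Subgroup.coe_pow, hk, Subgroup.coe_one])
      exact Subgroup.mem_bot.2 (Subtype.ext h3)
    have h4 : Nat.card (E0.map π) = Nat.card E0 := by
      have h5 : E0.map π = (π.comp E0.subtype).range := by
        rw [MonoidHom.range_comp, Subgroup.range_subtype]
      rw [h5]
      exact Nat.card_congr (MonoidHom.ofInjective h1).toEquiv.symm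
    have h6 : Nat.card E = Nat.card E0 := by
      rw [← hE0]
      exact Nat.card_congr (E0.equivMapOfInjective φ hφ).toEquiv.symm
    rw [h4, ← h6]
    exact hE4

end Cfsg.Agent.H957.Sims
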