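import Mathlib
import Cfsg.Agent.H957.SimsBase
import Cfsg.Agent.H708.RFOmega3

/-!
# S3386, the orthogonal groups of large rank in cross characteristic (helper957, task 450)
-/

set_option autoImplicit false

namespace Cfsg.Agent.H957.Sims

open Module Cfsg.Agent.H851.Sims Matrix Cfsg

/-- matrices as linear equivalences -/
def gle (ι : Type) [Fintype ι] [DecidableEq ι] (F : Type) [Field F] :
    Matrix.GeneralLinearGroup ι F ≃* ((ι → F) ≃ₗ[F] (ι → F)) :=
  Matrix.GeneralLinearGroup.toLin.trans (LinearMap.GeneralLinearGroup.generalLinearEquiv F (ι → F))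

theorem gle_apply {ι : Type} [Fintype ι] [DecidableEq ι] {F : Type} [Field F] (g : Matrix.GeneralLinearGroup ι F)
    (v : ι → F) : gle ι F g v = (g : Matrix ι ι F) *ᵥ v := rfl

/-- the form data of a non-degenerate quadratic form -/
def quadData {ι : Type} [Fintype ι] {F : Type} [Field F] (Q : QuadraticForm F (ι → F))
    (hQ : LieClassical.OrthCore.Nondeg Q) : FormData F (ι → F) where
  σ := RingHom.id F
  f := QuadraticMap.polar Q
  Q := Q
  θ := AddMonoidHom.id F
  add_left u v w := QuadraticMap.polar_add_left Q u v w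
  smul_left a u w := by rw [QuadraticMap.polar_smul_left, smul_eq_mul]
  add_right u v w := QuadraticMap.polar_add_right Q u v w
  smul_right a u w := by rw [QuadraticMap.polar_smul_right, smul_eq_mul, RingHom.id_apply]
  refl u v h := by rw [QuadraticMap.polar_comm, h]
  nondeg := hQ
  Q_add u v := by
    rw [QuadraticMap.polar, AddMonoidHom.id_apply]
    ring
  Q_smul a v h := by rw [QuadraticMap.map_smul, h, smul_zero]

theorem isom_quadData {ι : Type} [Fintype ι] [DecidableEq ι] {F : Type} [Field F] (Q : QuadraticForm F (ι → F))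
    (hQ : LieClassical.OrthCore.Nondeg Q) :
    (quadData Q hQ).isom = (isometryGroup F ⇑Q).map (gle ι F).toMonoidHom := by
  ext g
  constructor
  · intro hg
    refine ⟨(gle ι F).symm g, ?_, (gle ι F).apply_symm_apply g⟩
    intro u _
    change Q (gle ι F ((gle ι F).symm g) u) = Q u
    rw [(gle ι F).apply_symm_apply]
    exact hg.2 u
  · rintro ⟨h, hh, rfl⟩
    have h1 : ∀ v, Q (gle ι F h v) = Q v := fun v => hh v v
    refine ⟨fun u v => ?_, h1⟩
    change QuadraticMap.polar Q (gle ι F h u) (gle ι F h v) = QuadraticMap.polar Q u v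
    rw [QuadraticMap.polar, QuadraticMap.polar, ← map_add, h1, h1, h1]

theorem range_rOm {ι : Type} [Fintype ι] [DecidableEq ι] {F : Type} [Field F] (Q : (ι → F) → F) :
    (H708.RFam.rOm Q).range = ⁅isometryGroup F Q, isometryGroup F Q⁆ := by
  have h1 : (H708.RFam.rOm Q).range = (Omega F Q).map (isometryGroup F Q).subtype := by
    rw [H708.RFam.rOm, MonoidHom.range_comp, Subgroup.range_subtype]
  rw [h1, Omega, commutator_def, Subgroup.map_commutator, ← MonoidHom.range_eq_map, Subgroup.range_subtype]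

/-- the general orthogonal case -/
theorem large_quad (hC : FormsCore) (c K : ℕ) : ∃ n₀ : ℕ, ∀ (ι : Type) [Fintype ι] [DecidableEq ι], n₀ ≤ Fintype.card ι →
    ∀ (F : Type) [Field F] [Finite F] (r : ℕ) [Fact r.Prime] [CharP F r] (Q : QuadraticForm F (ι → F)),
    LieClassical.OrthCore.Nondeg Q →
    (∀ z ∈ Subgroup.center (Omega F ⇑Q), ∃ l : F, ((H708.RFam.rOm ⇑Q z : GL ι F) : Matrix ι ι F) = l • 1) →
    ∀ (Z : Subgroup (POmega F ⇑Q)), Nat.card Z ≤ K → (Nat.card Z).Coprime r →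
    ∃ E : Subgroup (POmega F ⇑Q), E ≤ Subgroup.centralizer (Z : Set _) ∧ IsPGroup r E ∧ c < Nat.card E := by
  obtain ⟨n₀, hn₀⟩ := large_abs hC c K
  refine ⟨n₀, ?_⟩
  intro ι _ _ hn F _ _ r _ _ Q hQ hcen Z hZ hZr
  obtain ⟨B, hB⟩ := LinearMap.BilinMap.toQuadraticMap_surjective (R := F) (M := ι → F) (N := F) Q
  refine hn₀ F (ι → F) r (quadData Q hQ) B (fun v => ?_) (Omega F ⇑Q)
    ((gle ι F).toMonoidHom.comp (H708.RFam.rOm ⇑Q)) ?_ ?_ ?_ ?_ ?_ Z hZ hZr
  · change Q v = B v v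
    rw [← hB]
    rfl
  · rw [Module.finrank_fintype_fun_eq_card]
    exact hn
  · exact (gle ι F).injective.comp (H708.RFam.rOm_injective ⇑Q)
  · rw [MonoidHom.range_comp, range_rOm, isom_quadData]
    exact Subgroup.map_mono (Subgroup.commutator_le_self _)
  · rw [MonoidHom.range_comp, range_rOm, isom_quadData, Subgroup.map_commutator]
  · intro z hz
    obtain ⟨l, hl⟩ := hcen z hz
    refine ⟨l, fun v => ?_⟩
    change ((H708.RFam.rOm ⇑Q z : GL ι F) : Matrix ι ι F) *ᵥ v = l • v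
    rw [hl, Matrix.smul_mulVec, Matrix.one_mulVec]

theorem large_pomega_odd (hC : Cfsg.Agent.H851.Sims.FormsCore) (c K : ℕ) : ∃ n₀ : ℕ, ∀ m : ℕ, n₀ ≤ m →
    ∀ (F : Type) [Field F] [Finite F] (r : ℕ) [Fact r.Prime] [CharP F r],
    r ≠ 2 → ∀ (Z : Subgroup (Cfsg.POmega F (Cfsg.quadFormOdd m F))), Nat.card Z ≤ K → (Nat.card Z).Coprime r →
    ∃ E : Subgroup (Cfsg.POmega F (Cfsg.quadFormOdd m F)), E ≤ Subgroup.centralizer (Z : Set _) ∧ IsPGroup r E ∧
      c < Nat.card E := by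
  obtain ⟨n₀, hn₀⟩ := large_quad hC c K
  refine ⟨n₀ + 2, ?_⟩
  intro m hm F _ _ r _ _ hr
  have h2 : (2 : F) ≠ 0 := by
    intro h
    have h1 : ((2 : ℕ) : F) = 0 := by exact_mod_cast h
    have h3 := (CharP.cast_eq_zero_iff F r 2).1 h1
    exact hr ((Nat.prime_dvd_prime_iff_eq Fact.out Nat.prime_two).1 h3)
  have h := hn₀ (Unit ⊕ (Fin m ⊕ Fin m)) (by simp; omega) F r (LieClassical.OrthForms.oddForm m F)
    (LieClassical.OrthForms.nondeg_oddForm m F h2)
  rw [LieClassical.OrthForms.coe_oddForm] at h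
  exact h fun z hz => H708.RFam.center_odd F h2 m (by omega) z hz

theorem large_pomega_plus (hC : Cfsg.Agent.H851.Sims.FormsCore) (c K : ℕ) : ∃ n₀ : ℕ, ∀ m : ℕ, n₀ ≤ m →
    ∀ (F : Type) [Field F] [Finite F] (r : ℕ) [Fact r.Prime] [CharP F r]
    (Z : Subgroup (Cfsg.POmega F (Cfsg.quadFormPlus m F))), Nat.card Z ≤ K → (Nat.card Z).Coprime r →
    ∃ E : Subgroup (Cfsg.POmega F (Cfsg.quadFormPlus m F)), E ≤ Subgroup.centralizer (Z : Set _) ∧ IsPGroup r E ∧
      c < Nat.card E := by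
  obtain ⟨n₀, hn₀⟩ := large_quad hC c K
  refine ⟨n₀ + 2, ?_⟩
  intro m hm F _ _ r _ _
  have h := hn₀ (Fin m ⊕ Fin m) (by simp; omega) F r (LieClassical.OrthForms.plusForm m F)
    (LieClassical.OrthForms.nondeg_plusForm m F)
  rw [LieClassical.OrthForms.coe_plusForm] at h
  exact h fun z hz => H708.RFam.center_plus F m (by omega) z hz

theorem large_pomega_minus (hC : Cfsg.Agent.H851.Sims.FormsCore) (c K : ℕ) : ∃ n₀ : ℕ, ∀ m : ℕ, n₀ ≤ m →
    ∀ (F : Type) [Field F] [Finite F] (r : ℕ) [Fact r.Prime] [CharP F r]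
    (a b : F), (∀ z₁ z₂ : F, z₁ ^ 2 + a * z₁ * z₂ + b * z₂ ^ 2 = 0 → z₁ = 0 ∧ z₂ = 0) → ∀
    (Z : Subgroup (Cfsg.POmega F (Cfsg.quadFormMinus m F a b))), Nat.card Z ≤ K → (Nat.card Z).Coprime r →
    ∃ E : Subgroup (Cfsg.POmega F (Cfsg.quadFormMinus m F a b)), E ≤ Subgroup.centralizer (Z : Set _) ∧ IsPGroup r E ∧
      c < Nat.card E := by
  obtain ⟨n₀, hn₀⟩ := large_quad hC c K
  refine ⟨n₀ + 2, ?_⟩
  intro m hm F _ _ r _ _ a b hab
  have h := hn₀ ((Fin m ⊕ Fin m) ⊕ Fin 2) (by simp; omega) F r (LieClassical.OrthForms.minusForm m F a b)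
    (LieClassical.OrthForms.nondeg_minusForm m F a b hab)
  rw [LieClassical.OrthForms.coe_minusForm] at h
  exact h fun z hz => H708.RFam.center_minus F m (by omega) a b hab z hz

end Cfsg.Agent.H957.Sims
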