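import Cfsg.Agent.H957.InvU9

/-!
# S3830, row PSU: irreducible blocks (helper957)
-/

set_option autoImplicit false
set_option linter.unusedSectionVars false

namespace Cfsg.Agent.H957.InvU

open Cfsg Subgroup Cfsg.Agent.H459.Inv
open Cfsg.Agent.H903.SylSemi (Ind scal scal_apply)
open Cfsg.Agent.LieClassical.HermBasic Cfsg.Agent.LieClassical.HermSiegel
open Cfsg.Agent.ClassicalGeometry.PSUAutCount Cfsg.Agent.ClassicalGeometry.UnitAutBasic
open Cfsg.Agent.H177.MeetPSU (rho rho_apply rho_injective yy yy_apply ind_yy uniq)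
open Cfsg.Agent.H957.T5U Cfsg.Agent.H957.T5V Cfsg.Agent.H957.T5Tr
open Cfsg.Agent.H957.T5Pairs (exists_end pow_end)
open Polynomial

universe u

variable {F : Type} [Field F] [Fintype F] {n k q p : ℕ}

/-- A non-degenerate irreducible block. -/
theorem nt_block (hF : Fintype.card F = q ^ 2) (hpF : (p : F) ≠ 0) {c : Equiv.Perm (Fin n → F)}
    (hc : SI q (1 : F ≃+* F) c) {P : F[X]} (h : NT q p c P) :
    ∃ Y : Submodule F (Fin n → F), (∀ y ∈ Y, c y ∈ Y) ∧
      (∀ y ∈ Y, y ≠ 0 → ∃ z ∈ Y, hermForm n F q y z ≠ 0) ∧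
      Module.finrank F Y = P.natDegree ∧
      (∀ U ≤ Y, (∀ w ∈ U, c w ∈ U) → U = ⊥ ∨ U = Y) := by
  obtain ⟨⟨f, j, l, u, hfc, hj, hN, hl, hlp, hPd, hu, hPu⟩, hirr⟩ := h
  have hfm : ∀ (m : ℕ) (v : Fin n → F), (f ^ m) v = (c ^ m) v := by
    intro m
    induction m with
    | zero => intro v; rfl
    | succ m ih =>
      intro v
      rw [pow_succ, pow_succ]
      change (f ^ m) (f v) = (c ^ m) (c v)
      rw [ih, hfc]
  have hf : ∀ u v, hermForm n F q (f u) (f v) = hermForm n F q u v := by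
    intro u v
    rw [hfc, hfc]
    exact hc.herm u v
  have hfN : f ^ (q ^ j + 1) = 1 := by
    refine LinearMap.ext fun v => ?_
    rw [hfm, hN]
    rfl
  have hfp : f ^ p = algebraMap F _ l := by
    refine LinearMap.ext fun v => ?_
    rw [hfm, hlp, Module.algebraMap_end_apply]
  obtain ⟨w, hPw, hww⟩ := exists_aniso hF hj hf hfN hpF hl hfp hPd hu hPu
  have hw0 : w ≠ 0 := by
    rintro rfl
    exact hww (herm_zero_left _)
  have hfY : ∀ U : Submodule F (Fin n → F), (∀ w ∈ U, c w ∈ U) → ∀ w ∈ U, f w ∈ U :=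
    fun U hU w hw => by rw [hfc]; exact hU w hw
  refine ⟨blk f w, fun y hy => by rw [← hfc]; exact blk_inv hy, ?_, finrank_blk hirr hPw hw0,
    fun U hUY hU => blk_irr hirr hPw (hfY U hU) hUY⟩
  -- the radical
  let R : Submodule F (Fin n → F) := blk f w ⊓ Cfsg.Agent.H77.Geom.perp q (blk f w)
  have hR : ∀ y ∈ R, f y ∈ R := by
    rintro y ⟨hy, hy'⟩
    refine ⟨blk_inv hy, fun z hz => ?_⟩
    -- `z = f z'`
    have hsurj : ∃ z' ∈ blk f w, f z' = z := by
      have hfi : Function.Injective f := fun a b hab => c.injective (by rw [← hfc, ← hfc, hab])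
      have h1 : (blk f w).map f = blk f w := by
        apply Submodule.eq_of_le_of_finrank_eq
        · rintro _ ⟨a, ha, rfl⟩
          exact blk_inv ha
        · exact (LinearEquiv.finrank_eq (Submodule.equivMapOfInjective f hfi (blk f w))).symm
      have h2 : z ∈ (blk f w).map f := by rw [h1]; exact hz
      obtain ⟨z', hz', h3⟩ := h2
      exact ⟨z', hz', h3⟩
    obtain ⟨z', hz', rfl⟩ := hsurj
    rw [hf]
    exact hy' z' hz'
  have hR0 : R = ⊥ := by
    refine (blk_irr hirr hPw hR inf_le_left).resolve_right fun h => ?_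
    have h1 : w ∈ R := by rw [h]; exact self_mem_blk
    exact hww (h1.2 w self_mem_blk)
  intro y hy hy0
  by_contra hcon
  push Not at hcon
  apply hy0
  have h1 : y ∈ R := ⟨hy, hcon⟩
  rwa [hR0, Submodule.mem_bot] at h1

/-- **Case `N`: `p` divides `q ^ j + 1`, `j` odd, but not `q ^ 2 - 1`; `c ^ p = 1`.** -/
theorem ns_nt_one (hF : Fintype.card F = q ^ 2) (hn : 4 ≤ n) (hq2 : q ≠ 2) (h2 : (2 : F) ≠ 0)
    (hp : p.Prime) (hp5 : 5 ≤ p) (hpq : ¬ p ∣ q ^ 2 - 1) (hpF : (p : F) ≠ 0) {j : ℕ} (hj : Odd j)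
    (hpj : p ∣ q ^ j + 1) (hI : IH.{u} p (Nat.card (PSU n F q))) {c : Equiv.Perm (Fin n → F)}
    (hc : SI q (1 : F ≃+* F) c) {β : MulAut (PSU n F q)}
    (hβ : Ind (pr n F q) (rho n F q) c β) (hcp : c ^ p = 1) (hns : ¬ IsScal F c) : NS β := by
  have hpf : Fact p.Prime := ⟨hp⟩
  obtain ⟨P, hP, hdeg⟩ := nt_one hF hp hpF hj hpj hc hcp hns
  obtain ⟨Y, hcY, hY, hfr, hirr⟩ := nt_block hF hpF hc hP
  have hodd : Odd (orderOf ((q : ZMod p) ^ 2)) := by
    have h1 : (q : ZMod p) ^ j = -1 := by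
      have h2 := (ZMod.natCast_eq_zero_iff (q ^ j + 1) p).2 hpj
      push_cast at h2
      exact eq_neg_of_add_eq_zero_left h2
    have h2 : ((q : ZMod p) ^ 2) ^ j = 1 := by
      rw [← pow_mul, mul_comm, pow_mul, h1]
      ring
    exact hj.of_dvd_nat (orderOf_dvd_of_pow_eq_one h2)
  have h3 : 3 ≤ orderOf ((q : ZMod p) ^ 2) := by
    rcases deg_data hp hp5 hpq hj hpj (q_pos hF) rfl with h | h <;> omega
  have hfix : ∃ y ∈ Y, c y ≠ y := by
    by_contra hcon
    push Not at hcon
    have h4 : 0 < Module.finrank F Y := by omega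
    have hnt : Nontrivial Y := Module.nontrivial_of_finrank_pos (R := F) h4
    obtain ⟨y, hy⟩ := exists_ne (0 : Y)
    have h5 : Module.finrank F (Submodule.span F {(y : Fin n → F)}) = 1 :=
      finrank_span_singleton fun h => hy (Subtype.ext h)
    have h6 := hirr (Submodule.span F {(y : Fin n → F)})
      (by rw [Submodule.span_singleton_le_iff_mem]; exact y.2) (by
        intro w hw
        obtain ⟨a, rfl⟩ := Submodule.mem_span_singleton.1 hw
        rw [hc.semi.smul, hcon y y.2]
        exact Submodule.smul_mem _ _ (Submodule.mem_span_singleton_self _))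
    rcases h6 with h6 | h6
    · rw [h6, finrank_bot] at h5
      omega
    · rw [h6] at h5
      omega
  have hcs : IsScal F (c ^ p) := by rw [hcp]; exact ⟨1, fun v => (one_smul F v).symm⟩
  by_cases hlt : Module.finrank F Y < n
  · refine ns_of_od hF (by omega) hq2 hp hI hc hβ hcs hcY hY (by rw [hfr, hdeg]; exact hodd)
      (by omega) hlt ?_
    rintro ⟨a, ha⟩
    obtain ⟨y, hy, hcy⟩ := hfix
    -- an eigenvector spans an invariant line
    have hy0 : y ≠ 0 := by
      rintro rfl
      exact hcy hc.semi.zero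
    have h5 : Module.finrank F (Submodule.span F {y}) = 1 := finrank_span_singleton hy0
    have h6 := hirr (Submodule.span F {y}) (by rwa [Submodule.span_singleton_le_iff_mem]) (by
      intro w hw
      obtain ⟨x, rfl⟩ := Submodule.mem_span_singleton.1 hw
      rw [hc.semi.smul, ha y hy]
      exact Submodule.smul_mem _ _ (Submodule.smul_mem _ _ (Submodule.mem_span_singleton_self _)))
    rcases h6 with h6 | h6
    · rw [h6, finrank_bot] at h5
      omega
    · rw [h6] at h5
      omega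
  · have hle := Submodule.finrank_le Y
    rw [Module.finrank_fin_fun] at hle
    have hYt : Y = ⊤ := Submodule.eq_top_of_finrank_eq (by rw [Module.finrank_fin_fun]; omega)
    refine ns_of_irr hF hn h2 hp hpF hc hβ hcp (fun U hU => ?_) ?_ ?_
    · have := hirr U (by rw [hYt]; exact le_top) hU
      rwa [hYt] at this
    · intro h
      have hpo := hp.odd_of_ne_two (by omega : p ≠ 2)
      have hno : Odd n := by
        have : n = orderOf ((q : ZMod p) ^ 2) := by omega
        rw [this]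
        exact hodd
      rw [h] at hpo
      exact (Nat.not_even_iff_odd.2 hpo) hno.add_one
    · obtain ⟨y, -, hcy⟩ := hfix
      exact ⟨y, hcy⟩

/-- **Case `C`: the kernels are totally isotropic.** -/
theorem ns_c2 (hF : Fintype.card F = q ^ 2) (hn : 3 ≤ n) (h2 : (2 : F) ≠ 0)
    (hp : p.Prime) (hp5 : 5 ≤ p) (hpq : ¬ p ∣ q ^ 2 - 1) (hpF : (p : F) ≠ 0)
    (hno : ∀ j, Odd j → ¬ p ∣ q ^ j + 1) {c : Equiv.Perm (Fin n → F)}
    (hc : SI q (1 : F ≃+* F) c) {β : MulAut (PSU n F q)}
    (hβ : Ind (pr n F q) (rho n F q) c β) (hcp : c ^ p = 1) (hns : ¬ IsScal F c) : NS β := by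
  have hpf : Fact p.Prime := ⟨hp⟩
  obtain ⟨f, hf, hfc⟩ := exists_end hc.semi
  have hfp : (f : Module.End F (Fin n → F)) ^ p = 1 := by
    refine LinearMap.ext fun v => ?_
    rw [pow_end hf, hcp]
    rfl
  have hfh : ∀ u v, hermForm n F q ((f : Module.End F (Fin n → F)) u)
      ((f : Module.End F (Fin n → F)) v) = hermForm n F q u v := by
    intro u v
    change hermForm n F q (f u) (f v) = _
    rw [hf, hf]
    exact hc.herm u v
  obtain ⟨P, hP, hPd, w, hw, hPw⟩ := exists_cyc_factor hp hfp (by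
    intro h
    apply hns
    refine ⟨1, fun v => ?_⟩
    rw [one_smul, ← hf]
    exact LinearMap.congr_fun h v)
  have hdeg := natDegree_cyc hF hp hpF hP hPd
  have hm2 := two_le_ord hp (not_dvd_q hF hp hpF) hpq
  have hfr := finrank_blk hP hPw hw
  have hfY : ∀ U : Submodule F (Fin n → F), (∀ w ∈ U, c w ∈ U) →
      ∀ w ∈ U, (f : Module.End F (Fin n → F)) w ∈ U := fun U hU w hw => by
    change f w ∈ U
    rw [hf]; exact hU w hw
  have hcY : ∀ y ∈ blk (f : Module.End F (Fin n → F)) w, c y ∈ blk (f : Module.End F (Fin n → F)) w := by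
    intro y hy
    rw [← hf]
    exact blk_inv hy
  have h0 : ∀ x ∈ blk (f : Module.End F (Fin n → F)) w, ∀ y ∈ blk (f : Module.End F (Fin n → F)) w,
      hermForm n F q x y = 0 := fun x hx y hy =>
    ker_ti hF hp hpF hno hfh hfp hP hPd (aeval_blk hPw hx) (aeval_blk hPw hy)
  have hline : ∀ (y : Fin n → F), y ∈ blk (f : Module.End F (Fin n → F)) w → y ≠ 0 → ∀ a : F,
      c y ≠ a • y := by
    intro y hy hy0 a ha
    have h5 : Module.finrank F (Submodule.span F {y}) = 1 := finrank_span_singleton hy0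
    have h6 := blk_irr hP hPw (U := Submodule.span F {y}) (hfY _ (by
      intro w hw
      obtain ⟨x, rfl⟩ := Submodule.mem_span_singleton.1 hw
      rw [hc.semi.smul, ha]
      exact Submodule.smul_mem _ _ (Submodule.smul_mem _ _ (Submodule.mem_span_singleton_self _))))
      (by rwa [Submodule.span_singleton_le_iff_mem])
    rcases h6 with h6 | h6
    · rw [h6, finrank_bot] at h5
      omega
    · rw [h6] at h5
      omega
  by_cases hm : orderOf ((q : ZMod p) ^ 2) = 2
  · refine ns_of_plane hF hn h2 hp hp5 hc hβ (by rw [hcp]; exact ⟨1, fun v => (one_smul F v).symm⟩)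
      (W := blk (f : Module.End F (Fin n → F)) w) (by rw [hfr, hdeg, hm]) h0 hcY ?_
    rintro ⟨a, ha⟩
    exact hline w self_mem_blk hw a (ha w self_mem_blk)
  · refine ns_of_ti hF hn h2 hp hpF hc hβ hcp (W := blk (f : Module.End F (Fin n → F)) w)
      (by omega) h0 hcY (fun U hU hcU => blk_irr hP hPw (hfY U hcU) hU) ?_
      ⟨w, self_mem_blk, fun h => hline w self_mem_blk hw 1 (by rw [one_smul, h])⟩
    rw [hfr, hdeg]
    intro h
    -- the order of a square divides `(p - 1) / 2`
    have hq0 : (q : ZMod p) ≠ 0 := by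
      intro h0
      exact not_dvd_q hF hp hpF ((ZMod.natCast_eq_zero_iff q p).1 h0)
    obtain ⟨a, ha⟩ := hp.odd_of_ne_two (by omega : p ≠ 2)
    have h3 : ((q : ZMod p) ^ 2) ^ a = 1 := by
      rw [← pow_mul, show 2 * a = p - 1 by omega]
      exact ZMod.pow_card_sub_one_eq_one hq0
    have h4 := Nat.le_of_dvd (by omega) (orderOf_dvd_of_pow_eq_one h3)
    omega

end Cfsg.Agent.H957.InvU
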