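import Cfsg.Agent.H957.InvU10

/-!
# S3830, row PSU: isometries whose `p`-th power is not a `p`-th power (helper957)
-/

set_option autoImplicit false
set_option linter.unusedSectionVars false

namespace Cfsg.Agent.H957.InvU

open Cfsg Subgroup Cfsg.Agent.H459.Inv
open Cfsg.Agent.H903.SylSemi (Ind scal scal_apply)
open Cfsg.Agent.LieClassical.HermBasic Cfsg.Agent.LieClassical.HermSiegel
open Cfsg.Agent.ClassicalGeometry.PSUAutCount Cfsg.Agent.ClassicalGeometry.UnitAutBasic
open Cfsg.Agent.H177.MeetPSU (rho rho_apply rho_injective yy yy_apply ind_yy uniq)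
open Cfsg.Agent.H957.T5U Cfsg.Agent.H957.T5V Cfsg.Agent.H957.T5Tr
open Cfsg.Agent.H957.T5Pairs (exists_end pow_end)
open Polynomial
open scoped Matrix

universe u

theorem li_pair {F : Type*} [Field F] {V : Type*} [AddCommGroup V] [Module F V]
    {κ : Type*} {e : κ → V} (he : LinearIndependent F e) {i j : κ} (hij : i ≠ j) (x y : F)
    (h : x • e i + y • e j = 0) : x = 0 ∧ y = 0 := by
  have h1 : LinearIndependent F (e ∘ ![i, j]) := by
    apply he.comp
    intro a b hab
    fin_cases a <;> fin_cases b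
    · rfl
    · exact absurd hab hij
    · exact absurd hab.symm hij
    · rfl
  have h2 : e ∘ ![i, j] = ![e i, e j] := by
    funext a
    fin_cases a <;> rfl
  rw [h2] at h1
  exact LinearIndependent.pair_iff.1 h1 x y h

/-- Monomial maps. -/
theorem not_solvable_of_mono {F : Type*} [Field F] {V : Type*} [AddCommGroup V] [Module F V]
    {κ : Type*} {e : κ → V} (he : LinearIndependent F e) {A Y : V ≃ₗ[F] V}
    {π σ : Equiv.Perm κ} (hA : ∀ i, ∃ a : F, a ≠ 0 ∧ A (e i) = a • e (π i))
    (hY : ∀ i, ∃ a : F, a ≠ 0 ∧ Y (e i) = a • e (σ i))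
    (h : ¬ Group.IsSolvable ↥(closure ({π, σ} : Set (Equiv.Perm κ)))) :
    ¬ Group.IsSolvable ↥(closure ({A, Y} : Set (V ≃ₗ[F] V))) := by
  intro hs
  apply h
  let R : Subgroup ((V ≃ₗ[F] V) × Equiv.Perm κ) :=
    { carrier := {z | ∀ i, ∃ a : F, a ≠ 0 ∧ z.1 (e i) = a • e (z.2 i)}
      mul_mem' := by
        rintro x y hx hy i
        obtain ⟨a, ha0, ha⟩ := hy i
        obtain ⟨b, hb0, hb⟩ := hx (y.2 i)
        refine ⟨a * b, mul_ne_zero ha0 hb0, ?_⟩
        change x.1 (y.1 (e i)) = _
        rw [ha, map_smul, hb, smul_smul]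
        rfl
      one_mem' := fun i => ⟨1, one_ne_zero, by rw [one_smul]; rfl⟩
      inv_mem' := by
        rintro x hx i
        obtain ⟨a, ha0, ha⟩ := hx (x.2⁻¹ i)
        refine ⟨a⁻¹, inv_ne_zero ha0, ?_⟩
        apply x.1.injective
        rw [map_smul]
        change x.1 (e (x.2⁻¹ i)) = a • e (x.2 (x.2⁻¹ i)) at ha
        change x.1 (x.1⁻¹ (e i)) = a⁻¹ • x.1 (e (x.2⁻¹ i))
        rw [ha, smul_smul, inv_mul_cancel₀ ha0, one_smul]
        have h1 : x.2 (x.2⁻¹ i) = i := x.2.apply_symm_apply i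
        rw [h1]
        exact x.1.apply_symm_apply (e i) }
  let H : Subgroup ((V ≃ₗ[F] V) × Equiv.Perm κ) := closure {(A, π), (Y, σ)}
  have hHR : H ≤ R := by
    rw [closure_le]
    rintro z (rfl | rfl)
    · exact hA
    · exact hY
  have h1 : H.map (MonoidHom.fst _ _) = closure {A, Y} := by
    rw [MonoidHom.map_closure, Set.image_pair]
    rfl
  have h2 : H.map (MonoidHom.snd _ _) = closure {π, σ} := by
    rw [MonoidHom.map_closure, Set.image_pair]
    rfl
  have hinj : Function.Injective ((MonoidHom.fst (V ≃ₗ[F] V) (Equiv.Perm κ)).subgroupMap H) := by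
    rintro ⟨⟨a, a0⟩, ha⟩ ⟨⟨b, b0⟩, hb⟩ hab
    have h3 : a = b := congrArg Subtype.val hab
    subst h3
    have h4 : a0 = b0 := by
      ext i
      obtain ⟨x, hx0, hx⟩ := hHR ha i
      obtain ⟨y, hy0, hy⟩ := hHR hb i
      change a (e i) = x • e (a0 i) at hx
      change a (e i) = y • e (b0 i) at hy
      by_contra hne
      have h5 : x • e (a0 i) - y • e (b0 i) = 0 := by rw [← hx, ← hy, sub_self]
      have h6 := li_pair he hne x (-y) (by rw [neg_smul, ← sub_eq_add_neg, h5])
      exact hx0 h6.1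
    subst h4
    rfl
  have h3 : Group.IsSolvable ↥(H.map (MonoidHom.fst (V ≃ₗ[F] V) (Equiv.Perm κ))) := by
    rw [h1]; exact hs
  have h4 : Group.IsSolvable H := Group.isSolvable_of_isSolvable_injective hinj
  rw [← h2]
  exact Group.isSolvable_of_surjective
    (f := (MonoidHom.snd (V ≃ₗ[F] V) (Equiv.Perm κ)).subgroupMap H)
    ((MonoidHom.snd (V ≃ₗ[F] V) (Equiv.Perm κ)).subgroupMap_surjective H)

theorem not_solvable_cycle_swap {m : ℕ} (hm : (m + 2).Prime) (h5 : 5 ≤ m + 2)
    {i j : Fin (m + 2)} (hij : i ≠ j) :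
    ¬ Group.IsSolvable ↥(closure ({finRotate (m + 2), Equiv.swap i j} : Set (Equiv.Perm (Fin (m + 2))))) := by
  rw [Equiv.Perm.closure_prime_cycle_swap (by rwa [Fintype.card_fin]) isCycle_finRotate
    support_finRotate ⟨i, j, hij, rfl⟩]
  intro h
  refine Equiv.Perm.not_isSolvable (Fin (m + 2)) (by
    rw [Cardinal.mk_fin]
    exact_mod_cast h5) ?_
  exact Group.isSolvable_of_isSolvable_injective
    (f := (Subgroup.topEquiv (G := Equiv.Perm (Fin (m + 2)))).symm.toMonoidHom)
    Subgroup.topEquiv.symm.injective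

variable {F : Type} [Field F] [Fintype F] {n k q p : ℕ}

/-- Minus the reflection in a vector `r` with `h (r, r) = 2`. -/
theorem exists_neg_refl (hF : Fintype.card F = q ^ 2) (hno : Odd n) {r : Fin n → F}
    (hr : hermForm n F q r r = 2) :
    ∃ s : SU n F q, ∀ v, act s v = - v + hermForm n F q v r • r := by
  let M0 : Matrix (Fin n) (Fin n) F :=
    1 + Matrix.replicateCol Unit r * Matrix.replicateRow Unit (fun i => - (r i) ^ q)
  let M : Matrix (Fin n) (Fin n) F := - M0
  have hM : ∀ v, M *ᵥ v = - v + hermForm n F q v r • r := by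
    intro v
    funext i
    simp only [M, M0, Matrix.neg_mulVec, Matrix.add_mulVec, Matrix.one_mulVec, Pi.neg_apply,
      Pi.add_apply, Pi.smul_apply, smul_eq_mul, neg_add]
    congr 1
    rw [← Matrix.mulVec_mulVec]
    simp only [Matrix.mulVec, dotProduct, Matrix.replicateCol_apply, Matrix.replicateRow_apply,
      Finset.univ_unique, Finset.sum_singleton, herm_def]
    rw [mul_comm, ← neg_mul, ← Finset.sum_neg_distrib]
    congr 1
    exact Finset.sum_congr rfl fun j _ => by ring
  have hdet : M.det = 1 := by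
    simp only [M, M0]
    rw [Matrix.det_neg, Matrix.det_one_add_replicateCol_mul_replicateRow, Fintype.card_fin,
      hno.neg_one_pow]
    have h1 : (fun i => - (r i) ^ q) ⬝ᵥ r = -2 := by
      rw [← hr, herm_def]
      simp only [dotProduct, ← Finset.sum_neg_distrib]
      exact Finset.sum_congr rfl fun j _ => by ring
    rw [h1]
    ring
  have hherm : ∀ u v, hermForm n F q (M *ᵥ u) (M *ᵥ v) = hermForm n F q u v := by
    intro u v
    rw [hM, hM]
    simp only [herm_add_left, herm_add_right hF, herm_neg_left, herm_neg_right hF, herm_smul_left,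
      herm_smul_right, hr]
    rw [← herm_swap hF v r]
    ring
  exact ⟨mkSU M hdet hherm, fun v => hM v⟩

/-- **The Kummer case.** -/
theorem ns_kum (hF : Fintype.card F = q ^ 2) (hpn : n = p)
    (hp : p.Prime) (hp5 : 5 ≤ p) (hpq : p ∣ q + 1) (hpF : (p : F) ≠ 0)
    {c : Equiv.Perm (Fin n → F)}
    (hc : SI q (1 : F ≃+* F) c) {β : MulAut (PSU n F q)}
    (hβ : Ind (pr n F q) (rho n F q) c β) {l : F} (hll : l * l ^ q = 1)
    (hl : ∀ v, (c ^ p) v = l • v) (hlp : ∀ t : F, t ^ p ≠ l) : NS β := by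
  have hfac : Fact (Nat.Prime 2) := ⟨Nat.prime_two⟩
  have hp2 : p ≠ 2 := by omega
  have hl0 : l ≠ 0 := by
    rintro rfl
    rw [zero_mul] at hll
    exact zero_ne_one hll
  obtain ⟨a, ha⟩ := hp.odd_of_ne_two hp2
  have hP := nt_two hF (by omega : 0 < n) hp hp2 hpq hc hll hl hlp
  obtain ⟨v, hv, -⟩ := hP.get hF hpF hc (m := a) (by rw [natDegree_X_pow_sub_C]; omega)
    (fun k => if k = 0 then 1 else 0) (by simp)
  have hcp : ∀ m : ℕ, ∀ x y, hermForm n F q ((c ^ m) x) ((c ^ m) y) = hermForm n F q x y := by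
    intro m x y
    rw [(hc.pow m).herm, one_pow]
    rfl
  have horth : ∀ k : ℕ, 0 < k → k < p → hermForm n F q ((c ^ k) v) v = 0 := by
    intro k h0 hk
    by_cases hka : k ≤ a
    · rw [hv k hka, if_neg (by omega)]
    · have h1 := hcp (p - k) ((c ^ k) v) v
      rw [← Equiv.Perm.mul_apply, ← pow_add, show p - k + k = p by omega, hl, herm_smul_left] at h1
      have h3 := hv (p - k) (by omega)
      rw [if_neg (by omega)] at h3
      rw [herm_eq_zero_swap hF h3, mul_zero] at h1
      exact h1.symm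
  have h11 : hermForm n F q v v = 1 := by
    have := hv 0 (by omega)
    simpa using this
  obtain ⟨m, rfl⟩ : ∃ m, n = m + 2 := ⟨n - 2, by omega⟩
  subst hpn
  let e : Fin (m + 2) → (Fin (m + 2) → F) := fun i => (c ^ (i : ℕ)) v
  have hlt : ∀ i j : Fin (m + 2), (i : ℕ) < j → hermForm (m + 2) F q (e j) (e i) = 0 := by
    intro i j hij
    change hermForm (m + 2) F q ((c ^ (j : ℕ)) v) ((c ^ (i : ℕ)) v) = 0
    have h1 : (j : ℕ) = i + (j - i) := by omega
    rw [h1, pow_add, Equiv.Perm.mul_apply, hcp]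
    exact horth _ (by omega) (by omega)
  have he : ∀ i j, hermForm (m + 2) F q (e i) (e j) = if i = j then 1 else 0 := by
    intro i j
    rcases lt_trichotomy (i : ℕ) j with h | h | h
    · rw [if_neg (by rintro rfl; omega)]
      exact herm_eq_zero_swap hF (hlt i j h)
    · have : i = j := Fin.ext h
      subst this
      rw [if_pos rfl]
      change hermForm (m + 2) F q ((c ^ (i : ℕ)) v) ((c ^ (i : ℕ)) v) = 1
      rw [hcp, h11]
    · rw [if_neg (by rintro rfl; omega)]
      exact hlt j i h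
  have hli := li_orth hF he
  have h01 : (0 : Fin (m + 2)) ≠ 1 := by simp
  -- the involution
  set r := e 0 - e 1 with hr
  have hrr : hermForm (m + 2) F q r r = 2 := by
    rw [hr]
    simp only [herm_sub_left, herm_sub_right hF, he]
    simp
    norm_num
  obtain ⟨s, hs⟩ := exists_neg_refl hF (hp.odd_of_ne_two hp2) hrr
  obtain ⟨Y, hY⟩ := exists_toA (si_rho s).semi
  have hYv : ∀ v, act s v = Y v := by
    intro v
    rw [← rho_apply, ← hY]
    rfl
  have hss : s * s = 1 := by
    apply ext_act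
    intro v
    rw [act_mul, hs, hs, act_one, herm_add_left, herm_neg_left, herm_smul_left, hrr]
    module
  have hYe : ∀ i, Y (e i) = (-1 : F) • e (Equiv.swap 0 1 i) := by
    intro i
    rw [← hYv, hs]
    have h3 : hermForm (m + 2) F q (e i) r = (if i = 0 then 1 else 0) - (if i = 1 then 1 else 0) := by
      rw [hr, herm_sub_right hF, he, he]
    rw [h3]
    by_cases hi0 : i = 0
    · subst hi0
      rw [if_pos rfl, if_neg h01, Equiv.swap_apply_left, hr]
      module
    · by_cases hi1 : i = 1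
      · subst hi1
        rw [if_pos rfl, if_neg h01.symm, Equiv.swap_apply_right, hr]
        module
      · rw [if_neg hi0, if_neg hi1, Equiv.swap_apply_of_ne_of_ne hi0 hi1]
        module
  obtain ⟨A, hA⟩ := exists_toA hc.semi
  have hAv : ∀ v, A v = c v := by
    intro v
    rw [← hA]
    rfl
  have hAe : ∀ i, ∃ x : F, x ≠ 0 ∧ A (e i) = x • e (finRotate (m + 2) i) := by
    intro i
    have h3 : A (e i) = (c ^ ((i : ℕ) + 1)) v := by
      rw [hAv, pow_succ', Equiv.Perm.mul_apply]
    by_cases hi : (i : ℕ) < m + 1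
    · refine ⟨1, one_ne_zero, ?_⟩
      have h4 : finRotate (m + 2) i = ⟨i + 1, by omega⟩ := finRotate_of_lt hi
      rw [h4, h3, one_smul]
    · refine ⟨l, hl0, ?_⟩
      have hi' : i = Fin.last (m + 1) := Fin.ext (by simp; omega)
      rw [h3, hi', finRotate_last]
      have h5 : (((Fin.last (m + 1) : Fin (m + 2)) : ℕ) + 1) = m + 2 := by simp
      rw [h5, hl]
      rfl
  refine ns_of_lin hβ (ι := id) Function.injective_id (A := A) (Y := Y)
      (fun v => (hAv v).symm) (s := s) hYv ?_ (not_solvable_of_mono hli hAe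
        (fun i => ⟨-1, neg_ne_zero.2 one_ne_zero, hYe i⟩) (not_solvable_cycle_swap hp hp5 h01))
  apply orderOf_eq_prime
  · rw [← map_pow, pow_two, hss, map_one]
  · intro h
    obtain ⟨x, hx⟩ := scal_of_pr hF (by omega) h
    have h3 := hx (e 0)
    rw [hYv, hYe, Equiv.swap_apply_left] at h3
    have h4 := li_pair hli h01 x 1 (by
      rw [← h3, one_smul]
      module)
    exact one_ne_zero h4.2

/-- **Elements of type 2.** -/
theorem ns_nt_two (hF : Fintype.card F = q ^ 2) (hn : 3 ≤ n) (hq2 : q ≠ 2)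
    (hp : p.Prime) (hp5 : 5 ≤ p) (hpq : p ∣ q + 1) (hpF : (p : F) ≠ 0)
    (hI : IH.{u} p (Nat.card (PSU n F q)))
    {c : Equiv.Perm (Fin n → F)}
    (hc : SI q (1 : F ≃+* F) c) {β : MulAut (PSU n F q)}
    (hβ : Ind (pr n F q) (rho n F q) c β) {l : F} (hll : l * l ^ q = 1)
    (hl : ∀ v, (c ^ p) v = l • v) (hlp : ∀ t : F, t ^ p ≠ l) : NS β := by
  have hp2 : p ≠ 2 := by omega
  have hP := nt_two hF (by omega : 0 < n) hp hp2 hpq hc hll hl hlp
  obtain ⟨Y, hcY, hY, hfr, hirr⟩ := nt_block hF hpF hc hP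
  rw [natDegree_X_pow_sub_C] at hfr
  have hle := Submodule.finrank_le Y
  rw [Module.finrank_fin_fun] at hle
  by_cases hlt : p < n
  · refine ns_of_od hF hn hq2 hp hI hc hβ ⟨l, hl⟩ hcY hY (by rw [hfr]; exact hp.odd_of_ne_two hp2)
      (by omega) (by omega) ?_
    rintro ⟨a, ha⟩
    have hnt : Nontrivial Y := Module.nontrivial_of_finrank_pos (R := F) (by omega)
    obtain ⟨y, hy⟩ := exists_ne (0 : Y)
    have hy0 : (y : Fin n → F) ≠ 0 := fun h => hy (Subtype.ext h)
    have h1 := eig_pow hc (ha y y.2) p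
    rw [hl] at h1
    apply hlp a
    have h3 : (a ^ p - l) • (y : Fin n → F) = 0 := by rw [sub_smul, ← h1, sub_self]
    exact sub_eq_zero.1 ((smul_eq_zero.1 h3).resolve_right hy0)
  · exact ns_kum hF (by omega) hp hp5 hpq hpF hc hβ hll hl hlp

end Cfsg.Agent.H957.InvU
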