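import Cfsg.Agent.H957.InvU2
import Cfsg.Agent.H957.T5U14

/-!
# S3830, row PSU: non-degenerate subspaces of odd dimension (helper957)
-/

set_option autoImplicit false
set_option linter.unusedSectionVars false

namespace Cfsg.Agent.H957.InvU

open Cfsg Subgroup Cfsg.Agent.H459.Inv
open Cfsg.Agent.H903.SylSemi (Ind scal scal_apply)
open Cfsg.Agent.LieClassical.HermBasic Cfsg.Agent.LieClassical.HermSiegel
open Cfsg.Agent.ClassicalGeometry.PSUAutCount Cfsg.Agent.ClassicalGeometry.UnitAutBasic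
open Cfsg.Agent.H177.MeetPSU (rho rho_apply rho_injective yy yy_apply ind_yy uniq)
open Cfsg.Agent.H957.T5U Cfsg.Agent.H957.T5V Cfsg.Agent.H957.T5Tr
open scoped Matrix commutatorElement

universe u

variable {F : Type} [Field F] [Fintype F] {n k q p : ℕ}

theorem exists_ind (hF : Fintype.card F = q ^ 2) {θ : F ≃+* F} {y : Equiv.Perm (Fin n → F)}
    (h : SI q θ y) : ∃ β : MulAut (PSU n F q), Ind (pr n F q) (rho n F q) y β := by
  let L : (Fin n → F) →ₗ[F] (Fin n → F) :=
    { toFun := fun v => y fun i => θ.symm (v i)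
      map_add' := fun u v => by
        rw [← h.semi.add]
        congr 1
        funext i
        exact map_add θ.symm _ _
      map_smul' := fun c v => by
        have h3 : (fun i => θ.symm ((c • v) i)) = θ.symm c • fun i => θ.symm (v i) := by
          funext i
          exact map_mul θ.symm _ _
        rw [h3, h.semi.smul, RingEquiv.apply_symm_apply]
        rfl }
  have hMv : ∀ v, LinearMap.toMatrix' L *ᵥ v = y fun i => θ.symm (v i) := fun v => by
    rw [LinearMap.toMatrix'_mulVec]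
    rfl
  obtain ⟨A0, hA0, hA⟩ := ClassicalGeometry.HermOrtho.exists_GU_of_isometry (M := LinearMap.toMatrix' L) hF
    (fun u v => by
      rw [hMv, hMv, h.herm, herm_map, RingEquiv.apply_symm_apply])
  refine ⟨toAut ⟨A0, hA0⟩ θ, ?_⟩
  have h1 : y = yy ⟨A0, hA0⟩ θ := by
    ext1 v
    have hgA : gm (⟨A0, hA0⟩ : GU n F q) = LinearMap.toMatrix' L := hA
    rw [yy_apply, hgA, hMv]
    simp only [RingEquiv.symm_apply_apply]
  rw [h1]
  exact ind_yy _ _

/-- Elements of `SU` mapping to `1` are scalar. -/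
theorem scal_of_pr (hF : Fintype.card F = q ^ 2) (hn : 3 ≤ n) {s : SU n F q}
    (h : pr n F q s = 1) : ∃ a : F, ∀ v, act s v = a • v := by
  have h1 : s ∈ Subgroup.center (SU n F q) := (QuotientGroup.eq_one_iff s).1 h
  obtain ⟨c, hcn, hcq, rfl⟩ := (Cfsg.Agent.LieClassical.SUBasic.mem_center_SU_iff hF hn s).1 h1
  refine ⟨c, fun v => ?_⟩
  rw [act_def, mat_def, Cfsg.Agent.LieClassical.SUBasic.coe_suScalar]
  funext i
  rw [Matrix.mulVec_diagonal]
  rfl

theorem comm_of_pr {a b : SU n F q} (ha : pr n F q a = 1) : a * b = b * a := by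
  have h1 : a ∈ Subgroup.center (SU n F q) := (QuotientGroup.eq_one_iff a).1 ha
  exact (mem_center_iff.1 h1 b).symm

/-- `SU` fixes no non-zero vector. -/
theorem exists_moving (hF : Fintype.card F = q ^ 2) (hn : 2 ≤ n) {w : Fin n → F} (hw : w ≠ 0) :
    ∃ s : SU n F q, act s w ≠ w := by
  classical
  obtain ⟨i, hi⟩ := Function.ne_iff.1 hw
  obtain ⟨c, hc, hc1⟩ := Cfsg.Agent.LieClassical.SUBasic.exists_norm_one hF
  have : Nontrivial (Fin n) := Fin.nontrivial_iff_two_le.2 hn
  obtain ⟨j, hj⟩ := exists_ne i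
  have hc0 : c ≠ 0 := by
    rintro rfl
    rw [zero_pow (by omega)] at hc
    exact zero_ne_one hc
  let d : Fin n → F := Function.update (Function.update 1 i c) j c⁻¹
  have hdi : d i = c := by
    simp only [d]
    rw [Function.update_of_ne hj.symm, Function.update_self]
  have hd1 : ∏ x, d x = 1 := by
    simp only [d]
    rw [Finset.prod_update_of_mem (Finset.mem_univ j), Finset.prod_update_of_mem (by simp [hj.symm])]
    simp [hc0]
  have hd2 : ∀ x, d x ^ (q + 1) = 1 := by
    intro x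
    simp only [d, Function.update_apply]
    split_ifs
    · rw [inv_pow, hc, inv_one]
    · exact hc
    · simp
  refine ⟨Cfsg.Agent.LieClassical.SUBasic.suDiag q d hd1 hd2, fun h => ?_⟩
  have h1 := congrFun h i
  rw [act_def, mat_def, Cfsg.Agent.LieClassical.SUBasic.coe_suDiag, Matrix.mulVec_diagonal, hdi] at h1
  have h2 : (c - 1) * w i = 0 := by rw [sub_mul, h1, one_mul, sub_self]
  rcases mul_eq_zero.1 h2 with h3 | h3
  · exact hc1 (sub_eq_zero.1 h3)
  · exact hi h3

section onb

variable (hF : Fintype.card F = q ^ 2) {b : Fin k → (Fin n → F)}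
  (hb : ∀ i j, hermForm n F q (b i) (b j) = if i = j then 1 else 0)

include hF hb in
theorem exists_crd_zero (hkn : k < n) : ∃ w : Fin n → F, w ≠ 0 ∧ crd q b w = 0 := by
  have h1 := Cfsg.Agent.H77.Geom.finrank_perp (q := q) hF (li_orth hF hb)
  have h2 : 0 < Module.finrank F (Cfsg.Agent.H77.Geom.perp (F := F) (n := n) q (Set.range b)) := by omega
  have h3 : Nontrivial (Cfsg.Agent.H77.Geom.perp (F := F) (n := n) q (Set.range b)) :=
    Module.nontrivial_of_finrank_pos h2
  obtain ⟨w, hw⟩ := exists_ne (0 : Cfsg.Agent.H77.Geom.perp (F := F) (n := n) q (Set.range b))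
  refine ⟨w, fun h => hw (Subtype.ext h), ?_⟩
  funext i
  exact w.2 _ ⟨i, rfl⟩

theorem act_ext_fix (g : SU k F q) {w : Fin n → F} (hw : crd q b w = 0) :
    act (ext hF hb g) w = w := by
  rw [act_ext, hw, act_zero, sub_zero]
  have : emb b (0 : Fin k → F) = 0 := by
    unfold emb
    simp
  rw [this, add_zero]

theorem range_ne_top (hn : 3 ≤ n) (h32 : ¬ (n = 3 ∧ q = 2)) (hkn : k < n) :
    ((pr n F q).comp (extHom hF hb)).range ≠ ⊤ := by
  intro htop
  obtain ⟨w, hw0, hw⟩ := exists_crd_zero hF hb hkn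
  have h1 : (⊤ : Subgroup (SU n F q)) ≤ (extHom hF hb).range := by
    rw [← Cfsg.Agent.LieClassical.HermPerfect.commutator_SU_eq_top hF hn h32, commutator_def,
      commutator_le]
    have h2 : ∀ s : SU n F q, ∃ t ∈ (extHom hF hb).range, ∃ z, z ∈ center (SU n F q) ∧ s = t * z := by
      intro s
      have h3 : pr n F q s ∈ ((pr n F q).comp (extHom hF hb)).range := by rw [htop]; trivial
      obtain ⟨g, hg⟩ := h3
      refine ⟨extHom hF hb g, ⟨g, rfl⟩, (extHom hF hb g)⁻¹ * s, ?_, by group⟩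
      have h4 : pr n F q ((extHom hF hb g)⁻¹ * s) = 1 := by
        rw [map_mul, map_inv]
        have : pr n F q (extHom hF hb g) = pr n F q s := hg
        rw [this, inv_mul_cancel]
      exact (QuotientGroup.eq_one_iff _).1 h4
    intro s _ s' _
    obtain ⟨t, ht, z, hz, rfl⟩ := h2 s
    obtain ⟨t', ht', z', hz', rfl⟩ := h2 s'
    have hc : ∀ x, Commute z x := fun x => ((mem_center_iff.1 hz) x).symm
    have hc' : ∀ x, Commute z' x := fun x => ((mem_center_iff.1 hz') x).symm
    have e : ⁅t * z, t' * z'⁆ = ⁅t, t'⁆ := by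
      rw [commutatorElement_def, commutatorElement_def]
      have e1 : t * z * (t' * z') * (t * z)⁻¹ * (t' * z')⁻¹
          = t * (z * t') * z' * z⁻¹ * t⁻¹ * z'⁻¹ * t'⁻¹ := by group
      rw [e1, (hc t').eq]
      have e2 : t * (t' * z) * z' * z⁻¹ * t⁻¹ * z'⁻¹ * t'⁻¹
          = t * t' * (z * z') * z⁻¹ * (t⁻¹ * z'⁻¹) * t'⁻¹ := by group
      rw [e2, (hc z').eq, ((hc' t⁻¹).inv_left.eq).symm]
      group
    rw [e]
    rw [commutatorElement_def]
    exact mul_mem (mul_mem (mul_mem ht ht') (inv_mem ht)) (inv_mem ht')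
  obtain ⟨s, hs⟩ := exists_moving hF (by omega) hw0
  obtain ⟨g, rfl⟩ := h1 (mem_top s)
  exact hs (act_ext_fix hF hb g hw)

end onb

end Cfsg.Agent.H957.InvU
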