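import Cfsg.Agent.H957.InvU3

/-!
# S3830, row PSU: non-degenerate subspaces of odd dimension (helper957)
-/

set_option autoImplicit false
set_option linter.unusedSectionVars false

namespace Cfsg.Agent.H957.InvU

open Cfsg Subgroup Cfsg.Agent.H459.Inv
open Cfsg.Agent.H903.SylSemi (Ind scal scal_apply)
open Cfsg.Agent.LieClassical.HermBasic Cfsg.Agent.LieClassical.HermSiegel
open Cfsg.Agent.ClassicalGeometry.PSUAutCount Cfsg.Agent.ClassicalGeometry.UnitAutBasic
open Cfsg.Agent.H177.MeetPSU (rho rho_apply rho_injective yy yy_apply ind_yy uniq)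
open Cfsg.Agent.H957.T5U Cfsg.Agent.H957.T5V Cfsg.Agent.H957.T5Tr
open scoped Matrix commutatorElement

universe u

theorem not_solvable_of_ind {V : Type*} [Finite V] {T : Type*} [Group T] [Finite T] {X : Type*}
    [Group X] {π : X →* T} {ρ : X →* Equiv.Perm V} (hπ : Function.Surjective π)
    (hρ : Function.Injective ρ) {c : Equiv.Perm V} {β : MulAut T}
    (h : Ind π ρ c β) {s : X}
    (hn : ¬ Group.IsSolvable ↥(closure ({β, MulAut.conj (π s)} : Set (MulAut T)))) :
    ¬ Group.IsSolvable ↥(closure ({c, ρ s} : Set (Equiv.Perm V))) := by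
  intro hs
  apply hn
  let R : Subgroup (Equiv.Perm V × MulAut T) :=
    { carrier := {z | Ind π ρ z.1 z.2}
      mul_mem' := fun ha hb => Ind.mul ha hb
      one_mem' := Ind.one π ρ
      inv_mem' := fun ha => Ind.inv ha }
  let H : Subgroup (Equiv.Perm V × MulAut T) := closure {(c, β), (ρ s, MulAut.conj (π s))}
  have hHR : H ≤ R := by
    rw [closure_le]
    rintro z (rfl | rfl)
    · exact h
    · exact Ind.conj π ρ s
  have h1 : H.map (MonoidHom.fst _ _) = closure {c, ρ s} := by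
    rw [MonoidHom.map_closure, Set.image_pair]
    rfl
  have h2 : H.map (MonoidHom.snd _ _) = closure {β, MulAut.conj (π s)} := by
    rw [MonoidHom.map_closure, Set.image_pair]
    rfl
  have hinj : Function.Injective ((MonoidHom.fst (Equiv.Perm V) (MulAut T)).subgroupMap H) := by
    rintro ⟨⟨a, a0⟩, ha⟩ ⟨⟨b, b0⟩, hb⟩ hab
    have h3 : a = b := congrArg Subtype.val hab
    subst h3
    have h4 : a0 = b0 := Ind.unique hπ hρ (hHR ha : Ind π ρ a a0) (hHR hb : Ind π ρ a b0)
    subst h4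
    rfl
  have h3 : Group.IsSolvable ↥(H.map (MonoidHom.fst (Equiv.Perm V) (MulAut T))) := by
    rw [h1]; exact hs
  have h4 : Group.IsSolvable H := Group.isSolvable_of_isSolvable_injective hinj
  rw [← h2]
  exact Group.isSolvable_of_surjective
    (f := (MonoidHom.snd (Equiv.Perm V) (MulAut T)).subgroupMap H)
    ((MonoidHom.snd (Equiv.Perm V) (MulAut T)).subgroupMap_surjective H)

variable {F : Type} [Field F] [Fintype F] {n k q p : ℕ}

theorem act_pow_scal {s : SU n F q} {a : F} (h : ∀ v, act s v = a • v) (m : ℕ) (v : Fin n → F) :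
    act (s ^ m) v = a ^ m • v := by
  induction m with
  | zero => rw [pow_zero, pow_zero, act_one, one_smul]
  | succ m ih => rw [pow_succ', act_mul, ih, act_smul, h, smul_smul, pow_succ, mul_comm]

theorem pow_eq_one_of_pr (hF : Fintype.card F = q ^ 2) (hn : 3 ≤ n) {s : SU n F q}
    (h : pr n F q s = 1) : s ^ n = 1 := by
  have h1 : s ∈ Subgroup.center (SU n F q) := (QuotientGroup.eq_one_iff s).1 h
  obtain ⟨c, hcn, hcq, rfl⟩ := (Cfsg.Agent.LieClassical.SUBasic.mem_center_SU_iff hF hn s).1 h1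
  have h2 : ∀ v, act (Cfsg.Agent.LieClassical.SUBasic.suScalar q c hcn hcq) v = c • v := by
    intro v
    rw [act_def, mat_def, Cfsg.Agent.LieClassical.SUBasic.coe_suScalar]
    funext i
    rw [Matrix.mulVec_diagonal]
    rfl
  apply ext_act
  intro v
  rw [act_pow_scal h2, hcn, one_smul, act_one]

/-- Lifting involutions if `n` is odd. -/
theorem exists_lift (hF : Fintype.card F = q ^ 2) (hn : 3 ≤ n) (hno : Odd n) {y : PSU n F q}
    (hy : orderOf y = 2) : ∃ s : SU n F q, s * s = 1 ∧ pr n F q s = y := by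
  obtain ⟨s, rfl⟩ := pr_surjective y
  have h1 : (pr n F q s) ^ 2 = 1 := by rw [← hy, pow_orderOf_eq_one]
  have h2 : (s ^ 2) ^ n = 1 := pow_eq_one_of_pr hF hn (by rw [map_pow, h1])
  refine ⟨s ^ n, ?_, ?_⟩
  · rw [← pow_two, ← pow_mul, mul_comm, pow_mul, h2]
  · obtain ⟨j, rfl⟩ := hno
    rw [map_pow, pow_succ, pow_mul, h1, one_pow, one_mul]

theorem psu_not_comm (hF : Fintype.card F = q ^ 2) (hn : 3 ≤ n) (h32 : ¬ (n = 3 ∧ q = 2)) :
    ¬ IsMulCommutative (PSU n F q) := by
  intro hcm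
  have hS : IsSimpleGroup (PSU n F q) := Cfsg.Agent.S0283.result hF n hn h32
  have h1 : commutator (SU n F q) ≤ center (SU n F q) := by
    rw [commutator_def, commutator_le]
    intro a _ b _
    apply (QuotientGroup.eq_one_iff _).1
    change pr n F q ⁅a, b⁆ = 1
    rw [map_commutatorElement, commutatorElement_eq_one_iff_mul_comm]
    exact hcm.is_comm.comm _ _
  rw [Cfsg.Agent.LieClassical.HermPerfect.commutator_SU_eq_top hF hn h32] at h1
  obtain ⟨y, hy⟩ := exists_ne (1 : PSU n F q)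
  obtain ⟨s, rfl⟩ := pr_surjective y
  exact hy ((QuotientGroup.eq_one_iff s).2 (h1 (mem_top s)))

section onb

variable (hF : Fintype.card F = q ^ 2) {b : Fin k → (Fin n → F)}
  (hb : ∀ i j, hermForm n F q (b i) (b j) = if i = j then 1 else 0)

theorem pr_ext_injective (hn : 3 ≤ n) (hkn : k < n) :
    Function.Injective ((pr n F q).comp (extHom hF hb)) := by
  rw [injective_iff_map_eq_one]
  intro g hg
  obtain ⟨a, ha⟩ := scal_of_pr hF hn (s := extHom hF hb g) hg
  obtain ⟨w, hw0, hw⟩ := exists_crd_zero hF hb hkn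
  have h1 : (a - 1) • w = 0 := by
    rw [sub_smul, one_smul, ← ha w, sub_eq_zero]
    exact act_ext_fix hF hb g hw
  have h2 : a = 1 := sub_eq_zero.1 ((smul_eq_zero.1 h1).resolve_right hw0)
  apply extHom_injective hF hb
  rw [map_one]
  apply ext_act
  intro v
  rw [ha, h2, one_smul, act_one]

include hF hb in
theorem card_lt (hn : 3 ≤ n) (h32 : ¬ (n = 3 ∧ q = 2)) (hkn : k < n) :
    Nat.card (PSU k F q) < Nat.card (PSU n F q) := by
  have hfin : Finite (SU k F q) := inferInstance
  have hfin' : Finite (PSU n F q) := Finite.of_surjective _ (pr_surjective (n := n) (F := F) (q := q))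
  have h1 : Nat.card (PSU k F q) ≤ Nat.card (SU k F q) :=
    Nat.card_le_card_of_surjective _ (pr_surjective (n := k) (F := F) (q := q))
  have h2 : Nat.card (SU k F q) = Nat.card ((pr n F q).comp (extHom hF hb)).range :=
    Nat.card_congr (MonoidHom.ofInjective (pr_ext_injective hF hb hn hkn)).toEquiv
  have h3 : Nat.card ((pr n F q).comp (extHom hF hb)).range < Nat.card (PSU n F q) := by
    refine lt_of_le_of_ne (Subgroup.card_le_card_group _) fun h4 => ?_
    exact range_ne_top hF hb hn h32 hkn (Subgroup.eq_top_of_card_eq _ h4)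
  omega

include hF hb in
/-- **Non-degenerate subspaces of odd dimension.** -/
theorem ns_of_onb (hn : 3 ≤ n) (h32 : ¬ (n = 3 ∧ q = 2)) (hp : p.Prime)
    (hI : IH.{u} p (Nat.card (PSU n F q))) {c : Equiv.Perm (Fin n → F)} {σ : F ≃+* F}
    (hc : SI q σ c) {β : MulAut (PSU n F q)} (hβ : Ind (pr n F q) (rho n F q) c β)
    (hcp : IsScal F (c ^ p)) (hk3 : 3 ≤ k) (hkn : k < n) (hko : Odd k) (hk32 : ¬ (k = 3 ∧ q = 2))
    (hinv : ∀ x, ∃ y, c (emb b x) = emb b y)
    (hns : ¬ ∃ a : F, ∀ x, c (emb b x) = a • emb b x) : NS β := by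
  have hfin' : Finite (PSU n F q) := Finite.of_surjective _ (pr_surjective (n := n) (F := F) (q := q))
  have hfin'' : Finite (PSU k F q) := Finite.of_surjective _ (pr_surjective (n := k) (F := F) (q := q))
  have : Nonempty (Fin k) := ⟨⟨0, by omega⟩⟩
  have : Nontrivial (Fin k → F) := Function.nontrivial
  have hpF : Fact p.Prime := ⟨hp⟩
  obtain ⟨c0, hc0⟩ := exists_res (emb_inj hb) hinv
  have hc0S : SI q σ c0 := by
    refine ⟨⟨fun u v => ?_, fun a v => ?_⟩, fun u v => ?_⟩
    · apply emb_inj hb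
      rw [← hc0, emb_add, hc.semi.add, hc0, hc0, emb_add]
    · apply emb_inj hb
      rw [← hc0, emb_smul, hc.semi.smul, hc0, emb_smul]
    · rw [← herm_emb hF hb, ← hc0, ← hc0, hc.herm, herm_emb hF hb]
  obtain ⟨β0, hβ0⟩ := exists_ind hF hc0S
  have hp0 : IsScal F (c0 ^ p) := by
    obtain ⟨a, ha⟩ := hcp
    refine ⟨a, fun x => ?_⟩
    apply emb_inj hb
    rw [← (hc0.pow p), ha, emb_smul]
  have hβp : β0 ^ p = 1 := by
    obtain ⟨a, ha⟩ := exists_scal hp0
    have h1 := hβ0.pow p
    rw [ha] at h1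
    exact Ind.unique pr_surjective rho_injective h1 (ind_scal (fun s => (si_rho s).semi) a)
  have hβ1 : β0 ≠ 1 := by
    intro h
    rw [h] at hβ0
    obtain ⟨a, ha⟩ := uniq hF hk3 ⟨σ, 1, one_ne_zero, ⟨hc0S.semi.add, hc0S.semi.smul⟩,
      fun u v => by rw [one_mul, hc0S.herm]⟩ hβ0
    apply hns
    refine ⟨a, fun x => ?_⟩
    rw [hc0, ha, scal_apply, emb_smul]
  have hord : orderOf β0 = p := orderOf_eq_prime hβp hβ1
  have hS : IsSimpleGroup (PSU k F q) := Cfsg.Agent.S0283.result hF k hk3 hk32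
  have hS' : IsSimpleGroup (ULift.{u} (PSU k F q)) :=
    (MulEquiv.isSimpleGroup_congr (MulEquiv.ulift (α := PSU k F q))).2 hS
  have hIR : IRow p (PSU k F q) := by
    refine IRow.congr (MulEquiv.ulift.{0, u} (α := PSU k F q)).symm (hI (ULift.{u} (PSU k F q)) ?_ ?_)
    · intro h
      refine psu_not_comm hF hk3 hk32 ⟨⟨fun a b => ?_⟩⟩
      have h1 := h.is_comm.comm (ULift.up.{u} a) (ULift.up.{u} b)
      exact congrArg ULift.down h1
    · rw [Nat.card_congr (Equiv.ulift.{u, 0} (α := PSU k F q))]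
      exact card_lt hF hb hn h32 hkn
  obtain ⟨y, hy, hyn⟩ := hIR β0 hord
  obtain ⟨s, hs2, rfl⟩ := exists_lift hF hk3 hko hy
  have h1 := not_solvable_of_ind pr_surjective rho_injective hβ0 hyn
  have h2 := not_solvable_of_res (emb_inj hb) hc0 (res_ext hF hb s) h1
  refine ns_of_perm (π := pr n F q) (ρ := rho n F q) rho_injective
    (fun a b ha _ => comm_of_pr ha) hβ (s := ext hF hb s) ?_ h2
  have h2p : Fact (Nat.Prime 2) := ⟨Nat.prime_two⟩
  apply orderOf_eq_prime
  · rw [← map_pow, pow_two, ← ext_mul, hs2]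
    have : ext hF hb (1 : SU k F q) = 1 := map_one (extHom hF hb)
    rw [this, map_one]
  · intro h3
    have h4 : s = 1 := pr_ext_injective hF hb hn hkn (by rw [map_one]; exact h3)
    rw [h4, map_one, orderOf_one] at hy
    omega

end onb

end Cfsg.Agent.H957.InvU
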