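import Cfsg.Agent.H957.InvU4

/-!
# S3830, row PSU: blocks; orthonormal bases of subspaces (helper957)
-/

set_option autoImplicit false
set_option linter.unusedSectionVars false

namespace Cfsg.Agent.H957.InvU

open Cfsg Subgroup Cfsg.Agent.H459.Inv
open Cfsg.Agent.H903.SylSemi (Ind scal scal_apply)
open Cfsg.Agent.LieClassical.HermBasic Cfsg.Agent.LieClassical.HermSiegel
open Cfsg.Agent.ClassicalGeometry.PSUAutCount Cfsg.Agent.ClassicalGeometry.UnitAutBasic
open Cfsg.Agent.H177.MeetPSU (rho rho_apply rho_injective yy yy_apply ind_yy uniq)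
open Cfsg.Agent.H957.T5U Cfsg.Agent.H957.T5V Cfsg.Agent.H957.T5Tr
open Polynomial

universe u

section block

variable {F V : Type*} [Field F] [AddCommGroup V] [Module F V]

/-- The cyclic subspace generated by `w`. -/
def blk (f : Module.End F V) (w : V) : Submodule F V where
  carrier := {v | ∃ a : F[X], aeval f a w = v}
  add_mem' := by
    rintro _ _ ⟨a, rfl⟩ ⟨b, rfl⟩
    exact ⟨a + b, by rw [map_add, LinearMap.add_apply]⟩
  zero_mem' := ⟨0, by rw [map_zero, LinearMap.zero_apply]⟩
  smul_mem' := by
    rintro c _ ⟨a, rfl⟩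
    exact ⟨c • a, by rw [map_smul, LinearMap.smul_apply]⟩

variable {f : Module.End F V} {w : V}

theorem mem_blk {v : V} : v ∈ blk f w ↔ ∃ a : F[X], aeval f a w = v := Iff.rfl

theorem self_mem_blk : w ∈ blk f w := ⟨1, by rw [map_one]; rfl⟩

theorem blk_inv {v : V} (h : v ∈ blk f w) : f v ∈ blk f w := by
  obtain ⟨a, rfl⟩ := h
  exact ⟨X * a, by rw [map_mul, aeval_X]; rfl⟩

theorem aeval_mem {U : Submodule F V} (hU : ∀ u ∈ U, f u ∈ U) (a : F[X]) {u : V} (hu : u ∈ U) :
    aeval f a u ∈ U := by
  induction a using Polynomial.induction_on' with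
  | add a b ha hb => rw [map_add, LinearMap.add_apply]; exact U.add_mem ha hb
  | monomial m c =>
    rw [aeval_monomial, Module.End.mul_apply, Module.algebraMap_end_apply]
    apply U.smul_mem
    induction m with
    | zero => exact hu
    | succ m ih => rw [pow_succ', Module.End.mul_apply]; exact hU _ ih

theorem blk_le {U : Submodule F V} (hU : ∀ u ∈ U, f u ∈ U) (hw : w ∈ U) : blk f w ≤ U := by
  rintro _ ⟨a, rfl⟩
  exact aeval_mem hU a hw

variable {P : F[X]}

theorem aeval_blk (hPw : aeval f P w = 0) {v : V} (hv : v ∈ blk f w) : aeval f P v = 0 := by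
  obtain ⟨a, rfl⟩ := hv
  rw [← Module.End.mul_apply, ← map_mul, mul_comm, map_mul, Module.End.mul_apply, hPw, map_zero]

theorem dvd_of_aeval (hP : Irreducible P) (hPw : aeval f P w = 0) (hw : w ≠ 0) {a : F[X]}
    (ha : aeval f a w = 0) : P ∣ a := by
  by_contra hcon
  obtain ⟨A, B, hAB⟩ := (hP.coprime_iff_not_dvd (n := a)).2 hcon
  apply hw
  have := congrArg (fun r => aeval f r w) hAB
  simp only [map_add, LinearMap.add_apply, map_one, Module.End.one_apply, map_mul,
    Module.End.mul_apply, ha, hPw, map_zero, add_zero] at this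
  exact this.symm

/-- The block is irreducible. -/
theorem blk_irr (hP : Irreducible P) (hPw : aeval f P w = 0) {U : Submodule F V}
    (hU : ∀ u ∈ U, f u ∈ U) (hUw : U ≤ blk f w) : U = ⊥ ∨ U = blk f w := by
  by_cases h0 : U = ⊥
  · exact Or.inl h0
  right
  obtain ⟨u, hu, hu0⟩ := Submodule.exists_mem_ne_zero_of_ne_bot h0
  refine le_antisymm hUw (blk_le hU ?_)
  obtain ⟨a, rfl⟩ := hUw hu
  have hna : ¬ P ∣ a := by
    rintro ⟨b, rfl⟩
    apply hu0
    rw [mul_comm, map_mul, Module.End.mul_apply, hPw, map_zero]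
  obtain ⟨A, B, hAB⟩ := (hP.coprime_iff_not_dvd (n := a)).2 hna
  have := congrArg (fun r => aeval f r w) hAB
  simp only [map_add, LinearMap.add_apply, map_one, Module.End.one_apply, map_mul,
    Module.End.mul_apply, hPw, map_zero, zero_add] at this
  rw [← this]
  exact aeval_mem hU B hu

theorem finrank_blk (hP : Irreducible P) (hPw : aeval f P w = 0) (hw : w ≠ 0) :
    Module.finrank F (blk f w) = P.natDegree := by
  have : Fact (Irreducible P) := ⟨hP⟩
  have hsurj : Function.Surjective (AdjoinRoot.mk P) := AdjoinRoot.mk_surjective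
  let rep : AdjoinRoot P → F[X] := Function.surjInv hsurj
  have hrep : ∀ x, AdjoinRoot.mk P (rep x) = x := Function.surjInv_eq hsurj
  have hker : ∀ a : F[X], P ∣ a → aeval f a w = 0 := by
    rintro _ ⟨b, rfl⟩
    rw [mul_comm, map_mul, Module.End.mul_apply, hPw, map_zero]
  have hmk : ∀ a : F[X], aeval f (rep (AdjoinRoot.mk P a)) w = aeval f a w := by
    intro a
    have h1 : AdjoinRoot.mk P (rep (AdjoinRoot.mk P a) - a) = 0 := by
      rw [map_sub, hrep, sub_self]
    have h2 := hker _ (AdjoinRoot.mk_eq_zero.1 h1)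
    rw [map_sub, LinearMap.sub_apply] at h2
    exact sub_eq_zero.1 h2
  let φ : AdjoinRoot P →ₗ[F] blk f w :=
    { toFun := fun x => ⟨aeval f (rep x) w, ⟨rep x, rfl⟩⟩
      map_add' := fun x y => by
        apply Subtype.ext
        have := hmk (rep x + rep y)
        rw [map_add, hrep, hrep, map_add, LinearMap.add_apply] at this
        exact this
      map_smul' := fun c x => by
        apply Subtype.ext
        have := hmk (c • rep x)
        rw [← AdjoinRoot.smul_mk, hrep, map_smul, LinearMap.smul_apply] at this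
        exact this }
  have hφ : Function.Bijective φ := by
    constructor
    · rw [injective_iff_map_eq_zero]
      intro x hx
      have h1 : aeval f (rep x) w = 0 := congrArg Subtype.val hx
      have h2 := dvd_of_aeval hP hPw hw h1
      rw [← hrep x]
      exact AdjoinRoot.mk_eq_zero.2 h2
    · rintro ⟨_, a, rfl⟩
      exact ⟨AdjoinRoot.mk P a, Subtype.ext (hmk a)⟩
  rw [← (LinearEquiv.ofBijective φ hφ).finrank_eq, (AdjoinRoot.powerBasis hP.ne_zero).finrank,
    AdjoinRoot.powerBasis_dim]

end block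

variable {F : Type} [Field F] [Fintype F] {n k q p : ℕ}

/-- An orthonormal basis of a non-degenerate subspace. -/
theorem exists_onb_sub (hF : Fintype.card F = q ^ 2) {Y : Submodule F (Fin n → F)}
    (hY : ∀ y ∈ Y, y ≠ 0 → ∃ z ∈ Y, hermForm n F q y z ≠ 0) (j : ℕ) (hj : j ≤ Module.finrank F Y) :
    ∃ b : Fin j → (Fin n → F),
      (∀ i j, hermForm n F q (b i) (b j) = if i = j then 1 else 0) ∧ ∀ i, b i ∈ Y := by
  induction j with
  | zero => exact ⟨fun i => i.elim0, fun i => i.elim0, fun i => i.elim0⟩
  | succ j ih =>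
    obtain ⟨b, hb, hbY⟩ := ih (by omega)
    have hli := li_orth hF hb
    let φ : Y →ₗ[F] (Fin j → F) :=
      { toFun := fun y i => hermForm n F q (y : Fin n → F) (b i)
        map_add' := fun x y => by funext i; exact herm_add_left _ _ _
        map_smul' := fun c x => by funext i; exact herm_smul_left _ _ _ }
    obtain ⟨y, hy, hy0⟩ : ∃ y ∈ LinearMap.ker φ, y ≠ 0 := by
      apply Submodule.exists_mem_ne_zero_of_ne_bot
      intro h0
      have h1 := LinearMap.finrank_le_finrank_of_injective (f := φ) (LinearMap.ker_eq_bot.1 h0)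
      rw [Module.finrank_fin_fun] at h1
      omega
    have hyb : ∀ i, hermForm n F q (y : Fin n → F) (b i) = 0 := fun i => congrFun hy i
    let Y' : Submodule F (Fin n → F) := Y ⊓ Cfsg.Agent.H77.Geom.perp q (Set.range b)
    have hYm : ∀ y, y ∈ Y' ↔ y ∈ Y ∧ ∀ i, hermForm n F q y (b i) = 0 := by
      intro y
      rw [Submodule.mem_inf, Cfsg.Agent.H77.Geom.mem_perp]
      simp
    obtain ⟨x, hx, hx'⟩ := hY y y.2 (fun h => hy0 (Subtype.ext h))
    set x' := x - ∑ i, hermForm n F q x (b i) • b i with hx'd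
    have hx'Y : x' ∈ Y' := by
      rw [hYm]
      constructor
      · exact Y.sub_mem hx (Y.sum_mem fun i _ => Y.smul_mem _ (hbY i))
      · intro i
        rw [hx'd, herm_sub_left, herm_sum_left]
        simp only [herm_smul_left, hb]
        simp
    have hyx' : hermForm n F q (y : Fin n → F) x' ≠ 0 := by
      rw [hx'd, herm_sub_right hF, herm_sum_right hF]
      simp only [herm_smul_right, hyb, mul_zero, Finset.sum_const_zero, sub_zero]
      exact hx'
    obtain ⟨v, hv, hvv⟩ := ClassicalGeometry.HermWitt.exists_apply_self_ne_zero _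
      (Cfsg.Agent.H77.Witt.formB hF n)
      (Cfsg.Agent.H77.Witt.conj_ne hF) (Cfsg.Agent.H77.Witt.formB_symm hF) Y'
      ⟨y, (hYm _).2 ⟨y.2, hyb⟩, x', hx'Y, fun h => hyx' (herm_eq_zero_swap hF (by exact h))⟩
    have hvv' : hermForm n F q v v ≠ 0 := hvv
    obtain ⟨a, ha0, ha⟩ := exists_norm_eq_ne hF (c := (hermForm n F q v v)⁻¹)
      (by rw [inv_pow, herm_self_pow hF]) (inv_ne_zero hvv')
    set v' := a • v with hv'd
    have hv'Y : v' ∈ Y' := Y'.smul_mem _ hv
    have hv'v' : hermForm n F q v' v' = 1 := by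
      rw [hv'd, herm_smul_left, herm_smul_right, ← mul_assoc, ha, inv_mul_cancel₀ hvv']
    refine ⟨Fin.snoc b v', ?_, ?_⟩
    · intro i j
      induction i using Fin.lastCases with
      | last =>
        induction j using Fin.lastCases with
        | last => simpa using hv'v'
        | cast j =>
          rw [Fin.snoc_last, Fin.snoc_castSucc, ((hYm v').1 hv'Y).2]
          rw [if_neg (Fin.castSucc_lt_last j).ne']
      | cast i =>
        induction j using Fin.lastCases with
        | last =>
          rw [Fin.snoc_last, Fin.snoc_castSucc, if_neg (Fin.castSucc_lt_last i).ne]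
          exact herm_eq_zero_swap hF (((hYm v').1 hv'Y).2 i)
        | cast j =>
          rw [Fin.snoc_castSucc, Fin.snoc_castSucc, hb]
          simp [Fin.castSucc_inj]
    · intro i
      induction i using Fin.lastCases with
      | last => rw [Fin.snoc_last]; exact ((hYm v').1 hv'Y).1
      | cast i => rw [Fin.snoc_castSucc]; exact hbY i

end Cfsg.Agent.H957.InvU
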