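import Cfsg.Agent.H957.InvU8

/-!
# S3830, row PSU: eigenvalues in the small field (helper957)
-/

set_option autoImplicit false
set_option linter.unusedSectionVars false

namespace Cfsg.Agent.H957.InvU

open Cfsg Subgroup Cfsg.Agent.H459.Inv
open Cfsg.Agent.H903.SylSemi (Ind scal scal_apply)
open Cfsg.Agent.LieClassical.HermBasic Cfsg.Agent.LieClassical.HermSiegel
open Cfsg.Agent.ClassicalGeometry.PSUAutCount Cfsg.Agent.ClassicalGeometry.UnitAutBasic
open Cfsg.Agent.H177.MeetPSU (rho rho_apply rho_injective yy yy_apply ind_yy uniq)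
open Cfsg.Agent.H957.T5U Cfsg.Agent.H957.T5V Cfsg.Agent.H957.T5Tr
open Cfsg.Agent.H957.T5Pairs (exists_end pow_end)

universe u

variable {F : Type} [Field F] [Fintype F] {n k q p : ℕ}

/-- Three vectors with a non-degenerate Gram matrix. -/
theorem ns_of_three (hF : Fintype.card F = q ^ 2) (hn : 4 ≤ n) (hq2 : q ≠ 2) (hp : p.Prime)
    (hI : IH.{u} p (Nat.card (PSU n F q))) {c : Equiv.Perm (Fin n → F)}
    (hc : SI q (1 : F ≃+* F) c) {β : MulAut (PSU n F q)} (hβ : Ind (pr n F q) (rho n F q) c β)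
    (hcp : IsScal F (c ^ p)) {v : Fin 3 → (Fin n → F)}
    (hnd : ∀ x : Fin 3 → F, (∀ j, hermForm n F q (∑ i, x i • v i) (v j) = 0) → x = 0)
    (hcv : ∀ i, c (v i) ∈ Submodule.span F (Set.range v))
    (hns : ¬ ∃ a : F, ∀ i, c (v i) = a • v i) : NS β := by
  have hli : LinearIndependent F v := by
    rw [Fintype.linearIndependent_iff]
    intro g hg i
    have h := hnd g (fun j => by rw [hg, herm_zero_left])
    rw [h]
    rfl
  have hfr : Module.finrank F (Submodule.span F (Set.range v)) = 3 := by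
    rw [finrank_span_eq_card hli, Fintype.card_fin]
  refine ns_of_od hF (by omega) hq2 hp hI hc hβ hcp (Y := Submodule.span F (Set.range v)) ?_ ?_
    (by rw [hfr]; decide) (by rw [hfr]) (by rw [hfr]; omega) ?_
  · intro y hy
    induction hy using Submodule.span_induction with
    | mem x hx => obtain ⟨i, rfl⟩ := hx; exact hcv i
    | zero => rw [hc.semi.zero]; exact Submodule.zero_mem _
    | add x y _ _ hx hy => rw [hc.semi.add]; exact Submodule.add_mem _ hx hy
    | smul a x _ hx => rw [hc.semi.smul]; exact Submodule.smul_mem _ _ hx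
  · intro y hy hy0
    by_contra hcon
    push Not at hcon
    obtain ⟨x, rfl⟩ := (Submodule.mem_span_range_iff_exists_fun F).1 hy
    apply hy0
    have h := hnd x (fun j => hcon _ (Submodule.subset_span ⟨j, rfl⟩))
    rw [h]
    simp
  · rintro ⟨a, ha⟩
    exact hns ⟨a, fun i => ha _ (Submodule.subset_span ⟨i, rfl⟩)⟩

/-- A plane spanned by two orthogonal isotropic vectors. -/
theorem ns_of_pair (hF : Fintype.card F = q ^ 2) (hn : 3 ≤ n) (h2 : (2 : F) ≠ 0) (hp : p.Prime)
    (hp5 : 5 ≤ p) {c : Equiv.Perm (Fin n → F)} (hc : SI q (1 : F ≃+* F) c)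
    {β : MulAut (PSU n F q)} (hβ : Ind (pr n F q) (rho n F q) c β) (hcp : IsScal F (c ^ p))
    {x y : Fin n → F} (hli : LinearIndependent F ![x, y]) (hxx : hermForm n F q x x = 0)
    (hyy : hermForm n F q y y = 0) (hxy : hermForm n F q x y = 0)
    (hcx : c x ∈ Submodule.span F {x, y}) (hcy : c y ∈ Submodule.span F {x, y})
    (hns : ¬ ∃ a : F, c x = a • x ∧ c y = a • y) : NS β := by
  have hyx := herm_eq_zero_swap hF hxy
  have hfr : Module.finrank F (Submodule.span F ({x, y} : Set (Fin n → F))) = 2 := by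
    have := finrank_span_eq_card hli
    rw [Cfsg.Agent.H77.Geom.range_pair, Fintype.card_fin] at this
    exact this
  have hmx : x ∈ Submodule.span F ({x, y} : Set (Fin n → F)) := Submodule.subset_span (by simp)
  have hmy : y ∈ Submodule.span F ({x, y} : Set (Fin n → F)) := Submodule.subset_span (by simp)
  refine ns_of_plane hF hn h2 hp hp5 hc hβ hcp hfr ?_ ?_ ?_
  · intro u hu v hv
    obtain ⟨a, b, rfl⟩ := Submodule.mem_span_pair.1 hu
    obtain ⟨a', b', rfl⟩ := Submodule.mem_span_pair.1 hv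
    simp only [herm_add_left, herm_add_right hF, herm_smul_left, herm_smul_right, hxx, hyy, hxy, hyx,
      mul_zero, add_zero]
  · intro w hw
    obtain ⟨a, b, rfl⟩ := Submodule.mem_span_pair.1 hw
    rw [hc.semi.add, hc.semi.smul, hc.semi.smul]
    exact Submodule.add_mem _ (Submodule.smul_mem _ _ hcx) (Submodule.smul_mem _ _ hcy)
  · rintro ⟨a, ha⟩
    exact hns ⟨a, ha _ hmx, ha _ hmy⟩

theorem exists_eigvec (hp : p.Prime) (hpF1 : p ∣ Nat.card F - 1) {c : Equiv.Perm (Fin n → F)}
    (hc : SI q (1 : F ≃+* F) c) (hcp : c ^ p = 1) {Y : Submodule F (Fin n → F)}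
    (hcY : ∀ y ∈ Y, c y ∈ Y) {v : Fin n → F} (hv : v ∈ Y) (hcv : c v ≠ v) :
    ∃ x ∈ Y, x ≠ 0 ∧ ∃ ξ : F, ξ ≠ 1 ∧ c x = ξ • x := by
  have : Fact p.Prime := ⟨hp⟩
  obtain ⟨f, hf, hfc⟩ := exists_end hc.semi
  let g : Module.End F Y := (f : (Fin n → F) →ₗ[F] (Fin n → F)).restrict
    (fun y hy => by
      change f y ∈ Y
      rw [hf]
      exact hcY y hy)
  have hg : ∀ y : Y, ((g y : Y) : Fin n → F) = c y := fun y => hf y
  have hgm : ∀ (m : ℕ) (y : Y), (((g ^ m) y : Y) : Fin n → F) = (c ^ m) y := by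
    intro m
    induction m with
    | zero => intro y; rfl
    | succ m ih =>
      intro y
      rw [pow_succ', pow_succ']
      change ((g ((g ^ m) y) : Y) : Fin n → F) = c ((c ^ m) y)
      rw [hg, ih]
  have hgp : g ^ p = ((1 : F) ^ p) • (1 : Module.End F Y) := by
    refine LinearMap.ext fun y => Subtype.ext ?_
    rw [hgm, hcp, one_pow, one_smul]
    rfl
  obtain ⟨b, d, hb⟩ := Cfsg.Agent.H957.T5Lin.exists_eigenbasis
    (κ := Fin (Module.finrank F Y)) hpF1 one_ne_zero hgp (Fintype.card_fin _)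
  obtain ⟨i, hi⟩ : ∃ i, d i ≠ 1 := by
    by_contra hcon
    push Not at hcon
    apply hcv
    have h1 : g = 1 := by
      apply b.ext
      intro i
      rw [hb, hcon, one_smul]
      rfl
    have h2 := hg ⟨v, hv⟩
    rw [h1] at h2
    exact h2.symm
  refine ⟨b i, (b i).2, fun h => b.ne_zero i (Subtype.ext h), d i, hi, ?_⟩
  rw [← hg, hb]
  rfl

theorem exists_partner_eig (hF : Fintype.card F = q ^ 2) (hp : p.Prime) (hp2 : p ≠ 2)
    (hpF : (p : F) ≠ 0) {c : Equiv.Perm (Fin n → F)}
    (hc : SI q (1 : F ≃+* F) c) (hcp : c ^ p = 1) {e : Fin n → F} (he0 : e ≠ 0) {ζ : F}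
    (hζ1 : ζ ≠ 1) (hζq : ζ ^ q = ζ) (hce : c e = ζ • e) :
    ζ * ζ ≠ 1 ∧ ζ ≠ 0 ∧ hermForm n F q e e = 0 ∧
      ∃ g, c g = ζ⁻¹ • g ∧ hermForm n F q e g = 1 ∧ hermForm n F q g g = 0 := by
  have hζp : ζ ^ p = 1 := eig_root hc hcp he0 hce
  have hζ0 : ζ ≠ 0 := by
    intro h
    rw [h, zero_pow hp.ne_zero] at hζp
    exact zero_ne_one hζp
  have hζ2 : ζ * ζ ≠ 1 := by
    intro h
    have h1 : orderOf ζ ∣ p := orderOf_dvd_of_pow_eq_one hζp
    have h2 : orderOf ζ ∣ 2 := orderOf_dvd_of_pow_eq_one (by rw [pow_two]; exact h)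
    have h3 : orderOf ζ ∣ Nat.gcd p 2 := Nat.dvd_gcd h1 h2
    rw [(Nat.coprime_primes hp Nat.prime_two).2 hp2, Nat.dvd_one, orderOf_eq_one_iff] at h3
    exact hζ1 h3
  have hee : hermForm n F q e e = 0 := by
    have h1 := hc.herm e e
    rw [hce, herm_smul_left, herm_smul_right, hζq] at h1
    have h2 : (ζ * ζ - 1) * hermForm n F q e e = 0 := by
      rw [sub_mul, one_mul, mul_assoc, h1]
      exact sub_self _
    exact (mul_eq_zero.1 h2).resolve_left (sub_ne_zero.2 hζ2)
  obtain ⟨f, hf, hfc⟩ := exists_end hc.semi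
  obtain ⟨w, hw⟩ := exists_herm_ne_zero hF he0
  set g : Fin n → F := ∑ m ∈ Finset.range p, ζ ^ m • (c ^ m) w with hg
  have hcg : c g = ζ⁻¹ • g := by
    have h1 : ζ • c g = g := by
      have h2 : c g = ∑ m ∈ Finset.range p, ζ ^ m • (c ^ (m + 1)) w := by
        rw [hg, ← hf, map_sum]
        refine Finset.sum_congr rfl fun m _ => ?_
        rw [map_smul, hf, pow_succ', Equiv.Perm.mul_apply]
      have h3 : ζ • c g = ∑ m ∈ Finset.range p, ζ ^ (m + 1) • (c ^ (m + 1)) w := by
        rw [h2, Finset.smul_sum]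
        refine Finset.sum_congr rfl fun m _ => ?_
        rw [smul_smul, ← pow_succ']
      have h4 := Finset.sum_range_succ' (fun m => ζ ^ m • (c ^ m) w) p
      have h5 := Finset.sum_range_succ (fun m => ζ ^ m • (c ^ m) w) p
      rw [h5] at h4
      simp only [hζp, hcp, pow_zero] at h4
      rw [h3]
      exact (add_right_cancel h4).symm
    conv_rhs => rw [← h1]
    rw [smul_smul, inv_mul_cancel₀ hζ0, one_smul]
  have heg : hermForm n F q e g ≠ 0 := by
    have h1 : ∀ m : ℕ, hermForm n F q e (ζ ^ m • (c ^ m) w) = hermForm n F q e w := by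
      intro m
      have h2 := (hc.pow m).herm e w
      rw [eig_pow hc hce, herm_smul_left, one_pow] at h2
      rw [herm_smul_right, ← pow_mul, mul_comm m q, pow_mul, hζq, h2]
      rfl
    rw [hg, herm_sum_right hF, Finset.sum_congr rfl fun m _ => h1 m, Finset.sum_const,
      Finset.card_range, nsmul_eq_mul]
    exact mul_ne_zero hpF hw
  have hgg : hermForm n F q g g = 0 := by
    have h1 := hc.herm g g
    rw [hcg, herm_smul_left, herm_smul_right, inv_pow, hζq] at h1
    have h2 : (ζ⁻¹ * ζ⁻¹ - 1) * hermForm n F q g g = 0 := by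
      rw [sub_mul, one_mul, mul_assoc, h1]
      exact sub_self _
    refine (mul_eq_zero.1 h2).resolve_left (sub_ne_zero.2 fun h3 => hζ2 ?_)
    rw [← mul_inv, inv_eq_one] at h3
    exact h3
  refine ⟨hζ2, hζ0, hee, ((hermForm n F q e g)⁻¹ ^ q) • g, ?_, ?_, ?_⟩
  · rw [hc.semi.smul, hcg, smul_comm]
    rfl
  · rw [herm_smul_right, pow_q_pow_q hF, inv_mul_cancel₀ heg]
  · rw [herm_smul_left, herm_smul_right, hgg, mul_zero, mul_zero]

/-- **`p` divides `q - 1`.** -/
theorem ns_split (hF : Fintype.card F = q ^ 2) (hn : 4 ≤ n) (hq2 : q ≠ 2) (h2 : (2 : F) ≠ 0)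
    (hp : p.Prime) (hp5 : 5 ≤ p) (hpq : p ∣ q - 1) (hpF : (p : F) ≠ 0)
    (hI : IH.{u} p (Nat.card (PSU n F q))) {c : Equiv.Perm (Fin n → F)}
    (hc : SI q (1 : F ≃+* F) c) {β : MulAut (PSU n F q)}
    (hβ : Ind (pr n F q) (rho n F q) c β) (hcp : c ^ p = 1) (hns : ∃ v, c v ≠ v) : NS β := by
  have hp2 : p ≠ 2 := by omega
  have hpF1 : p ∣ Nat.card F - 1 := by
    rw [Nat.card_eq_fintype_card, hF]
    have h1 : q ^ 2 - 1 = (q + 1) * (q - 1) := by
      have := Nat.sq_sub_sq q 1
      rwa [one_pow] at this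
    rw [h1]
    exact Dvd.dvd.mul_left hpq _
  have hcs : IsScal F (c ^ p) := by rw [hcp]; exact ⟨1, fun v => (one_smul F v).symm⟩
  have hroot : ∀ {x : Fin n → F}, x ≠ 0 → ∀ {ξ : F}, c x = ξ • x → ξ ^ q = ξ := by
    intro x hx ξ hcx
    have h0 := eig_root hc hcp hx hcx
    obtain ⟨m, hm⟩ := hpq
    have h1 := q_pos hF
    have h2 : q = p * m + 1 := by omega
    rw [h2, pow_succ, pow_mul, h0, one_pow, one_mul]
  obtain ⟨v, hv⟩ := hns
  obtain ⟨e, -, he0, ζ, hζ1, hce⟩ := exists_eigvec hp hpF1 hc hcp (Y := ⊤) (fun _ _ => trivial)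
    (v := v) trivial hv
  obtain ⟨hζ2, hζ0, hee, g, hcg, heg, hgg⟩ := exists_partner_eig hF hp hp2 hpF hc hcp he0 hζ1
    (hroot he0 hce) hce
  have hge : hermForm n F q g e = 1 := by rw [herm_swap hF e g, heg, one_pow]
  have hg0 : g ≠ 0 := by
    rintro rfl
    rw [herm_zero_left] at hge
    exact zero_ne_one hge
  have hζi : ζ ≠ ζ⁻¹ := fun h => hζ2 (by
    calc ζ * ζ = ζ * ζ⁻¹ := by rw [← h]
      _ = 1 := mul_inv_cancel₀ hζ0)
  -- the orthogonal complement
  let Y : Submodule F (Fin n → F) := Cfsg.Agent.H77.Geom.perp q (Set.range ![e, g])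
  have hYm : ∀ y, y ∈ Y ↔ hermForm n F q y e = 0 ∧ hermForm n F q y g = 0 := by
    intro y
    change y ∈ Cfsg.Agent.H77.Geom.perp q (Set.range ![e, g]) ↔ _
    rw [Cfsg.Agent.H77.Geom.range_pair, Cfsg.Agent.H77.Geom.mem_perp_pair]
  have hcY : ∀ y ∈ Y, c y ∈ Y := by
    intro y hy
    rw [hYm] at hy ⊢
    have h3 := hc.herm y e
    have h4 := hc.herm y g
    rw [hce, herm_smul_right, hy.1, map_zero] at h3
    rw [hcg, herm_smul_right, hy.2, map_zero] at h4
    exact ⟨(mul_eq_zero.1 h3).resolve_left (pow_ne_zero _ hζ0),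
      (mul_eq_zero.1 h4).resolve_left (pow_ne_zero _ (inv_ne_zero hζ0))⟩
  by_cases hfix : ∀ y ∈ Y, c y = y
  · -- `c` is trivial on the complement
    obtain ⟨w, hw, hww⟩ : ∃ w ∈ Y, hermForm n F q w w ≠ 0 := by
      have hli := li_of_hyp hF one_ne_zero hee hgg heg
      have h1 := Cfsg.Agent.H77.Geom.finrank_perp (q := q) hF hli
      obtain ⟨x, hx, hx0⟩ : ∃ x ∈ Y, x ≠ 0 := by
        apply Submodule.exists_mem_ne_zero_of_ne_bot
        intro h0
        change Module.finrank F Y + 2 = n at h1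
        rw [h0, finrank_bot] at h1
        omega
      obtain ⟨z, hz⟩ := exists_herm_ne_zero hF hx0
      set z' := z - hermForm n F q z g • e - hermForm n F q z e • g with hz'
      have hz'Y : z' ∈ Y := by
        rw [hYm, hz']
        simp only [herm_sub_left, herm_smul_left, hee, hge, heg, hgg]
        constructor <;> ring
      have hxz' : hermForm n F q x z' ≠ 0 := by
        rw [hz', herm_sub_right hF, herm_sub_right hF, herm_smul_right, herm_smul_right,
          ((hYm x).1 hx).1, ((hYm x).1 hx).2, mul_zero, mul_zero, sub_zero, sub_zero]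
        exact hz
      obtain ⟨w, hw, hww⟩ := ClassicalGeometry.HermWitt.exists_apply_self_ne_zero _
        (Cfsg.Agent.H77.Witt.formB hF n)
        (Cfsg.Agent.H77.Witt.conj_ne hF) (Cfsg.Agent.H77.Witt.formB_symm hF) Y
        ⟨x, hx, z', hz'Y, fun h => hxz' (herm_eq_zero_swap hF (by exact h))⟩
      exact ⟨w, hw, hww⟩
    have hwe := ((hYm w).1 hw).1
    have hwg := ((hYm w).1 hw).2
    have hew := herm_eq_zero_swap hF hwe
    have hgw := herm_eq_zero_swap hF hwg
    refine ns_of_three hF hn hq2 hp hI hc hβ hcs (v := ![e, g, w]) ?_ ?_ ?_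
    · intro x hx
      have h0 := hx 0
      have h1 := hx 1
      have h3 := hx 2
      simp only [Fin.sum_univ_three, Matrix.cons_val_zero, Matrix.cons_val_one, Matrix.cons_val,
        herm_add_left, herm_smul_left, hee, hge, heg, hgg, hwe, hwg, hew, hgw, mul_zero, mul_one,
        zero_add, add_zero] at h0 h1 h3
      funext i
      fin_cases i
      · exact h1
      · exact h0
      · exact (mul_eq_zero.1 h3).resolve_right hww
    · intro i
      fin_cases i
      · change c e ∈ _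
        rw [hce]
        exact Submodule.smul_mem _ _ (Submodule.subset_span ⟨0, rfl⟩)
      · change c g ∈ _
        rw [hcg]
        exact Submodule.smul_mem _ _ (Submodule.subset_span ⟨1, rfl⟩)
      · change c w ∈ _
        rw [hfix w hw]
        exact Submodule.subset_span ⟨2, rfl⟩
    · rintro ⟨a, ha⟩
      have h0 : c e = a • e := ha 0
      have h3 : c g = a • g := ha 1
      have e0 : ζ = a := by
        have : (ζ - a) • e = 0 := by rw [sub_smul, ← hce, ← h0, sub_self]
        exact sub_eq_zero.1 ((smul_eq_zero.1 this).resolve_right he0)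
      have e1 : ζ⁻¹ = a := by
        have : (ζ⁻¹ - a) • g = 0 := by rw [sub_smul, ← hcg, ← h3, sub_self]
        exact sub_eq_zero.1 ((smul_eq_zero.1 this).resolve_right hg0)
      exact hζi (e0.trans e1.symm)
  · push Not at hfix
    obtain ⟨y, hy, hcy⟩ := hfix
    obtain ⟨x, hx, hx0, ξ, hξ1, hcx⟩ := exists_eigvec hp hpF1 hc hcp hcY hy hcy
    obtain ⟨hξ2, hξ0, hxx, -⟩ := exists_partner_eig hF hp hp2 hpF hc hcp hx0 hξ1 (hroot hx0 hcx) hcx
    have hxe := ((hYm x).1 hx).1
    have hxg := ((hYm x).1 hx).2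
    -- two eigenvectors with different eigenvalues
    have key : ∀ {z : Fin n → F} {η : F}, z ≠ 0 → c z = η • z → η ≠ ξ → hermForm n F q z z = 0 →
        hermForm n F q x z = 0 → NS β := by
      intro z η hz0 hcz hne hzz hxz
      have hli : LinearIndependent F ![x, z] := by
        rw [LinearIndependent.pair_iff]
        intro a b hab
        have h3 := congrArg c hab
        rw [hc.semi.add, hc.semi.smul, hc.semi.smul, hcx, hcz, hc.semi.zero] at h3
        simp only [RingAut.one_apply] at h3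
        have h4 : (b * (η - ξ)) • z = 0 := by
          calc (b * (η - ξ)) • z = (a • ξ • x + b • η • z) - ξ • (a • x + b • z) := by module
            _ = 0 := by rw [h3, hab, smul_zero, sub_zero]
        have hb : b = 0 := (mul_eq_zero.1 ((smul_eq_zero.1 h4).resolve_right hz0)).resolve_right
          (sub_ne_zero.2 hne)
        rw [hb, zero_smul, add_zero] at hab
        exact ⟨(smul_eq_zero.1 hab).resolve_right hx0, hb⟩
      refine ns_of_pair hF (by omega) h2 hp hp5 hc hβ hcs hli hxx hzz hxz ?_ ?_ ?_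
      · rw [hcx]
        exact Submodule.smul_mem _ _ (Submodule.subset_span (by simp))
      · rw [hcz]
        exact Submodule.smul_mem _ _ (Submodule.subset_span (by simp))
      · rintro ⟨a, h3, h4⟩
        apply hne
        have e0 : ξ = a := by
          have : (ξ - a) • x = 0 := by rw [sub_smul, ← hcx, ← h3, sub_self]
          exact sub_eq_zero.1 ((smul_eq_zero.1 this).resolve_right hx0)
        have e1 : η = a := by
          have : (η - a) • z = 0 := by rw [sub_smul, ← hcz, ← h4, sub_self]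
          exact sub_eq_zero.1 ((smul_eq_zero.1 this).resolve_right hz0)
        exact e1.trans e0.symm
    by_cases hξζ : ζ = ξ
    · exact key hg0 hcg (fun h => hζi (hξζ.trans h.symm)) hgg hxg
    · exact key he0 hce hξζ hee hxe

end Cfsg.Agent.H957.InvU
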