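import Cfsg.Agent.H447.Rg.Chev

/-!
# S5714: the data for the small order estimate for subgroups of the Chevalley groups (twisted groups)
-/

set_option autoImplicit false

namespace Cfsg.Agent.H957.OrdSub

open Polynomial Cfsg.Lie Cfsg.Agent.ChevalleyStructure.Elts Cfsg.Agent.H447.Rg

theorem ord_sub {D : ChevalleyDatum} (hL : InList D) (hok : okD D = true) (F : Type) [Field F] [Fintype F]
    (H : Subgroup (GL D.Idx F)) (F' : Type) [Finite F'] (τ : F' → F) (hτ : Function.Injective τ)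
    (hx : ∀ s, (xG hL (D.nroots - 1) (τ s) : GL D.Idx F) ∈ H) (h0 : (xG hL 0 (1 : F) : GL D.Idx F) ∈ H) {q : ℕ}
    (hq : Nat.card F' = q) (hq1 : 1 ≤ q) : H141.Rg.OrdData ↥H q (1 / 248) 2 := by
  classical
  have hok' := hok
  rw [okD, Bool.and_eq_true, Bool.and_eq_true, Bool.and_eq_true, Bool.and_eq_true] at hok'
  obtain ⟨⟨⟨⟨a1, a2⟩, a3⟩, a4⟩, -⟩ := hok'
  have b1 := of_decide_eq_true a1
  have b2 := of_decide_eq_true a2
  have b3 : D.negIdx.getD (D.nroots - 1) 0 = 0 := beq_iff_eq.1 a3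
  have b4 : D.negIdx.getD 0 0 = D.nroots - 1 := beq_iff_eq.1 a4
  have hr : D.nroots - 1 < D.nroots := by omega
  set h : Fin D.nroots := ⟨D.nroots - 1, hr⟩ with hh
  set o : Fin D.nroots := ⟨0, by omega⟩ with ho
  have hoh : o ≠ h := by
    intro he
    have := congrArg Fin.val he
    change 0 = D.nroots - 1 at this
    omega
  let R : ↥H →* Matrix D.Idx D.Idx F := (Units.coeHom _).comp H.subtype
  have hex : ∃ g, R g (Sum.inr o) (Sum.inr h) ≠ 0 := by
    refine ⟨⟨xG hL 0 1, h0⟩, ?_⟩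
    have h1 : R ⟨xG hL 0 1, h0⟩ = D.xMat F o 1 := x_of_lt (by omega) (1 : F)
    rw [h1]
    show (if h = o then (if o = o then (1 : F) else 0) else if h.val = D.negIdx.getD o.val 0 then
      (if o = h then 1 else if o = o then -((1 : F) ^ 2) else 0) else _) ≠ 0
    rw [if_neg (Ne.symm hoh), if_pos (by rw [ho, hh]; exact b4.symm), if_neg hoh, if_pos rfl]
    simp
  refine ⟨F', inferInstance, fun t => ⟨xG hL (D.nroots - 1) (τ t), hx t⟩, {g | R g (Sum.inr o) (Sum.inr h) ≠ 0}, 2,
    ?_, hq, ?_, ?_, ?_⟩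
  · intro t u htu
    exact hτ (xG_injective hL hr (congrArg Subtype.val htu))
  · have h1 := card_entry R hex
    have h2 : Fintype.card D.Idx ≤ 248 := by
      rw [Fintype.card_sum, Fintype.card_fin, Fintype.card_fin]
      exact b2
    have h3 := h1.trans (Nat.mul_le_mul_right _ h2)
    have h4 : (Nat.card ↥H : ℝ) ≤ 248 * (Nat.card {g : ↥H // R g (Sum.inr o) (Sum.inr h) ≠ 0} : ℕ) := by
      exact_mod_cast h3
    have h5 : (Nat.card ({g | R g (Sum.inr o) (Sum.inr h) ≠ 0} : Set ↥H) : ℝ) =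
      (Nat.card {g : ↥H // R g (Sum.inr o) (Sum.inr h) ≠ 0} : ℕ) := rfl
    rw [h5]
    linarith
  · have h1 : (1 : ℝ) ≤ Real.sqrt q := by
      rw [Real.one_le_sqrt]
      exact_mod_cast hq1
    push_cast
    linarith
  · intro g hg m hm
    refine card_pow_eq_one_le R (fun t : F' => (⟨xG hL (D.nroots - 1) (τ t), hx t⟩ : ↥H)) τ
      hτ (pMat D F h) (D := 2) (by norm_num) (fun i j => (pMat_deg hok F h rfl i j).1) ?_
      (i0 := Sum.inr h) (j0 := Sum.inr o) ?_ ?_ g hg m hm
    · intro t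
      rw [pMat_eval]
      exact x_of_lt hr (τ t)
    · intro i j hij
      refine Polynomial.coeff_eq_zero_of_natDegree_lt (lt_of_le_of_lt ((pMat_deg hok F h rfl i j).2 ?_) (by norm_num))
      intro s hs hh'
      apply hij
      rw [hh'.1, hh'.2]
      have h6 : s = o := Fin.ext (by rw [hs]; exact b3)
      rw [h6]
    · have h7 : pMat D F h (Sum.inr h) (Sum.inr o) = -(X ^ 2) := by
        show (if o = h then (if h = h then (1 : F[X]) else 0) else if o.val = D.negIdx.getD h.val 0 then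
          (if h = o then 1 else if h = h then -((X : F[X]) ^ 2) else 0) else _) = _
        rw [if_neg hoh, if_pos (by rw [ho, hh]; exact b3.symm), if_neg (Ne.symm hoh), if_pos rfl]
      rw [h7]
      simp

end Cfsg.Agent.H957.OrdSub
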