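import Cfsg.Agent.H957.S5Rel
import Cfsg.Agent.H957.T5RowPSL
import Cfsg.Agent.H957.T5U1

/-!
# Strong pairs of `PSL_n(q)`: restriction to invariant subspaces (S2274)

`Lf y c` : the semilinear map `y` of `F ^ n` induces the automorphism `c` of `PSL_n(F)`.
`Ns k y` : `y` leaves a subspace of dimension `k` invariant and is not a scalar on it.
`pair_of_ns` : the strong row of `PSL_k(F)`, `2 ≤ k < n`, gives the strong pairs of automorphisms of
`PSL_n(F)` induced by maps satisfying `Ns k`.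
-/

set_option autoImplicit false
set_option linter.unusedSectionVars false

namespace Cfsg.Agent.H957.S5

open Matrix
open Cfsg.Agent.H957.T5V Cfsg.Agent.H957.T5Tr Cfsg.Agent.H957.T5Conf
open Cfsg.Agent.H957.T5U (Res exists_res)
open Cfsg.Agent.H199.PslAut
open Cfsg.Agent.ClassicalGeometry.AutPSL.Root
open Cfsg.Agent.ClassicalGeometry.AutPSL.Auto
open Cfsg.Agent.H897.MeetPSL
open Cfsg.Agent.H903.SylSemi (Ind scal scal_apply)
open Cfsg.Agent.H533.T5 Cfsg.Agent.H132.S5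

variable {F : Type} [Field F] [Fintype F] {n k p : ℕ}

local notation "PL" => fun n F => Matrix.ProjectiveSpecialLinearGroup (Fin n) F

/-- The projection. -/
abbrev prj (n : ℕ) (F : Type) [Field F] [Fintype F] :
    Matrix.SpecialLinearGroup (Fin n) F →* Matrix.ProjectiveSpecialLinearGroup (Fin n) F := pr

/-- `y` is a semilinear map inducing `c`. -/
structure Lf (y : Equiv.Perm (Fin n → F))
    (c : MulAut (Matrix.ProjectiveSpecialLinearGroup (Fin n) F)) : Prop where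
  semi : ∃ θ : F ≃+* F, Semi θ y
  ind : Ind (prj n F) (rho n F) y c

theorem finite_psl' (n : ℕ) (F : Type) [Field F] [Fintype F] :
    Finite (Matrix.ProjectiveSpecialLinearGroup (Fin n) F) := Quotient.finite _

theorem semi_rho (s : Matrix.SpecialLinearGroup (Fin n) F) :
    Semi (1 : F ≃+* F) (rho n F s) := by
  refine ⟨fun u v => ?_, fun b v => ?_⟩
  · rw [rho_apply, rho_apply, rho_apply, mulVec_add]
  · rw [rho_apply, rho_apply, mulVec_smul]
    rfl

theorem Lf.one : Lf (1 : Equiv.Perm (Fin n → F)) 1 := ⟨⟨1, Semi.one⟩, Ind.one _ _⟩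

theorem Lf.mul {y y' : Equiv.Perm (Fin n → F)}
    {c c' : MulAut (Matrix.ProjectiveSpecialLinearGroup (Fin n) F)} (h : Lf y c) (h' : Lf y' c') :
    Lf (y * y') (c * c') := by
  obtain ⟨⟨θ, h1⟩, h2⟩ := h
  obtain ⟨⟨θ', h1'⟩, h2'⟩ := h'
  exact ⟨⟨θ * θ', h1.mul h1'⟩, h2.mul h2'⟩

theorem Lf.pow {y : Equiv.Perm (Fin n → F)}
    {c : MulAut (Matrix.ProjectiveSpecialLinearGroup (Fin n) F)} (h : Lf y c) (m : ℕ) :
    Lf (y ^ m) (c ^ m) := by
  obtain ⟨⟨θ, h1⟩, h2⟩ := h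
  exact ⟨⟨θ ^ m, h1.pow m⟩, h2.pow m⟩

theorem Lf.inv {y : Equiv.Perm (Fin n → F)}
    {c : MulAut (Matrix.ProjectiveSpecialLinearGroup (Fin n) F)} (h : Lf y c) : Lf y⁻¹ c⁻¹ := by
  have := finite_psl' n F
  obtain ⟨⟨θ, h1⟩, h2⟩ := h
  exact ⟨⟨θ⁻¹, h1.inv⟩, h2.inv⟩

theorem lf_rho (s : Matrix.SpecialLinearGroup (Fin n) F) :
    Lf (rho n F s) (MulAut.conj (prj n F s)) := ⟨⟨1, semi_rho s⟩, Ind.conj _ _ s⟩

theorem exists_lf {y : Equiv.Perm (Fin n → F)} {θ : F ≃+* F} (h : Semi θ y) : ∃ c, Lf y c := by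
  obtain ⟨A, rfl⟩ := exists_smap (show Cfsg.Agent.H903.SylSemi.Semi F y θ from ⟨h.add, h.smul⟩)
  exact ⟨_, ⟨⟨θ, h⟩, ind_smap A θ⟩⟩

theorem exists_lf' (hn : 2 ≤ n) (hp : p.Prime) (hp2 : p ≠ 2)
    {c : MulAut (Matrix.ProjectiveSpecialLinearGroup (Fin n) F)} (hc : orderOf c = p) :
    ∃ y, Lf y c := by
  have : Fact p.Prime := ⟨hp⟩
  have hP : IsPGroup p ↥(Subgroup.zpowers c) :=
    IsPGroup.of_card (n := 1) (by rw [Nat.card_zpowers, hc, pow_one])
  obtain ⟨g, σ, rfl⟩ := form_of_pgroup hn hp2 hP (Subgroup.mem_zpowers c)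
  exact ⟨smap g σ, ⟨⟨σ, (semi_smap g σ).1, (semi_smap g σ).2⟩, ind_smap g σ⟩⟩

theorem Lf.unique {y : Equiv.Perm (Fin n → F)}
    {c c' : MulAut (Matrix.ProjectiveSpecialLinearGroup (Fin n) F)} (h : Lf y c) (h' : Lf y c') :
    c = c' := Ind.unique pr_surjective rho_injective h.ind h'.ind

/-- Scalars induce the identity. -/
theorem Lf.eq_one [Nontrivial (Fin n → F)] {y : Equiv.Perm (Fin n → F)}
    {c : MulAut (Matrix.ProjectiveSpecialLinearGroup (Fin n) F)} (h : Lf y c) (hy : IsScal F y) :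
    c = 1 := by
  obtain ⟨a, rfl⟩ := exists_scal hy
  exact Ind.unique pr_surjective rho_injective h.ind (ind_scal (fun s => semi_rho s) a)

/-- Only scalars induce the identity. -/
theorem Lf.scal (hn : 2 ≤ n) {y : Equiv.Perm (Fin n → F)} (h : Lf y 1) : IsScal F y := by
  obtain ⟨⟨θ, hθ⟩, hy⟩ := h
  obtain ⟨A, rfl⟩ := exists_smap (show Cfsg.Agent.H903.SylSemi.Semi F y θ from ⟨hθ.add, hθ.smul⟩)
  have h1 : Psi n F A * phi n F θ = 1 :=
    Ind.unique pr_surjective rho_injective (ind_smap A θ) hy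
  obtain ⟨⟨u, rfl⟩, h2⟩ := Psi_phi_eq hn (g := A) (σ := θ) (τ := 1) (by rw [h1, map_one])
  refine ⟨u, fun v => ?_⟩
  rw [smap_apply, h2, Cfsg.Agent.H199.PslAut.coe_scal]
  change (scalar (Fin n) (u : F)) *ᵥ v = (u : F) • v
  rw [Matrix.scalar_apply, Matrix.diagonal_const_mulVec]

theorem Lf.scal_iff (hn : 2 ≤ n) {y : Equiv.Perm (Fin n → F)}
    {c : MulAut (Matrix.ProjectiveSpecialLinearGroup (Fin n) F)} (h : Lf y c) :
    IsScal F y ↔ c = 1 := by
  have : Nonempty (Fin n) := ⟨⟨0, by omega⟩⟩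
  have : Nontrivial (Fin n → F) := Function.nontrivial
  constructor
  · exact h.eq_one
  · rintro rfl
    exact h.scal hn

theorem Lf.order (hn : 2 ≤ n) (hp : p.Prime) {y : Equiv.Perm (Fin n → F)}
    {c : MulAut (Matrix.ProjectiveSpecialLinearGroup (Fin n) F)} (h : Lf y c) :
    orderOf c = p ↔ IsScal F (y ^ p) ∧ ¬ IsScal F y := by
  rw [(h.pow p).scal_iff hn, h.scal_iff hn]
  have : Fact p.Prime := ⟨hp⟩
  constructor
  · intro hc
    refine ⟨by rw [← hc, pow_orderOf_eq_one], ?_⟩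
    rintro rfl
    rw [orderOf_one] at hc
    exact hp.one_lt.ne hc
  · rintro ⟨h1, h2⟩
    exact orderOf_eq_prime h1 h2

/-! ### Restriction -/

/-- The group of compatible data. -/
def RelG (ι : (Fin k → F) → (Fin n → F)) :
    Subgroup (Equiv.Perm (Fin n → F) × Equiv.Perm (Fin k → F) ×
      MulAut (Matrix.ProjectiveSpecialLinearGroup (Fin n) F) ×
      MulAut (Matrix.ProjectiveSpecialLinearGroup (Fin k) F)) where
  carrier := {r | Lf r.1 r.2.2.1 ∧ Lf r.2.1 r.2.2.2 ∧ Res ι r.1 r.2.1}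
  one_mem' := ⟨Lf.one, Lf.one, fun _ => rfl⟩
  mul_mem' := by
    rintro r r' ⟨h1, h2, h3⟩ ⟨h1', h2', h3'⟩
    exact ⟨h1.mul h1', h2.mul h2', h3.mul h3'⟩
  inv_mem' := by
    rintro r ⟨h1, h2, h3⟩
    exact ⟨h1.inv, h2.inv, h3.inv⟩

/-- The induced automorphism of `PSL_n(F)`. -/
def relA (ι : (Fin k → F) → (Fin n → F)) :
    RelG (F := F) ι →* MulAut (Matrix.ProjectiveSpecialLinearGroup (Fin n) F) where
  toFun r := r.1.2.2.1
  map_one' := rfl
  map_mul' _ _ := rfl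

/-- The induced automorphism of `PSL_k(F)`. -/
def relB (ι : (Fin k → F) → (Fin n → F)) :
    RelG (F := F) ι →* MulAut (Matrix.ProjectiveSpecialLinearGroup (Fin k) F) where
  toFun r := r.1.2.2.2
  map_one' := rfl
  map_mul' _ _ := rfl

theorem relB_eq_one (hk : 2 ≤ k) (hn : 2 ≤ n) {ι : (Fin k → F) → (Fin n → F)}
    (hsmul : ∀ (a : F) v, ι (a • v) = a • ι v)
    (hinj : Function.Injective ι) (r : RelG (F := F) ι) (h : relA ι r = 1) : relB ι r = 1 := by
  obtain ⟨⟨x, x0, a, a0⟩, h1, h2, h3⟩ := r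
  change a = 1 at h
  change a0 = 1
  have h1' : Lf x a := h1
  have h2' : Lf x0 a0 := h2
  have h3' : Res ι x x0 := h3
  obtain ⟨t, ht⟩ := (h1'.scal_iff hn).2 h
  exact (h2'.scal_iff hk).1 ⟨t, fun v => hinj (by rw [← h3', ht, hsmul])⟩

theorem relB_surj {ι : (Fin k → F) → (Fin n → F)}
    (hext : ∀ s : Matrix.SpecialLinearGroup (Fin k) F, ∃ t : Matrix.SpecialLinearGroup (Fin n) F,
      Res ι (rho n F t) (rho k F s)) (x : MulAut (Matrix.ProjectiveSpecialLinearGroup (Fin k) F))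
    (hx : x ∈ (MulAut.conj : Matrix.ProjectiveSpecialLinearGroup (Fin k) F →* MulAut _).range) :
    ∃ r : RelG (F := F) ι, relA ι r ∈
      (MulAut.conj : Matrix.ProjectiveSpecialLinearGroup (Fin n) F →* MulAut _).range ∧
      relB ι r = x := by
  obtain ⟨s, rfl⟩ := hx
  obtain ⟨s, rfl⟩ := (pr_surjective : Function.Surjective (prj k F)) s
  obtain ⟨t, ht⟩ := hext s
  exact ⟨⟨(rho n F t, rho k F s, MulAut.conj (prj n F t), MulAut.conj (prj k F s)),
    lf_rho t, lf_rho s, ht⟩, ⟨prj n F t, rfl⟩, rfl⟩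

theorem pair_of_res (hk : 2 ≤ k) (hn : 2 ≤ n) (hp : p.Prime) {ι : (Fin k → F) → (Fin n → F)}
    (hadd : ∀ u v, ι (u + v) = ι u + ι v) (hsmul : ∀ (a : F) v, ι (a • v) = a • ι v)
    (hinj : Function.Injective ι)
    (hext : ∀ s : Matrix.SpecialLinearGroup (Fin k) F, ∃ t : Matrix.SpecialLinearGroup (Fin n) F,
      Res ι (rho n F t) (rho k F s))
    {y z : Equiv.Perm (Fin n → F)} {y0 z0 : Equiv.Perm (Fin k → F)}
    {c d : MulAut (Matrix.ProjectiveSpecialLinearGroup (Fin n) F)} (hy : Lf y c) (hz : Lf z d)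
    (hy0 : Res ι y y0) (hz0 : Res ι z z0) (hc : orderOf c = p) (hd : orderOf d = p)
    (hyn : ¬ IsScal F y0) (hzn : ¬ IsScal F z0)
    (hrow : SRow p (Matrix.ProjectiveSpecialLinearGroup (Fin k) F)) :
    SPair p (MulAut.conj : Matrix.ProjectiveSpecialLinearGroup (Fin n) F →* MulAut _).range
      c d := by
  have key : ∀ {y : Equiv.Perm (Fin n → F)} {y0 : Equiv.Perm (Fin k → F)} {θ : F ≃+* F},
      Semi θ y → Res ι y y0 → Semi θ y0 := by
    intro y y0 θ hs hr
    refine ⟨fun u v => hinj ?_, fun a v => hinj ?_⟩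
    · rw [← hr, hadd, hs.add, hr, hr, hadd]
    · rw [← hr, hsmul, hs.smul, hr, hsmul]
  have hscal : ∀ {y : Equiv.Perm (Fin n → F)} {y0 : Equiv.Perm (Fin k → F)},
      Res ι y y0 → IsScal F y → IsScal F y0 := by
    rintro y y0 hr ⟨a, ha⟩
    exact ⟨a, fun v => hinj (by rw [← hr, ha, hsmul])⟩
  have hlow : ∀ {y : Equiv.Perm (Fin n → F)} {y0 : Equiv.Perm (Fin k → F)}
      {c : MulAut (Matrix.ProjectiveSpecialLinearGroup (Fin n) F)}, Lf y c → Res ι y y0 →
      orderOf c = p → ¬ IsScal F y0 → ∃ c0, Lf y0 c0 ∧ orderOf c0 = p := by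
    intro y y0 c h hr ho hns
    obtain ⟨θ, hθ⟩ := h.semi
    obtain ⟨c0, hc0⟩ := exists_lf (key hθ hr)
    exact ⟨c0, hc0, (hc0.order hk hp).2 ⟨hscal (hr.pow p) ((h.order hn hp).1 ho).1, hns⟩⟩
  obtain ⟨c0, hc0, hc0p⟩ := hlow hy hy0 hc hyn
  obtain ⟨d0, hd0, hd0p⟩ := hlow hz hz0 hd hzn
  obtain ⟨r, hr⟩ : ∃ r : RelG (F := F) ι, r = ⟨(y, y0, c, c0), hy, hc0, hy0⟩ := ⟨_, rfl⟩
  obtain ⟨r', hr'⟩ : ∃ r : RelG (F := F) ι, r = ⟨(z, z0, d, d0), hz, hd0, hz0⟩ := ⟨_, rfl⟩
  have e1 : relA ι r = c := by rw [hr]; rfl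
  have e2 : relA ι r' = d := by rw [hr']; rfl
  have e3 : relB ι r = c0 := by rw [hr]; rfl
  have e4 : relB ι r' = d0 := by rw [hr']; rfl
  have h := hrow c0 d0 hc0p hd0p
  rw [← e3, ← e4] at h
  have h' := spair_of_rel hp (relA ι) (relB ι) (relB_eq_one hk hn hsmul hinj)
    (relB_surj hext) h
  rwa [e1, e2] at h'

/-- `y` leaves a subspace of dimension `k` invariant and is not a scalar on it. -/
def Ns {V : Type} [AddCommGroup V] [Module F V] (k : ℕ) (y : Equiv.Perm V) : Prop :=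
  ∃ b : Fin k → V, LinearIndependent F b ∧
    (∀ w ∈ Submodule.span F (Set.range b), y w ∈ Submodule.span F (Set.range b)) ∧
    ¬ ∃ t : F, ∀ w ∈ Submodule.span F (Set.range b), y w = t • w

theorem exists_rho {g : (Fin n → F) ≃ₗ[F] (Fin n → F)} (hg : LinearEquiv.det g = 1) :
    ∃ s : Matrix.SpecialLinearGroup (Fin n) F, rho n F s = toA g := by
  have hd : (LinearMap.toMatrix' (g : (Fin n → F) →ₗ[F] (Fin n → F))).det = 1 := by
    rw [LinearMap.det_toMatrix', ← LinearEquiv.coe_det, hg, Units.val_one]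
  refine ⟨⟨LinearMap.toMatrix' (g : (Fin n → F) →ₗ[F] (Fin n → F)), hd⟩, ?_⟩
  ext v : 1
  refine (rho_apply _ v).trans ?_
  change (LinearMap.toMatrix' (g : (Fin n → F) →ₗ[F] (Fin n → F))) *ᵥ v = g v
  rw [LinearMap.toMatrix'_mulVec]
  rfl

/-- **Restriction to subspaces of dimension `k`.** -/
theorem pair_of_ns (hk : 2 ≤ k) (hkn : k < n) (hp : p.Prime) {y z : Equiv.Perm (Fin n → F)}
    {c d : MulAut (Matrix.ProjectiveSpecialLinearGroup (Fin n) F)} (hy : Lf y c) (hz : Lf z d)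
    (hc : orderOf c = p) (hd : orderOf d = p) (hyn : Ns (F := F) k y) (hzn : Ns (F := F) k z)
    (hrow : SRow p (Matrix.ProjectiveSpecialLinearGroup (Fin k) F)) :
    SPair p (MulAut.conj : Matrix.ProjectiveSpecialLinearGroup (Fin n) F →* MulAut _).range
      c d := by
  obtain ⟨b, hb, hyb, hyb'⟩ := hyn
  obtain ⟨a, ha, hza, hza'⟩ := hzn
  have hfin : k < Module.finrank F (Fin n → F) := by rw [Module.finrank_fin_fun]; exact hkn
  obtain ⟨g, hg, hgab⟩ := exists_sl_of_lt ha hb hfin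
  obtain ⟨s, hs⟩ := exists_rho hg
  -- coordinates
  let ι : (Fin k → F) →ₗ[F] (Fin n → F) := Fintype.linearCombination F b
  have hι : ∀ x, ι x = ∑ i, x i • b i := fun x => rfl
  have hinj : Function.Injective ι := by
    rw [injective_iff_map_eq_zero]
    intro x hx
    funext i
    exact Fintype.linearIndependent_iff.1 hb x hx i
  have hrange : ∀ x, ι x ∈ Submodule.span F (Set.range b) := by
    intro x
    rw [hι]
    exact Submodule.sum_mem _ fun i _ => Submodule.smul_mem _ _ (Submodule.subset_span ⟨i, rfl⟩)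
  have hmem : ∀ w ∈ Submodule.span F (Set.range b), ∃ x, w = ι x := by
    intro w hw
    rw [Submodule.mem_span_range_iff_exists_fun] at hw
    obtain ⟨x, hx⟩ := hw
    exact ⟨x, hx.symm⟩
  have hgspan : ∀ w ∈ Submodule.span F (Set.range b), ∃ w' ∈ Submodule.span F (Set.range a),
      g w' = w := by
    intro w hw
    obtain ⟨x, rfl⟩ := hmem w hw
    refine ⟨∑ i, x i • a i, Submodule.sum_mem _ fun i _ => Submodule.smul_mem _ _
      (Submodule.subset_span ⟨i, rfl⟩), ?_⟩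
    rw [map_sum, hι]
    exact Finset.sum_congr rfl fun i _ => by rw [map_smul, hgab]
  have hgspan' : ∀ w ∈ Submodule.span F (Set.range a), g w ∈ Submodule.span F (Set.range b) := by
    intro w hw
    rw [Submodule.mem_span_range_iff_exists_fun] at hw
    obtain ⟨x, rfl⟩ := hw
    rw [map_sum]
    exact Submodule.sum_mem _ fun i _ => by
      rw [map_smul, hgab]
      exact Submodule.smul_mem _ _ (Submodule.subset_span ⟨i, rfl⟩)
  have hz'' : Lf (rho n F s * z * (rho n F s)⁻¹)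
      (MulAut.conj (prj n F s) * d * (MulAut.conj (prj n F s))⁻¹) :=
    ((lf_rho s).mul hz).mul (lf_rho s).inv
  obtain ⟨z', hz'⟩ : ∃ z', z' = rho n F s * z * (rho n F s)⁻¹ := ⟨_, rfl⟩
  rw [← hz'] at hz''
  have hz'g : ∀ x, z' (g x) = g (z x) := by
    intro x
    rw [hz', hs, Equiv.Perm.mul_apply, Equiv.Perm.mul_apply, toA_inv_apply, toA_apply]
  obtain ⟨y0, hy0⟩ := exists_res (ι := ι) (x := y) hinj (fun v => hmem _ (hyb _ (hrange v)))
  obtain ⟨z0, hz0⟩ := exists_res (ι := ι) (x := z') hinj (fun v => by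
    obtain ⟨w', hw', h1⟩ := hgspan _ (hrange v)
    apply hmem
    rw [← h1, hz'g]
    exact hgspan' _ (hza _ hw'))
  refine SPair.conj_right (s := MulAut.conj (prj n F s)) ⟨prj n F s, rfl⟩ ?_
  refine pair_of_res hk (by omega) hp (ι := ι) (fun u v => map_add ι u v)
    (fun a v => map_smul ι a v) hinj ?_ hy hz'' hy0 hz0 hc ?_ ?_ ?_ hrow
  · intro t
    have hli : LinearIndependent F (fun j : Fin k => ι (rho k F t (Pi.single j 1))) := by
      have h1 : LinearIndependent F (fun j : Fin k => (t : Matrix (Fin k) (Fin k) F)ᵀ j) := by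
        have := (Matrix.linearIndependent_cols_iff_isUnit
          (A := (t : Matrix (Fin k) (Fin k) F))).2 (by
            rw [Matrix.isUnit_iff_isUnit_det, t.det_coe]
            exact isUnit_one)
        exact this
      have h2 := h1.map' ι (LinearMap.ker_eq_bot.2 hinj)
      have h3 : (fun j : Fin k => ι (rho k F t (Pi.single j 1)))
          = ι ∘ (fun j : Fin k => (t : Matrix (Fin k) (Fin k) F)ᵀ j) := by
        funext j
        rw [Function.comp_apply, rho_apply, Matrix.mulVec_single_one]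
        rfl
      rw [h3]
      exact h2
    obtain ⟨h, hh, hhb⟩ := exists_sl_of_lt hb hli hfin
    obtain ⟨s', hs'⟩ := exists_rho hh
    refine ⟨s', fun x => ?_⟩
    rw [hs', toA_apply, hι, map_sum]
    have h3 : x = ∑ j, x j • (Pi.single j 1 : Fin k → F) := by
      funext i
      simp [Finset.sum_apply, Pi.single_apply]
    conv_rhs => rw [h3]
    have h4 : rho k F t (∑ j, x j • (Pi.single j 1 : Fin k → F))
        = ∑ j, x j • rho k F t (Pi.single j 1) := by
      simp only [rho_apply]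
      rw [Matrix.mulVec_sum]
      exact Finset.sum_congr rfl fun j _ => Matrix.mulVec_smul _ _ _
    rw [h4, map_sum]
    exact Finset.sum_congr rfl fun j _ => by rw [map_smul, map_smul, hhb]
  · rw [← hd]
    exact orderOf_injective (MulAut.conj (MulAut.conj (prj n F s))).toMonoidHom
      (MulAut.conj _).injective d
  · rintro ⟨t, ht⟩
    apply hyb'
    refine ⟨t, fun w hw => ?_⟩
    obtain ⟨x, rfl⟩ := hmem w hw
    rw [hy0, ht, map_smul]
  · rintro ⟨t, ht⟩
    apply hza'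
    refine ⟨t, fun w hw => g.injective ?_⟩
    obtain ⟨x, hx⟩ := hmem _ (hgspan' w hw)
    rw [← hz'g, map_smul, hx, hz0, ht, map_smul]

end Cfsg.Agent.H957.S5
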