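import Cfsg.Agent.H957.T5Sp3
import Cfsg.Agent.H951.Iso

/-!
# Types of linear isometries of order `p` by the order of `q` modulo `p` (T5, row PSp)
-/

set_option autoImplicit false

namespace Cfsg.Agent.H957.T5S

open Cfsg.Agent.H957.T5V Cfsg.Agent.H957.T5Conf Cfsg.Agent.H957.T5Pairs
open Cfsg.Agent.H957.T5U (exists_cyc_factor)
open Cfsg.Agent.H957.InvU (blk mem_blk blk_inv self_mem_blk aeval_blk blk_irr finrank_blk)
open Polynomial

variable {F V : Type} [Field F] [AddCommGroup V] [Module F V]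
variable {B : LinearMap.BilinForm F V} {p : ℕ} {τ : F ≃+* F} {c d : Equiv.Perm V}

theorem li3_of_irr {f : Module.End F V} {P : F[X]} (hirr : Irreducible P) {v : V}
    (hPv : aeval f P v = 0) (hv0 : v ≠ 0) (h3 : 3 ≤ P.natDegree) :
    LinearIndependent F ![v, f v, f (f v)] := by
  rw [li3_iff]
  intro x y z h
  let R : F[X] := C x + C y * X + C z * X ^ 2
  have hR : aeval f R v = 0 := by
    rw [← h]
    simp only [R, map_add, map_mul, aeval_C, aeval_X, LinearMap.add_apply,
      Module.End.mul_apply, Module.algebraMap_end_apply, pow_two]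
  have hdvd : P ∣ R := by
    by_contra hcon
    obtain ⟨A, B, hAB⟩ := (hirr.coprime_iff_not_dvd (n := R)).2 hcon
    apply hv0
    have := congrArg (fun r => aeval f r v) hAB
    simp only [map_add, LinearMap.add_apply, map_one, Module.End.one_apply, map_mul,
      Module.End.mul_apply, hR, hPv, map_zero, add_zero] at this
    exact this.symm
  have hdeg : R.degree < P.degree := by
    rw [Polynomial.degree_eq_natDegree hirr.ne_zero]
    have h4 : R.degree ≤ 2 := by
      have : R = C z * X ^ 2 + C y * X + C x := by simp only [R]; ring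
      rw [this]
      exact degree_quadratic_le
    exact lt_of_le_of_lt h4 (by exact_mod_cast (show 2 < P.natDegree by omega))
  have hR0 : R = 0 := eq_zero_of_dvd_of_degree_lt hdvd hdeg
  refine ⟨?_, ?_, ?_⟩
  · have := congrArg (fun r => coeff r 0) hR0
    simpa [R] using this
  · have := congrArg (fun r => coeff r 1) hR0
    simpa [R, coeff_X, coeff_C] using this
  · have := congrArg (fun r => coeff r 2) hR0
    simpa [R, coeff_X, coeff_C] using this

theorem dvd_of_even {q : ℕ} (hp : p.Prime) {k : ℕ} (hk : 0 < k)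
    (he : orderOf (q : ZMod p) = 2 * k) : p ∣ q ^ k + 1 := by
  have : Fact p.Prime := ⟨hp⟩
  rw [← ZMod.natCast_eq_zero_iff]
  push_cast
  have h1 : ((q : ZMod p) ^ k) ^ 2 = 1 := by
    rw [← pow_mul, mul_comm, ← he, pow_orderOf_eq_one]
  have h2 : (q : ZMod p) ^ k ≠ 1 := by
    intro h
    have := Nat.le_of_dvd hk (orderOf_dvd_of_pow_eq_one h)
    omega
  have h3 : ((q : ZMod p) ^ k - 1) * ((q : ZMod p) ^ k + 1) = 0 := by linear_combination h1
  exact (mul_eq_zero.1 h3).resolve_left (sub_ne_zero.2 h2)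

variable [Fintype F]

/-- `orderOf q = 2`. -/
theorem gm_two [FiniteDimensional F V] (hB : B.Nondegenerate) (hA : B.IsAlt) (hp : p.Prime)
    (hp2 : p ≠ 2) (hpF : (p : F) ≠ 0) (he : orderOf ((Fintype.card F : ℕ) : ZMod p) = 2)
    (h : LI1 B p c) : Gm B hyp c := by
  obtain ⟨f, hf, hfm, hfB, hfp, hf1⟩ := h.get
  obtain ⟨P, hP, hPd, u, hu, hPu⟩ := exists_cyc_factor hp hfp hf1
  have hdeg : P.natDegree = 2 := (natDegree_cyc hp hpF hP hPd).trans he
  obtain ⟨m, hm⟩ := dvd_of_even hp one_pos he
  obtain ⟨w, hPw, hww⟩ := exists_w (j := 1) hB hA hfB (by rw [hm, pow_mul, hfp, one_pow]) hp hp2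
    hpF hfp hPd hu hPu
  have hw0 : w ≠ 0 := by
    rintro rfl
    exact hww (map_zero _)
  have h0 : ∀ x, B x x = 0 := hA
  have hsw : ∀ x y, B x y = -B y x := fun x y => (LinearMap.IsAlt.neg hA y x).symm
  set s := B (f w) w with hs
  have hli : LinearIndependent F ![s⁻¹ • f w, w] := by
    rw [li2_iff]
    intro x y hxy
    have h1 := congrArg (fun v => B v w) hxy
    have h2 := congrArg (fun v => B (f w) v) hxy
    simp only [map_add, map_smul, LinearMap.add_apply, LinearMap.smul_apply, smul_eq_mul, h0,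
      ← hs, map_zero, LinearMap.zero_apply, mul_zero, add_zero, zero_add] at h1 h2
    rw [inv_mul_cancel₀ hww, mul_one] at h1
    exact ⟨h1, (mul_eq_zero.1 h2).resolve_right hww⟩
  refine gm_of_sub hli ?_ (W := blk f w) ?_ (fun v hv => by rw [← hf]; exact blk_inv hv) ?_
  · intro k l
    fin_cases k <;> fin_cases l <;> simp only [Fin.zero_eta, Fin.mk_one, hyp,
      Matrix.cons_val_zero, Matrix.cons_val_one, h0]
    · rw [map_smul, LinearMap.smul_apply, ← hs, smul_eq_mul, inv_mul_cancel₀ hww]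
    · rw [map_smul, hsw, ← hs, smul_eq_mul, mul_neg, inv_mul_cancel₀ hww]
  · apply Submodule.eq_of_le_of_finrank_eq
    · rw [Submodule.span_le]
      rintro _ ⟨k, rfl⟩
      fin_cases k
      · exact Submodule.smul_mem _ _ (blk_inv self_mem_blk)
      · exact self_mem_blk
    · rw [finrank_span_eq_card hli, Fintype.card_fin, finrank_blk hP hPw hw0, hdeg]
  · rintro ⟨t, ht⟩
    have h1 := ht w self_mem_blk
    apply hww
    rw [hs, hf, h1, map_smul, LinearMap.smul_apply, h0, smul_zero]

/-- `orderOf q` is odd and at least three. -/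
theorem gm_odd [FiniteDimensional F V] (hA : B.IsAlt) (hp : p.Prime)
    (hpF : (p : F) ≠ 0) {e : ℕ} (he : orderOf ((Fintype.card F : ℕ) : ZMod p) = e)
    (heo : Odd e) (he3 : 3 ≤ e) (h : LI1 B p c) : Gm B (fun _ _ : Fin e => 0) c := by
  obtain ⟨f, hf, hfm, hfB, hfp, hf1⟩ := h.get
  obtain ⟨P, hP, hPd, w, hw, hPw⟩ := exists_cyc_factor hp hfp hf1
  have hdeg : P.natDegree = e := (natDegree_cyc hp hpF hP hPd).trans he
  have hfin : Module.finrank F (blk f w) = e := by rw [finrank_blk hP hPw hw, hdeg]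
  have h0 : ∀ x, B x x = 0 := hA
  have hsw : ∀ x y, B x y = -B y x := fun x y => (LinearMap.IsAlt.neg hA y x).symm
  -- the radical
  let R : Submodule F V :=
    { carrier := {u | u ∈ blk f w ∧ ∀ v ∈ blk f w, B u v = 0}
      add_mem' := fun {a b} ha hb => ⟨Submodule.add_mem _ ha.1 hb.1, fun v hv => by
        rw [map_add, LinearMap.add_apply, ha.2 v hv, hb.2 v hv, add_zero]⟩
      zero_mem' := ⟨Submodule.zero_mem _, fun v _ => by rw [map_zero]; rfl⟩
      smul_mem' := fun a u hu => ⟨Submodule.smul_mem _ _ hu.1, fun v hv => by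
        rw [map_smul, LinearMap.smul_apply, hu.2 v hv, smul_zero]⟩ }
  have hpw : ∀ m v, v ∈ blk f w → (f ^ m) v ∈ blk f w := by
    intro m
    induction m with
    | zero => intro v hv; exact hv
    | succ m ih => intro v hv; rw [pow_succ']; exact blk_inv (ih v hv)
  have hRf : ∀ u ∈ R, f u ∈ R := by
    rintro u ⟨hu, hu'⟩
    refine ⟨blk_inv hu, fun v hv => ?_⟩
    have h1 : v = f ((f ^ (p - 1)) v) := by
      have h2 : f ((f ^ (p - 1)) v) = (f ^ (p - 1 + 1)) v := by rw [pow_succ']; rfl
      rw [h2, Nat.sub_add_cancel hp.pos, hfp]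
      rfl
    rw [h1, hfB]
    exact hu' _ (hpw _ _ hv)
  have hTI : ∀ u ∈ blk f w, ∀ v ∈ blk f w, B u v = 0 := by
    rcases blk_irr hP hPw hRf (fun u hu => hu.1) with hR | hR
    · exfalso
      have hFrm : Cfsg.Agent.H951.Frm (RingHom.id F) (-1 : F) (fun u v => B u v) :=
        { add_left := fun u v w => by rw [map_add, LinearMap.add_apply]
          smul_left := fun a u v => by rw [map_smul, LinearMap.smul_apply, smul_eq_mul]
          herm := fun u v => by rw [hsw v u, neg_one_mul, RingHom.id_apply]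
          sigma_sq := fun a => rfl
          eps_ne := neg_ne_zero.2 one_ne_zero }
      have h1 := Cfsg.Agent.H951.even_finrank_of_alt hFrm h0 (U := blk f w) (by
        intro u hu hu0
        by_contra hcon
        push Not at hcon
        have : u ∈ R := ⟨hu, hcon⟩
        rw [hR, Submodule.mem_bot] at this
        exact hu0 this)
      rw [hfin] at h1
      exact (Nat.not_even_iff_odd.2 heo) h1
    · intro u hu
      rw [← hR] at hu
      exact hu.2
  let b := Module.finBasisOfFinrankEq F (blk f w) hfin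
  have hli : LinearIndependent F (fun i => (b i : V)) :=
    b.linearIndependent.map' (blk f w).subtype (Submodule.ker_subtype _)
  refine gm_of_sub hli (fun i j => hTI _ (b i).2 _ (b j).2) (W := blk f w) ?_
    (fun v hv => by rw [← hf]; exact blk_inv hv) ?_
  · apply Submodule.eq_of_le_of_finrank_eq
    · rw [Submodule.span_le]
      rintro _ ⟨k, rfl⟩
      exact (b k).2
    · rw [finrank_span_eq_card hli, Fintype.card_fin, hfin]
  · rintro ⟨t, ht⟩
    have h1 := ht w self_mem_blk
    rw [← hf] at h1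
    have h2 := li3_of_irr hP hPw hw (by rw [hdeg]; exact he3)
    rw [li3_iff] at h2
    have h3 := h2 (-t) 1 0 (by rw [h1]; module)
    exact one_ne_zero h3.2.1

/-- `orderOf q` is even and at least four. -/
theorem dt_even (hB : B.Nondegenerate) (hA : B.IsAlt) (hp : p.Prime)
    (hp2 : p ≠ 2) (hpF : (p : F) ≠ 0) {k : ℕ} (hk : 2 ≤ k)
    (he : orderOf ((Fintype.card F : ℕ) : ZMod p) = 2 * k) (h : LI1 B p c) : Dt B c := by
  obtain ⟨f, hf, hfm, hfB, hfp, hf1⟩ := h.get
  obtain ⟨P, hP, hPd, u, hu, hPu⟩ := exists_cyc_factor hp hfp hf1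
  have hdeg : P.natDegree = 2 * k := (natDegree_cyc hp hpF hP hPd).trans he
  obtain ⟨m, hm⟩ := dvd_of_even hp (by omega) he
  have hN : f ^ (Fintype.card F ^ k + 1) = 1 := by rw [hm, pow_mul, hfp, one_pow]
  obtain ⟨w, hPw, hww⟩ := exists_w (j := k) hB hA hfB hN hp hp2 hpF hfp hPd hu hPu
  intro T1 T2 hT
  obtain ⟨v, hPv, h1, h2⟩ := data hA hfB hN hP hPw hww (by omega) T1 T2
  have hv0 : v ≠ 0 := by
    rintro rfl
    rw [map_zero] at h1 h2
    rcases hT with hT | hT
    · exact hT h1.symm
    · exact hT h2.symm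
  have h3 := li3_of_irr hP hPv hv0 (by omega)
  simp only [hf] at h1 h2 h3
  exact ⟨v, h1, h2, h3⟩

end Cfsg.Agent.H957.T5S
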