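import Cfsg.Agent.H957.T5U4
import Cfsg.Agent.H967.CopMat

/-!
# The fixed field of a field automorphism of odd prime order (T5, row PSU)
-/

set_option autoImplicit false

namespace Cfsg.Agent.H957.T5U

open Cfsg Cfsg.Agent.LieClassical.HermBasic Cfsg.Agent.LieClassical.HermSiegel
open Cfsg.Agent.H967.CopMat (Fx mem_Fx card_Fx)

variable {F : Type} [Field F] [Fintype F] {n q p : ℕ} {θ : F ≃+* F}

theorem exists_q0 (hF : Fintype.card F = q ^ 2) (hp : p.Prime) (hp2 : p ≠ 2)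
    (hθ : orderOf θ = p) : ∃ q0 : ℕ, q = q0 ^ p ∧ Nat.card (Fx θ) = q0 ^ 2 := by
  obtain ⟨k, hk⟩ := hp.odd_of_ne_two hp2
  have h1 := card_Fx θ
  rw [hθ, Nat.card_eq_fintype_card, hF] at h1
  set f := Nat.card (Fx θ) with hf
  have hf0 : 0 < f := Nat.card_pos
  have hd : f ^ k ∣ q := by
    have h2 : (f ^ k) ^ 2 ∣ q ^ 2 := by
      rw [h1, hk, ← pow_mul]
      exact pow_dvd_pow _ (by omega)
    exact (Nat.pow_dvd_pow_iff two_ne_zero).1 h2
  obtain ⟨q0, hq0⟩ := hd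
  have hfk : 0 < (f ^ k) ^ 2 := by positivity
  have h3 : f = q0 ^ 2 := by
    have h4 : (f ^ k) ^ 2 * q0 ^ 2 = (f ^ k) ^ 2 * f := by
      rw [← mul_pow, ← hq0, h1, hk, ← pow_mul]
      ring
    exact (Nat.eq_of_mul_eq_mul_left hfk h4).symm
  refine ⟨q0, ?_, h3⟩
  rw [hq0, h3, hk, ← pow_mul]
  ring

omit [Fintype F] in
theorem pow_q_eq {q0 : ℕ} [Fintype (Fx θ)] (hp2 : Odd p) (hq : q = q0 ^ p)
    (h0 : Fintype.card (Fx θ) = q0 ^ 2) (x : Fx θ) : ((x ^ q0 : Fx θ) : F) = (x : F) ^ q := by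
  have h1 : x ^ q = x ^ q0 := by
    obtain ⟨j, rfl⟩ := hp2
    rw [hq, pow_succ, pow_mul, pow_mul q0 2 j, ← h0, FiniteField.pow_card_pow]
  rw [← h1]
  rfl

section

variable (hF : Fintype.card F = q ^ 2) (hp : p.Prime) (hp2 : p ≠ 2) (hθ : orderOf θ = p)

include hF hp hp2 hθ

theorem h90_fix {l : F} (hl : θ l = l) (hll : l * l ^ q = 1) :
    ∃ y, y ≠ 0 ∧ θ y = y ∧ l * y ^ q = y := by
  obtain ⟨q0, hq, h0⟩ := exists_q0 hF hp hp2 hθ
  have : Fintype (Fx θ) := Fintype.ofFinite _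
  rw [Nat.card_eq_fintype_card] at h0
  have hpow := pow_q_eq (hp.odd_of_ne_two hp2) hq h0
  obtain ⟨y, hy0, hy⟩ := ClassicalGeometry.HermWitt.hilbert90 ((conj h0 : Fx θ ≃+* Fx θ) : Fx θ →+* Fx θ)
    (Cfsg.Agent.H77.Witt.conj_ne h0) (fun a => pow_q_pow_q h0 a) (⟨l, hl⟩ : Fx θ) (by
      apply Subtype.ext
      change l * (((⟨l, hl⟩ : Fx θ) ^ q0 : Fx θ) : F) = 1
      rw [hpow]
      exact hll)
  refine ⟨y, fun h => hy0 (Subtype.ext h), y.2, ?_⟩
  have h1 := congrArg (fun x : Fx θ => (x : F)) hy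
  change l * (((y ^ q0 : Fx θ)) : F) = y at h1
  rwa [hpow] at h1

theorem norm_fix {a : F} (ha0 : a ≠ 0) (ha : θ a = a) (haq : a ^ q = a) :
    ∃ y, y ≠ 0 ∧ θ y = y ∧ y * y ^ q = a := by
  obtain ⟨q0, hq, h0⟩ := exists_q0 hF hp hp2 hθ
  have : Fintype (Fx θ) := Fintype.ofFinite _
  rw [Nat.card_eq_fintype_card] at h0
  have hpow := pow_q_eq (hp.odd_of_ne_two hp2) hq h0
  obtain ⟨y, hy0, hy⟩ := exists_norm_eq_ne h0 (c := (⟨a, ha⟩ : Fx θ)) (by
      apply Subtype.ext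
      rw [hpow]
      exact haq) (fun h => ha0 (congrArg (fun x : Fx θ => (x : F)) h))
  refine ⟨y, fun h => hy0 (Subtype.ext h), y.2, ?_⟩
  have h1 := congrArg (fun x : Fx θ => (x : F)) hy
  change (y : F) * (((y ^ q0 : Fx θ)) : F) = a at h1
  rwa [hpow] at h1

theorem exists_tau : ∃ t, θ t = t ∧ t ^ q ≠ t := by
  obtain ⟨q0, hq, h0⟩ := exists_q0 hF hp hp2 hθ
  have : Fintype (Fx θ) := Fintype.ofFinite _
  rw [Nat.card_eq_fintype_card] at h0
  have hpow := pow_q_eq (hp.odd_of_ne_two hp2) hq h0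
  obtain ⟨y, hy⟩ := exists_not_fixed h0
  refine ⟨y, y.2, fun h => hy (Subtype.ext ?_)⟩
  rw [hpow, h]

theorem exists_moved : ∃ w : F, w * w ^ q = 1 ∧ θ w ≠ w := by
  obtain ⟨q0, hq, h0⟩ := exists_q0 hF hp hp2 hθ
  have : Fintype (Fx θ) := Fintype.ofFinite _
  rw [Nat.card_eq_fintype_card] at h0
  have hpow := pow_q_eq (hp.odd_of_ne_two hp2) hq h0
  by_contra hcon
  push Not at hcon
  have h1 : Nat.card {x : F // x * x ^ q = 1} ≤ Nat.card {x : Fx θ // x * x ^ q0 = 1} := by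
    refine Nat.card_le_card_of_injective
      (fun x => ⟨⟨x.1, hcon x.1 x.2⟩, Subtype.ext ?_⟩) (fun x y h => ?_)
    · change (x.1 : F) * (((⟨x.1, hcon x.1 x.2⟩ : Fx θ) ^ q0 : Fx θ) : F) = 1
      rw [hpow]
      exact x.2
    · apply Subtype.ext
      exact congrArg (fun z : {x : Fx θ // x * x ^ q0 = 1} => ((z : Fx θ) : F)) h
  rw [card_norm_eq_one hF, card_norm_eq_one h0] at h1
  have h2 := two_le h0
  have h3 : q0 ^ 1 < q0 ^ p := Nat.pow_lt_pow_right (by omega) hp.one_lt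
  rw [pow_one, ← hq] at h3
  omega

theorem exists_nu (h3 : q ≠ 2 ^ p) : ∃ ν : F, ν ≠ 0 ∧ ν ≠ 1 ∧ θ ν = ν ∧ ν ^ q = ν := by
  obtain ⟨q0, hq, h0⟩ := exists_q0 hF hp hp2 hθ
  have : Fintype (Fx θ) := Fintype.ofFinite _
  rw [Nat.card_eq_fintype_card] at h0
  have hpow := pow_q_eq (hp.odd_of_ne_two hp2) hq h0
  have hq2 := two_le h0
  have hq3 : q0 ≠ 2 := by rintro rfl; exact h3 hq
  by_contra hcon
  push Not at hcon
  classical
  have h1 : Nat.card {x : Fx θ // x ^ q0 = x} ≤ Nat.card (Fin 2) := by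
    refine Nat.card_le_card_of_injective
      (fun x => if (x : Fx θ) = 0 then (0 : Fin 2) else 1) (fun x y h => ?_)
    have key : ∀ x : {x : Fx θ // x ^ q0 = x}, (x : Fx θ) ≠ 0 → (x : Fx θ) = 1 := by
      intro x hx
      by_contra hx1
      refine hcon ((x : Fx θ) : F) (fun h => hx (Subtype.ext h)) (fun h => hx1 (Subtype.ext h))
        x.1.2 ?_
      rw [← hpow, x.2]
    apply Subtype.ext
    by_cases hx : (x : Fx θ) = 0 <;> by_cases hy : (y : Fx θ) = 0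
    · rw [hx, hy]
    · simp [hx, hy] at h
    · simp [hx, hy] at h
    · rw [key x hx, key y hy]
  rw [card_fixed h0, Nat.card_fin] at h1
  omega

end

omit [Fintype F] in
theorem exists_nu_one [Fintype F] (hF : Fintype.card F = q ^ 2) (h2 : q ≠ 2) :
    ∃ ν : F, ν ≠ 0 ∧ ν ≠ 1 ∧ ν ^ q = ν := by
  classical
  have hq2 := two_le hF
  by_contra hcon
  push Not at hcon
  have h1 : Nat.card {x : F // x ^ q = x} ≤ Nat.card (Fin 2) := by
    refine Nat.card_le_card_of_injective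
      (fun x => if (x : F) = 0 then (0 : Fin 2) else 1) (fun x y h => ?_)
    have key : ∀ x : {x : F // x ^ q = x}, (x : F) ≠ 0 → (x : F) = 1 := by
      intro x hx
      by_contra hx1
      exact hcon (x : F) hx hx1 x.2
    apply Subtype.ext
    by_cases hx : (x : F) = 0 <;> by_cases hy : (y : F) = 0
    · rw [hx, hy]
    · simp [hx, hy] at h
    · simp [hx, hy] at h
    · rw [key x hx, key y hy]
  rw [card_fixed hF, Nat.card_fin] at h1
  omega

end Cfsg.Agent.H957.T5U
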