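import Cfsg.Agent.H957.S5Psl1
import Cfsg.Agent.H957.T5Sp4
import Cfsg.Agent.H957.T5U7

/-!
# Types of semilinear maps of order `p` modulo scalars: invariant subspaces (S2274)
-/

set_option autoImplicit false
set_option linter.unusedSectionVars false

namespace Cfsg.Agent.H957.S5

open Polynomial
open Cfsg.Agent.H957.T5V Cfsg.Agent.H957.T5Conf Cfsg.Agent.H957.T5Pairs
open Cfsg.Agent.H957.T5U (exists_cyc_factor)
open Cfsg.Agent.H957.T5S (natDegree_cyc)
open Cfsg.Agent.H957.InvU (blk mem_blk blk_inv self_mem_blk aeval_blk blk_irr finrank_blk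
  dvd_of_aeval)

variable {F V : Type} [Field F] [Fintype F] [AddCommGroup V] [Module F V] [FiniteDimensional F V]
variable {p k : ℕ} {θ : F ≃+* F} {y : Equiv.Perm V}

theorem ns_smulA {s : Fˣ} (h : Ns (F := F) k (smulA s y)) : Ns (F := F) k y := by
  obtain ⟨b, hb, h1, h2⟩ := h
  have h3 : ∀ v, y v = ((s : F))⁻¹ • smulA s y v := fun v => by
    rw [smulA_apply, inv_smul_smul₀ s.ne_zero]
  refine ⟨b, hb, fun w hw => ?_, ?_⟩
  · rw [h3]
    exact Submodule.smul_mem _ _ (h1 w hw)
  · rintro ⟨t, ht⟩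
    apply h2
    refine ⟨s * t, fun w hw => ?_⟩
    rw [smulA_apply, ht w hw, smul_smul]

/-- Subspaces with a basis. -/
theorem ns_of_sub {W : Submodule F V} (hW : Module.finrank F W = k) (h1 : ∀ w ∈ W, y w ∈ W)
    (h2 : ¬ ∃ t : F, ∀ w ∈ W, y w = t • w) : Ns (F := F) k y := by
  let b := Module.finBasisOfFinrankEq F W hW
  have hli : LinearIndependent F (fun i => (b i : V)) :=
    b.linearIndependent.map' W.subtype (Submodule.ker_subtype _)
  have hspan : Submodule.span F (Set.range fun i => (b i : V)) = W := by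
    apply Submodule.eq_of_le_of_finrank_eq
    · rw [Submodule.span_le]
      rintro _ ⟨i, rfl⟩
      exact (b i).2
    · rw [finrank_span_eq_card hli, Fintype.card_fin, hW]
  refine ⟨fun i => (b i : V), hli, ?_, ?_⟩
  · rw [hspan]; exact h1
  · rw [hspan]; exact h2

/-- Semilinear maps. -/
theorem ns_semi (hp : p.Prime) (hy : Semi θ y) (hθ : orderOf θ = p) (hyp : y ^ p = 1)
    (hk : 1 ≤ k) (hkn : k ≤ Module.finrank F V) : Ns (F := F) k y := by
  obtain ⟨b, hli, hb⟩ := exists_fixed_basis hp.pos hy hθ hyp hkn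
  refine ⟨b, hli, ?_, ?_⟩
  · intro w hw
    induction hw using Submodule.span_induction with
    | mem x hx =>
      obtain ⟨i, rfl⟩ := hx
      rw [hb]
      exact Submodule.subset_span ⟨i, rfl⟩
    | zero => rw [hy.zero]; exact Submodule.zero_mem _
    | add x x' _ _ hx hx' => rw [hy.add]; exact Submodule.add_mem _ hx hx'
    | smul a x _ hx => rw [hy.smul]; exact Submodule.smul_mem _ _ hx
  · rintro ⟨t, ht⟩
    have h1 : θ ≠ 1 := by
      intro h
      rw [h, orderOf_one] at hθ
      exact hp.one_lt.ne hθ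
    apply h1
    ext a
    have hm : b ⟨0, hk⟩ ∈ Submodule.span F (Set.range b) := Submodule.subset_span ⟨_, rfl⟩
    have h2 := ht _ hm
    have h3 := ht _ (Submodule.smul_mem _ a hm)
    rw [hb] at h2
    have hne := hli.ne_zero ⟨0, hk⟩
    have h4 : (1 - t) • b ⟨0, hk⟩ = 0 := by rw [sub_smul, one_smul, ← h2, sub_self]
    have h5 : t = 1 := (sub_eq_zero.1 ((smul_eq_zero.1 h4).resolve_right hne)).symm
    rw [h5, one_smul, hy.smul, hb] at h3
    have h6 : (θ a - a) • b ⟨0, hk⟩ = 0 := by rw [sub_smul, h3, sub_self]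
    exact sub_eq_zero.1 ((smul_eq_zero.1 h6).resolve_right hne)

/-- Diagonalisable maps. -/
theorem ns_diag (hp : p.Prime) (hq : p ∣ Fintype.card F - 1) (hy : Semi (1 : F ≃+* F) y)
    (hyp : y ^ p = 1) (hyn : ¬ IsScal F y) (hk : 2 ≤ k) (hkn : k ≤ Module.finrank F V) :
    Ns (F := F) k y := by
  classical
  have : Fact p.Prime := ⟨hp⟩
  obtain ⟨f, hf, -⟩ := exists_end hy
  have hfp : (f : Module.End F V) ^ p = ((1 : F) ^ p) • (1 : Module.End F V) := by
    ext v
    rw [pow_end hf, hyp, one_pow, one_smul]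
    rfl
  obtain ⟨b, a, hb⟩ := Cfsg.Agent.H957.T5Lin.exists_eigenbasis
    (κ := Fin (Module.finrank F V)) (by rw [Nat.card_eq_fintype_card]; exact hq) one_ne_zero hfp
    (Fintype.card_fin _)
  have hb' : ∀ i, y (b i) = a i • b i := fun i => by rw [← hf]; exact hb i
  obtain ⟨i, j, hij⟩ : ∃ i j, a i ≠ a j := by
    by_contra hcon
    push Not at hcon
    apply hyn
    have h0 : 0 < Module.finrank F V := by omega
    refine ⟨a ⟨0, h0⟩, fun v => ?_⟩
    have h1 : (f : Module.End F V) = a ⟨0, h0⟩ • (1 : Module.End F V) :=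
      b.ext fun i => by
        rw [hb, hcon i ⟨0, h0⟩]
        rfl
    have h2 := LinearMap.congr_fun h1 v
    rw [← hf]
    exact h2
  have hne : i ≠ j := by
    rintro rfl
    exact hij rfl
  obtain ⟨s, hs, hsk⟩ : ∃ s : Finset (Fin (Module.finrank F V)), {i, j} ⊆ s ∧ s.card = k := by
    obtain ⟨s, hs1, hs2⟩ := Finset.exists_superset_card_eq (s := {i, j}) (n := k)
      (by rw [Finset.card_pair hne]; exact hk) (by rw [Fintype.card_fin]; exact hkn)
    exact ⟨s, hs1, hs2⟩
  let e := s.orderEmbOfFin hsk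
  have hsr : ∀ l ∈ s, ∃ m, e m = l := by
    intro l hl
    have h1 : l ∈ Set.range e := by
      rw [Finset.range_orderEmbOfFin]
      exact hl
    exact h1
  obtain ⟨i', hi'⟩ := hsr i (hs (by simp))
  obtain ⟨j', hj'⟩ := hsr j (hs (by simp))
  refine ⟨fun m => b (e m), b.linearIndependent.comp _ e.injective, ?_, ?_⟩
  · intro w hw
    induction hw using Submodule.span_induction with
    | mem x hx =>
      obtain ⟨m, rfl⟩ := hx
      change y (b _) ∈ _
      rw [hb']
      exact Submodule.smul_mem _ _ (Submodule.subset_span ⟨m, rfl⟩)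
    | zero => rw [hy.zero]; exact Submodule.zero_mem _
    | add x x' _ _ hx hx' => rw [hy.add]; exact Submodule.add_mem _ hx hx'
    | smul c x _ hx => rw [hy.smul]; exact Submodule.smul_mem _ _ hx
  · rintro ⟨t, ht⟩
    have h1 := ht (b i) (Submodule.subset_span ⟨i', by simp only [hi']⟩)
    have h2 := ht (b j) (Submodule.subset_span ⟨j', by simp only [hj']⟩)
    rw [hb'] at h1 h2
    apply hij
    have e1 : (a i - t) • b i = 0 := by rw [sub_smul, h1, sub_self]
    have e2 : (a j - t) • b j = 0 := by rw [sub_smul, h2, sub_self]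
    rw [sub_eq_zero.1 ((smul_eq_zero.1 e1).resolve_right (b.ne_zero i)),
      sub_eq_zero.1 ((smul_eq_zero.1 e2).resolve_right (b.ne_zero j))]

/-- Cyclic subspaces. -/
theorem ns_blk {f : Module.End F V} (hf : ∀ v, f v = y v) {P : F[X]} (hP : Irreducible P) {w : V}
    (hPw : aeval f P w = 0) (hw : w ≠ 0) (h2 : 2 ≤ P.natDegree) : Ns (F := F) P.natDegree y := by
  refine ns_of_sub (W := blk f w) (finrank_blk hP hPw hw)
    (fun v hv => by rw [← hf]; exact blk_inv hv) ?_
  rintro ⟨t, ht⟩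
  have h1 := ht w self_mem_blk
  rw [← hf] at h1
  have h3 : aeval f (X - C t) w = 0 := by
    rw [map_sub, aeval_X, aeval_C, LinearMap.sub_apply, Module.algebraMap_end_apply, h1, sub_self]
  have h4 := dvd_of_aeval hP hPw hw h3
  have h5 := natDegree_le_of_dvd h4 (X_sub_C_ne_zero t)
  rw [natDegree_X_sub_C] at h5
  omega

/-- Irreducible maps. -/
theorem ns_irr (hp : p.Prime) (hy : Semi (1 : F ≃+* F) y) {l : F} (hl : ∀ v, (y ^ p) v = l • v)
    (hlp : ∀ t : F, t ^ p ≠ l) (hV : 0 < Module.finrank F V) : Ns (F := F) p y := by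
  obtain ⟨f, hf, -⟩ := exists_end hy
  have : Nontrivial V := Module.finrank_pos_iff.1 hV
  obtain ⟨w, hw⟩ := exists_ne (0 : V)
  have hirr := X_pow_sub_C_irreducible_of_prime hp hlp
  have h1 := ns_blk (f := (f : Module.End F V)) hf hirr (w := w) (by
    rw [map_sub, map_pow, aeval_X, aeval_C, LinearMap.sub_apply, Module.algebraMap_end_apply,
      pow_end hf, hl, sub_self]) hw (by rw [natDegree_X_pow_sub_C]; exact hp.two_le)
  rwa [natDegree_X_pow_sub_C] at h1

/-- Nontrivial linear maps of order `p`, `q` of order `e ≥ 2` modulo `p`. -/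
theorem ns_lin (hp : p.Prime) (hpF : (p : F) ≠ 0) (hy : Semi (1 : F ≃+* F) y)
    (hyp : y ^ p = 1) (hyn : ¬ IsScal F y) {e : ℕ}
    (he : orderOf ((Fintype.card F : ℕ) : ZMod p) = e) (he2 : 2 ≤ e) : Ns (F := F) e y := by
  obtain ⟨f, hf, -⟩ := exists_end hy
  have hfp : (f : Module.End F V) ^ p = 1 := by
    refine LinearMap.ext fun v => ?_
    rw [pow_end hf, hyp]
    rfl
  obtain ⟨P, hP, hPd, w, hw, hPw⟩ := exists_cyc_factor hp hfp (by
    intro h
    apply hyn
    refine ⟨1, fun v => ?_⟩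
    rw [← hf, one_smul]
    exact LinearMap.congr_fun h v)
  have hdeg : P.natDegree = e := (natDegree_cyc hp hpF hP hPd).trans he
  have h1 := ns_blk hf hP hPw hw (by omega)
  rwa [hdeg] at h1

theorem ns_le (h : Ns (F := F) k y) : k ≤ Module.finrank F V := by
  obtain ⟨b, hb, -⟩ := h
  have := hb.fintype_card_le_finrank
  rwa [Fintype.card_fin] at this

/-- `p`-th powers. -/
theorem exists_root (hp : p.Prime) (hq : ¬ p ∣ Fintype.card F - 1) (l : F) : ∃ t : F, t ^ p = l := by
  classical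
  by_cases hl : l = 0
  · exact ⟨0, by rw [hl, zero_pow hp.ne_zero]⟩
  have hcop : (Nat.card Fˣ).Coprime p := by
    rw [Nat.card_eq_fintype_card, Fintype.card_units, Nat.coprime_comm]
    exact (Nat.Prime.coprime_iff_not_dvd hp).2 hq
  obtain ⟨u, hu⟩ := (powCoprime hcop).surjective (Units.mk0 l hl)
  refine ⟨u, ?_⟩
  have := congrArg Units.val hu
  simpa using this

/-- **The types.** -/
theorem types (hp : p.Prime) (hp5 : 5 ≤ p) (hpF : (p : F) ≠ 0) (hV : 2 ≤ Module.finrank F V)
    (hy : Semi θ y) (hyp : IsScal F (y ^ p)) (hyn : ¬ IsScal F y) :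
    (θ ≠ 1 ∧ orderOf θ = p ∧ ∀ k, 1 ≤ k → k ≤ Module.finrank F V → Ns (F := F) k y) ∨
    (θ = 1 ∧ p ∣ Fintype.card F - 1 ∧ ∀ k, 2 ≤ k → k ≤ Module.finrank F V → Ns (F := F) k y) ∨
    (θ = 1 ∧ p ∣ Fintype.card F - 1 ∧ Ns (F := F) p y ∧
      ∃ l : F, (∀ v, (y ^ p) v = l • v) ∧ ∀ t : F, t ^ p ≠ l) ∨
    (θ = 1 ∧ ¬ p ∣ Fintype.card F - 1 ∧
      Ns (F := F) (orderOf ((Fintype.card F : ℕ) : ZMod p)) y) := by
  have : Fact p.Prime := ⟨hp⟩
  have : Nontrivial V := Module.finrank_pos_iff.1 (show 0 < Module.finrank F V by omega)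
  by_cases hθ : θ = 1
  · subst hθ
    right
    obtain ⟨l, hl⟩ := hyp
    by_cases hroot : ∃ t : F, t ^ p = l
    · obtain ⟨t, rfl⟩ := hroot
      have ht0 : t ≠ 0 := by
        rintro rfl
        obtain ⟨v, hv⟩ := exists_ne (0 : V)
        apply hv
        apply (y ^ p).injective
        rw [hl, hl, zero_pow hp.ne_zero, zero_smul, zero_smul]
      have h1 : (smulA (Units.mk0 t ht0)⁻¹ y) ^ p = 1 := by
        have h2 : ∀ (m : ℕ) (v : V), ((smulA (Units.mk0 t ht0)⁻¹ y) ^ m) v
            = (t⁻¹) ^ m • (y ^ m) v := by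
          intro m
          induction m with
          | zero => intro v; simp
          | succ m ih =>
            intro v
            rw [pow_succ', pow_succ' y, Equiv.Perm.mul_apply, ih, smulA_apply, hy.smul,
              Equiv.Perm.mul_apply, smul_smul, RingAut.one_apply, pow_succ' t⁻¹]
            rfl
        ext1 v
        rw [h2, hl, smul_smul, inv_pow, inv_mul_cancel₀ (pow_ne_zero _ ht0), one_smul]
        rfl
      have h3 := hy.smulA (Units.mk0 t ht0)⁻¹
      have h4 : ¬ IsScal F (smulA (Units.mk0 t ht0)⁻¹ y) :=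
        Cfsg.Agent.H957.T5Main.not_isScal_smulA hyn
      by_cases hq : p ∣ Fintype.card F - 1
      · left
        exact ⟨rfl, hq, fun k hk hkn => ns_smulA (ns_diag hp hq h3 h1 h4 hk hkn)⟩
      · right; right
        refine ⟨rfl, hq, ns_smulA (ns_lin hp hpF h3 h1 h4 rfl ?_)⟩
        -- the order is at least two
        have h5 : 0 < orderOf ((Fintype.card F : ℕ) : ZMod p) := by
          rw [orderOf_pos_iff]
          have h6 : ((Fintype.card F : ℕ) : ZMod p) ≠ 0 := by
            rw [Ne, ZMod.natCast_eq_zero_iff]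
            intro h7
            apply hpF
            obtain ⟨r, hr⟩ := CharP.exists F
            obtain ⟨n, hrp, hn⟩ := FiniteField.card F r
            rw [hn] at h7
            rw [(Nat.prime_dvd_prime_iff_eq hp hrp).1 (hp.dvd_of_dvd_pow h7)]
            exact CharP.cast_eq_zero F r
          exact isOfFinOrder_iff_pow_eq_one.2 ⟨p - 1, by omega, ZMod.pow_card_sub_one_eq_one h6⟩
        have h6 : orderOf ((Fintype.card F : ℕ) : ZMod p) ≠ 1 := by
          intro h7
          apply hq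
          rw [orderOf_eq_one_iff] at h7
          rw [← ZMod.natCast_eq_zero_iff, Nat.cast_sub Fintype.card_pos, h7]
          push_cast
          ring
        omega
    · push Not at hroot
      right; left
      refine ⟨rfl, ?_, ns_irr hp hy hl hroot (by omega), l, hl, hroot⟩
      by_contra hq
      obtain ⟨t, ht⟩ := exists_root hp hq l
      exact hroot t ht
  · left
    obtain ⟨s, hs⟩ := Cfsg.Agent.H957.T5Main.exists_nf hp hp5 hy hyp
    rcases hs with ⟨h, -⟩ | ⟨h, -⟩ | ⟨ho, hs⟩
    · exact absurd h hθ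
    · exact absurd h hθ
    · exact ⟨hθ, ho, fun k hk hkn => ns_smulA (ns_semi hp (hy.smulA s) ho hs hk hkn)⟩

/-- The field is not too small. -/
theorem four_le_of_order (hp5 : 5 ≤ p) (hθ : orderOf θ = p) :
    4 ≤ Fintype.card F := by
  have h1 := Cfsg.Agent.H967.CopMat.card_Fx θ
  rw [hθ, Nat.card_eq_fintype_card] at h1
  have h2 : 2 ≤ Nat.card (Cfsg.Agent.H967.CopMat.Fx θ) := by
    have := Finite.one_lt_card (α := Cfsg.Agent.H967.CopMat.Fx θ)
    exact this
  rw [h1]
  calc 4 ≤ 2 ^ 2 := by norm_num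
    _ ≤ 2 ^ p := Nat.pow_le_pow_right (by norm_num) (by omega)
    _ ≤ _ := Nat.pow_le_pow_left h2 p

end Cfsg.Agent.H957.S5
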