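import Cfsg.Agent.H132.S5.Main

/-!
# Strong pairs along relations (S2274)
-/

set_option autoImplicit false

universe u

namespace Cfsg.Agent.H957.S5

open Cfsg.Agent.H533.T5 Cfsg.Agent.H132.S5 Cfsg.Agent.H106.MB Cfsg.Agent.H106.MT

section rel

variable {R G H : Type*} [Group R] [Group G] [Group H]

/-- Factoring `β` through the range of `α`. -/
theorem exists_fac (α : R →* G) (β : R →* H) (hker : ∀ r, α r = 1 → β r = 1) :
    ∃ φ : α.range →* H, ∀ r, φ (α.rangeRestrict r) = β r := by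
  refine ⟨(QuotientGroup.lift α.ker β (fun r hr => hker r hr)).comp
    (QuotientGroup.quotientKerEquivRange α).symm.toMonoidHom, fun r => ?_⟩
  have h1 : (QuotientGroup.quotientKerEquivRange α).symm (α.rangeRestrict r)
      = QuotientGroup.mk r := by
    rw [MulEquiv.symm_apply_eq]
    rfl
  change (QuotientGroup.lift α.ker β (fun r hr => hker r hr))
    ((QuotientGroup.quotientKerEquivRange α).symm (α.rangeRestrict r)) = β r
  rw [h1]
  rfl

variable {p : ℕ} {S : Subgroup G} {T : Subgroup H} {r r' : R}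

theorem le_map_fac (α : R →* G) (β : R →* H) {φ : α.range →* H}
    (hφ : ∀ r, φ (α.rangeRestrict r) = β r) (hT : ∀ t ∈ T, ∃ r, α r ∈ S ∧ β r = t) :
    T ≤ (S.subgroupOf α.range).map φ := by
  intro t ht
  obtain ⟨r, hr, rfl⟩ := hT t ht
  exact ⟨α.rangeRestrict r, hr, hφ r⟩

theorem spair_of_rel (hp : p.Prime) (α : R →* G) (β : R →* H) (hker : ∀ r, α r = 1 → β r = 1)
    (hT : ∀ t ∈ T, ∃ r, α r ∈ S ∧ β r = t) (h : SPair p T (β r) (β r')) :
    SPair p S (α r) (α r') := by
  obtain ⟨φ, hφ⟩ := exists_fac α β hker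
  rw [← hφ, ← hφ] at h
  have h1 := SPair.of_section hp φ (le_map_fac α β hφ hT) h
  rwa [MonoidHom.coe_rangeRestrict, MonoidHom.coe_rangeRestrict] at h1

theorem apair_of_rel (α : R →* G) (β : R →* H) (hker : ∀ r, α r = 1 → β r = 1)
    (hT : ∀ t ∈ T, ∃ r, α r ∈ S ∧ β r = t) (h : APair T (β r) (β r')) :
    APair S (α r) (α r') := by
  obtain ⟨φ, hφ⟩ := exists_fac α β hker
  rw [← hφ, ← hφ] at h
  have h1 := APair.of_section φ (le_map_fac α β hφ hT) h
  rwa [MonoidHom.coe_rangeRestrict, MonoidHom.coe_rangeRestrict] at h1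

theorem bpair_of_rel (α : R →* G) (β : R →* H) (hker : ∀ r, α r = 1 → β r = 1)
    (hT : ∀ t ∈ T, ∃ r, α r ∈ S ∧ β r = t) (h : BPair p T (β r) (β r')) :
    BPair p S (α r) (α r') := by
  obtain ⟨φ, hφ⟩ := exists_fac α β hker
  rw [← hφ, ← hφ] at h
  have h1 := BPair.of_section φ (le_map_fac α β hφ hT) h
  rwa [MonoidHom.coe_rangeRestrict, MonoidHom.coe_rangeRestrict] at h1

end rel

/-! ### Universes -/

theorem aa_down {p : ℕ} (h : AAHyp.{u} p) : AAHyp.{0} p := by
  intro K _ _ x hx hg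
  let e : ULift.{u} K ≃* K := MulEquiv.ulift
  have h1 := h (ULift.{u} K) (e.symm x) (by rw [MulEquiv.orderOf_eq, hx]) (fun g => by
    obtain ⟨k, hk⟩ := hg (e g)
    refine ⟨k, e.injective ?_⟩
    rw [map_pow, map_mul, map_mul, map_mul, map_inv, e.apply_symm_apply, hk, map_one])
  have h2 : (Subgroup.closure {y : ULift.{u} K | ∃ g, y = g * e.symm x * g⁻¹}).map e.toMonoidHom
      = Subgroup.closure {y : K | ∃ g : K, y = g * x * g⁻¹} := by
    rw [MonoidHom.map_closure]
    congr 1
    ext y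
    constructor
    · rintro ⟨_, ⟨g, rfl⟩, rfl⟩
      exact ⟨e g, by
        change e (g * e.symm x * g⁻¹) = _
        rw [map_mul, map_mul, map_inv, e.apply_symm_apply]⟩
    · rintro ⟨g, rfl⟩
      exact ⟨e.symm g * e.symm x * (e.symm g)⁻¹, ⟨_, rfl⟩, by
        change e (e.symm g * e.symm x * (e.symm g)⁻¹) = _
        rw [map_mul, map_mul, map_inv, e.apply_symm_apply, e.apply_symm_apply]⟩
  rw [← h2]
  exact Group.isSolvable_of_surjective (f := e.toMonoidHom.subgroupMap _)
    (e.toMonoidHom.subgroupMap_surjective _)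

theorem rs_down {p : ℕ} (h : RSHyp.{u} p) : RSHyp.{0} p := by
  intro K _ _ x hx hg
  let e : ULift.{u} K ≃* K := MulEquiv.ulift
  have h1 := h (ULift.{u} K) (e.symm x) (by rw [MulEquiv.orderOf_eq, hx]) (fun g => by
    have h3 := hg (e g)
    have h4 : (Subgroup.closure ({x, e g * x * (e g)⁻¹} : Set K)).map e.symm.toMonoidHom
        = Subgroup.closure ({e.symm x, g * e.symm x * g⁻¹} : Set (ULift.{u} K)) := by
      rw [closure_pair_map]
      have h5 : e.symm.toMonoidHom (e g * x * (e g)⁻¹) = g * e.symm x * g⁻¹ := by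
        change e.symm (e g * x * (e g)⁻¹) = _
        rw [map_mul, map_mul, map_inv, e.symm_apply_apply]
      rw [h5]
      rfl
    rw [← h4]
    exact Group.isSolvable_of_surjective (f := e.symm.toMonoidHom.subgroupMap _)
      (e.symm.toMonoidHom.subgroupMap_surjective _))
  have h2 : (Subgroup.closure {y : ULift.{u} K | ∃ g, y = g * e.symm x * g⁻¹}).map e.toMonoidHom
      = Subgroup.closure {y : K | ∃ g : K, y = g * x * g⁻¹} := by
    rw [MonoidHom.map_closure]
    congr 1
    ext y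
    constructor
    · rintro ⟨_, ⟨g, rfl⟩, rfl⟩
      exact ⟨e g, by
        change e (g * e.symm x * g⁻¹) = _
        rw [map_mul, map_mul, map_inv, e.apply_symm_apply]⟩
    · rintro ⟨g, rfl⟩
      exact ⟨e.symm g * e.symm x * (e.symm g)⁻¹, ⟨_, rfl⟩, by
        change e (e.symm g * e.symm x * (e.symm g)⁻¹) = _
        rw [map_mul, map_mul, map_inv, e.apply_symm_apply, e.apply_symm_apply]⟩
  rw [← h2]
  exact Group.isSolvable_of_surjective (f := e.toMonoidHom.subgroupMap _)
    (e.toMonoidHom.subgroupMap_surjective _)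

/-- The strong rows of the smaller groups, in the universe `0`. -/
theorem below_down {p m : ℕ} (h : SBelow.{u} p m) : SBelow.{0} p m := by
  intro L _ _ hs hna hlt
  let e : ULift.{u} L ≃* L := MulEquiv.ulift
  refine Cfsg.Agent.H897.T5Sub.SRow.congr e (h (ULift.{u} L) e.isSimpleGroup ?_ ?_)
  · intro hc
    apply hna
    refine ⟨⟨fun a b => ?_⟩⟩
    have := congrArg e (hc.is_comm.comm (e.symm a) (e.symm b))
    rwa [map_mul, map_mul, e.apply_symm_apply, e.apply_symm_apply] at this
  · rw [Nat.card_congr e.toEquiv]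
    exact hlt

end Cfsg.Agent.H957.S5
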