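import Cfsg.Agent.H957.T5U2
import Cfsg.Agent.S0749

/-!
# The pair predicate for symplectic groups (T5, row PSp)
-/

set_option autoImplicit false

namespace Cfsg.Agent.H957.T5S

open Cfsg.Agent.H957.T5V Cfsg.Agent.H957.T5Conf Cfsg.Agent.H957.T5Pairs
open Cfsg.Agent.H957.T5U (Res exists_res)
open Module

variable {F V : Type*} [Field F] [AddCommGroup V] [Module F V]
variable {B : LinearMap.BilinForm F V} {p : ℕ} {σ τ : F ≃+* F} {c d : Equiv.Perm V}

/-- `g` is an isometry. -/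
def Isom (B : LinearMap.BilinForm F V) (g : V ≃ₗ[F] V) : Prop := ∀ u v, B (g u) (g v) = B u v

theorem Isom.mul {g h : V ≃ₗ[F] V} (hg : Isom B g) (hh : Isom B h) : Isom B (g * h) := by
  intro u v
  change B (g (h u)) (g (h v)) = _
  rw [hg, hh]

theorem Isom.inv {g : V ≃ₗ[F] V} (hg : Isom B g) : Isom B g⁻¹ := by
  intro u v
  rw [← hg]
  change B (g (g.symm u)) (g (g.symm v)) = _
  rw [g.apply_symm_apply, g.apply_symm_apply]

/-- The pair predicate for the isometry group, powers allowed. -/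
def SP (B : LinearMap.BilinForm F V) (p : ℕ) (c d : Equiv.Perm V) : Prop :=
  ∃ g : V ≃ₗ[F] V, Isom B g ∧ ∃ i j : ℕ, ∀ k : ℕ,
    ¬ IsScal F ((c ^ i * (toA g * d * (toA g)⁻¹) ^ j) ^ p ^ k)

theorem SP.symm (hc : Semi σ c) (h : SP B p c d) : SP B p d c := by
  obtain ⟨g, hg, i, j, h⟩ := h
  refine ⟨g⁻¹, hg.inv, j, i, fun m hm => h m ?_⟩
  have h1 : (c ^ i * (toA g * d * (toA g)⁻¹) ^ j)
      = (toA g * (toA g⁻¹ * c * (toA g⁻¹)⁻¹) ^ i) * (d ^ j * (toA g⁻¹ * c * (toA g⁻¹)⁻¹) ^ i)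
        * (toA g * (toA g⁻¹ * c * (toA g⁻¹)⁻¹) ^ i)⁻¹ := by
    rw [map_inv, conj_pow, conj_pow]
    group
  rw [h1, conj_pow]
  exact isScal_conj ((semi_toA g).mul ((hc.conj g⁻¹).pow i)) hm

theorem SP.conj_right {t : V ≃ₗ[F] V} (ht : Isom B t) (h : SP B p c (toA t * d * (toA t)⁻¹)) :
    SP B p c d := by
  obtain ⟨s, hs, i, j, h⟩ := h
  refine ⟨s * t, hs.mul ht, i, j, ?_⟩
  have : toA (s * t) * d * (toA (s * t))⁻¹
      = toA s * (toA t * d * (toA t)⁻¹) * (toA s)⁻¹ := by
    rw [map_mul]; group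
  rwa [this]

section witt

variable [FiniteDimensional F V]

/-- Witt's lemma for families. -/
theorem witt_family (hB : B.Nondegenerate) (hA : B.IsAlt) {κ : Type*} [Finite κ] {a b : κ → V}
    (ha : LinearIndependent F a) (hb : LinearIndependent F b)
    (hab : ∀ i j, B (a i) (a j) = B (b i) (b j)) :
    ∃ g : V ≃ₗ[F] V, Isom B g ∧ ∀ i, g (a i) = b i := by
  let ba := Basis.span ha
  let bb := Basis.span hb
  let φ := ba.equiv bb (Equiv.refl κ)
  have hba : ∀ i, (ba i : V) = a i := fun i => congrArg Subtype.val (Basis.span_apply ha i)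
  have hbb : ∀ i, (bb i : V) = b i := fun i => congrArg Subtype.val (Basis.span_apply hb i)
  have hφ : ∀ i, φ (ba i) = bb i := fun i => by
    change ba.equiv bb (Equiv.refl κ) (ba i) = bb i
    rw [Basis.equiv_apply]
    rfl
  let ψ : Submodule.span F (Set.range a) →ₗ[F] V :=
    (Submodule.subtype (Submodule.span F (Set.range b))).comp φ.toLinearMap
  have key : (B.compl₁₂ ψ ψ) =
      B.compl₁₂ (Submodule.subtype (Submodule.span F (Set.range a)))
        (Submodule.subtype (Submodule.span F (Set.range a))) := by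
    refine LinearMap.ext_basis ba ba fun i j => ?_
    change B (φ (ba i) : V) (φ (ba j) : V) = B (ba i : V) (ba j : V)
    rw [hφ, hφ, hba, hba, hbb, hbb, hab]
  obtain ⟨g, hg, hgφ⟩ := Cfsg.Agent.S0749.result B hB hA _ _ φ (fun x x' =>
    LinearMap.congr_fun (LinearMap.congr_fun key x) x')
  refine ⟨g, hg, fun i => ?_⟩
  have h := hgφ (ba i)
  rw [hφ, hba, hbb] at h
  exact h

theorem sp_of_family (hB : B.Nondegenerate) (hA : B.IsAlt) (hd : Semi τ d) {κ : Type*} [Finite κ]
    {a b : κ → V} (ha : LinearIndependent F a) (hb : LinearIndependent F b)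
    (hab : ∀ i j, B (a i) (a j) = B (b i) (b j))
    (h : ∀ d' : Equiv.Perm V, Semi τ d' → ∀ g : V ≃ₗ[F] V, (∀ i, g (a i) = b i) →
      (∀ x, d' (g x) = g (d x)) → (∀ m : ℕ, ¬ IsScal F ((c * d') ^ p ^ m))) :
    SP B p c d := by
  obtain ⟨g, hg, hgab⟩ := witt_family hB hA ha hb hab
  refine ⟨g, hg, 1, 1, fun m => ?_⟩
  rw [pow_one, pow_one]
  refine h _ (hd.conj g) g hgab (fun x => ?_) m
  rw [Equiv.Perm.mul_apply, Equiv.Perm.mul_apply, toA_inv_apply, toA_apply]

end witt

/-- `c` leaves the span of a family with Gram matrix `G` invariant and is not a scalar there. -/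
def Gm (B : LinearMap.BilinForm F V) {k : ℕ} (G : Fin k → Fin k → F) (c : Equiv.Perm V) : Prop :=
  ∃ b : Fin k → V, LinearIndependent F b ∧ (∀ i j, B (b i) (b j) = G i j) ∧
    (∀ w ∈ Submodule.span F (Set.range b), c w ∈ Submodule.span F (Set.range b)) ∧
    ¬ ∃ t : F, ∀ w ∈ Submodule.span F (Set.range b), c w = t • w

theorem isScal_conj_pow {g : V ≃ₗ[F] V} {m : ℕ} (h : IsScal F (d ^ m)) :
    IsScal F ((toA g * d * (toA g)⁻¹) ^ m) := by
  rw [conj_pow]
  exact isScal_conj (semi_toA g) h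

theorem sp_of_gram [Finite F] [FiniteDimensional F V] (hB : B.Nondegenerate) (hA : B.IsAlt)
    {k : ℕ} (hk : 2 ≤ k) {G : Fin k → Fin k → F}
    (hG : ∀ b : Fin k → V, LinearIndependent F b → (∀ i j, B (b i) (b j) = G i j) →
      ∀ g : Submodule.span F (Set.range b) ≃ₗ[F] Submodule.span F (Set.range b),
        LinearEquiv.det g = 1 → ∀ u v, B (g u : V) (g v : V) = B (u : V) (v : V))
    (hp : p.Prime) (hp5 : 5 ≤ p) (hpF : (p : F) ≠ 0) (hc : Semi σ c) (hd : Semi τ d)
    (hcp : IsScal F (c ^ p)) (hdp : IsScal F (d ^ p)) (h1 : Gm B G c) (h2 : Gm B G d) :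
    SP B p c d := by
  have : Finite V := Module.finite_of_finite F
  obtain ⟨b, hb, hbG, hcb, hcn⟩ := h1
  obtain ⟨a, ha, haG, hda, hdn⟩ := h2
  obtain ⟨t, ht, htab⟩ := witt_family hB hA ha hb (fun i j => by rw [haG, hbG])
  refine SP.conj_right ht ?_
  set W := Submodule.span F (Set.range b) with hW
  set W' := Submodule.span F (Set.range a) with hW'
  have hWW : W'.map (t : V →ₗ[F] V) = W := by
    rw [hW', Submodule.map_span, ← Set.range_comp]
    congr 1
    congr 1
    funext i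
    exact htab i
  have hto : ∀ w ∈ W', t w ∈ W := fun w hw => by
    rw [← hWW]; exact ⟨w, hw, rfl⟩
  have hfrom : ∀ w ∈ W, ∃ w' ∈ W', t w' = w := fun w hw => by
    rw [← hWW] at hw; exact hw
  set d' := toA t * d * (toA t)⁻¹ with hd'
  have hdt : ∀ x, d' (t x) = t (d x) := fun x => by
    rw [hd', Equiv.Perm.mul_apply, Equiv.Perm.mul_apply, toA_inv_apply, toA_apply]
  have hd'W : ∀ w ∈ W, d' w ∈ W := by
    intro w hw
    obtain ⟨w', hw', rfl⟩ := hfrom w hw
    rw [hdt]
    exact hto _ (hda _ hw')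
  have hd'n : ¬ ∃ t : F, ∀ w ∈ W, d' w = t • w := by
    rintro ⟨s, hs⟩
    apply hdn
    refine ⟨s, fun w hw => t.injective ?_⟩
    rw [← hdt, hs _ (hto w hw), map_smul]
  have hd's : Semi τ d' := hd.conj t
  have hd'p : IsScal F (d' ^ p) := isScal_conj_pow hdp
  obtain ⟨c0, hc0⟩ := exists_res (ι := ((↑) : W → V)) (x := c) Subtype.val_injective
    (fun v => ⟨⟨c v, hcb v v.2⟩, rfl⟩)
  obtain ⟨d0, hd0⟩ := exists_res (ι := ((↑) : W → V)) (x := d') Subtype.val_injective
    (fun v => ⟨⟨d' v, hd'W v v.2⟩, rfl⟩)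
  have semi_res : ∀ {θ : F ≃+* F} {x : Equiv.Perm V} {x0 : Equiv.Perm W}, Semi θ x →
      Res ((↑) : W → V) x x0 → Semi θ x0 := by
    intro θ x x0 hx h
    refine ⟨fun u v => Subtype.ext ?_, fun a u => Subtype.ext ?_⟩
    · rw [Submodule.coe_add, ← h, ← h, ← h, Submodule.coe_add, hx.add]
    · rw [Submodule.coe_smul, ← h, ← h, Submodule.coe_smul, hx.smul]
  have scal_res : ∀ {x : Equiv.Perm V} {x0 : Equiv.Perm W}, Res ((↑) : W → V) x x0 →
      IsScal F x → IsScal F x0 := by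
    rintro x x0 h ⟨a, ha⟩
    exact ⟨a, fun v => Subtype.ext (by rw [← h, ha, Submodule.coe_smul])⟩
  have ns_res : ∀ {x : Equiv.Perm V} {x0 : Equiv.Perm W}, Res ((↑) : W → V) x x0 →
      (¬ ∃ t : F, ∀ w ∈ W, x w = t • w) → ¬ IsScal F x0 := by
    rintro x x0 h hn ⟨a, ha⟩
    apply hn
    refine ⟨a, fun w hw => ?_⟩
    have := h ⟨w, hw⟩
    rw [ha] at this
    exact this
  have hdim : finrank F W = k := by rw [hW, finrank_span_eq_card hb, Fintype.card_fin]
  obtain ⟨g, hg, i, j, h⟩ := Cfsg.Agent.H957.T5Main.mp_main hp hp5 (by rw [hdim]; exact hk) hpF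
    (semi_res hc hc0) (scal_res (hc0.pow p) hcp) (ns_res hc0 hcn) (semi_res hd's hd0)
    (scal_res (hd0.pow p) hd'p) (ns_res hd0 hd'n)
  obtain ⟨s, hs, hsg⟩ := Cfsg.Agent.S0749.result B hB hA W W g (hG b hb hbG g hg)
  refine ⟨s, hs, i, j, fun m hm => h m ?_⟩
  have hres : Res ((↑) : W → V) (toA s) (toA g) := fun v => hsg v
  exact scal_res (((hc0.pow i).mul (((hres.mul hd0).mul hres.inv).pow j)).pow _) hm

/-- totally isotropic subspaces -/
theorem sp_ti [Finite F] [FiniteDimensional F V] (hB : B.Nondegenerate) (hA : B.IsAlt)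
    {k : ℕ} (hk : 2 ≤ k) (hp : p.Prime) (hp5 : 5 ≤ p) (hpF : (p : F) ≠ 0) (hc : Semi σ c)
    (hd : Semi τ d) (hcp : IsScal F (c ^ p)) (hdp : IsScal F (d ^ p))
    (h1 : Gm B (fun _ _ : Fin k => 0) c) (h2 : Gm B (fun _ _ : Fin k => 0) d) : SP B p c d := by
  refine sp_of_gram hB hA hk ?_ hp hp5 hpF hc hd hcp hdp h1 h2
  intro b _ hbG g _ u v
  have h0 : ∀ x ∈ Submodule.span F (Set.range b), ∀ y ∈ Submodule.span F (Set.range b),
      B x y = 0 := by
    intro x hx y hy
    induction hx using Submodule.span_induction with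
    | mem x hx =>
      obtain ⟨i, rfl⟩ := hx
      induction hy using Submodule.span_induction with
      | mem y hy =>
        obtain ⟨j, rfl⟩ := hy
        exact hbG i j
      | zero => exact map_zero _
      | add y y' _ _ h h' => rw [map_add, h, h', add_zero]
      | smul a y _ h => rw [map_smul, h, smul_zero]
    | zero => rw [map_zero, LinearMap.zero_apply]
    | add x x' _ _ h h' => rw [map_add, LinearMap.add_apply, h, h', add_zero]
    | smul a x _ h => rw [map_smul, LinearMap.smul_apply, h, smul_zero]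
  rw [h0 _ (g u).2 _ (g v).2, h0 _ u.2 _ v.2]

/-- The Gram matrix of a hyperbolic plane. -/
def hyp : Fin 2 → Fin 2 → F := ![![0, 1], ![-1, 0]]

/-- hyperbolic planes -/
theorem sp_plane [Finite F] [FiniteDimensional F V] (hB : B.Nondegenerate) (hA : B.IsAlt)
    (hp : p.Prime) (hp5 : 5 ≤ p) (hpF : (p : F) ≠ 0) (hc : Semi σ c)
    (hd : Semi τ d) (hcp : IsScal F (c ^ p)) (hdp : IsScal F (d ^ p))
    (h1 : Gm B hyp c) (h2 : Gm B hyp d) : SP B p c d := by
  refine sp_of_gram hB hA le_rfl ?_ hp hp5 hpF hc hd hcp hdp h1 h2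
  intro b hb hbG g hg
  let bb := Basis.span hb
  have hbb : ∀ i, (bb i : V) = b i := fun i => congrArg Subtype.val (Basis.span_apply hb i)
  have h0 : ∀ x, B x x = 0 := hA
  have hswap : ∀ x y, B x y = -B y x := fun x y => (LinearMap.IsAlt.neg hA y x).symm
  have hmat : ∀ j, (g (bb j) : V) = LinearMap.toMatrix bb bb (g : _ →ₗ[F] _) 0 j • b 0
      + LinearMap.toMatrix bb bb (g : _ →ₗ[F] _) 1 j • b 1 := by
    intro j
    have h3 := bb.sum_repr (g (bb j))
    rw [Fin.sum_univ_two] at h3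
    rw [← h3, Submodule.coe_add, Submodule.coe_smul, Submodule.coe_smul, hbb, hbb,
      LinearMap.toMatrix_apply, LinearMap.toMatrix_apply]
    simp
  have hdet : (LinearMap.toMatrix bb bb (g : _ →ₗ[F] _)).det = 1 := by
    rw [LinearMap.det_toMatrix, ← LinearEquiv.coe_det, hg]
    rfl
  rw [Matrix.det_fin_two] at hdet
  generalize LinearMap.toMatrix bb bb (g : _ →ₗ[F] _) = M at hmat hdet
  let ψ : Submodule.span F (Set.range b) →ₗ[F] V :=
    (Submodule.subtype (Submodule.span F (Set.range b))).comp g.toLinearMap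
  have key : (B.compl₁₂ ψ ψ) =
      B.compl₁₂ (Submodule.subtype (Submodule.span F (Set.range b)))
        (Submodule.subtype (Submodule.span F (Set.range b))) := by
    refine LinearMap.ext_basis bb bb fun i j => ?_
    change B (g (bb i) : V) (g (bb j) : V) = B (bb i : V) (bb j : V)
    have h01 : B (b 0) (b 1) = 1 := hbG 0 1
    have h10 : B (b 1) (b 0) = -1 := hbG 1 0
    have e : ∀ i j, B (g (bb i) : V) (g (bb j) : V) = M 0 i * M 1 j - M 1 i * M 0 j := by
      intro i j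
      rw [hmat, hmat]
      simp only [map_add, map_smul, LinearMap.add_apply, LinearMap.smul_apply, smul_eq_mul, h0,
        h01, h10]
      ring
    rw [e, hbb, hbb]
    fin_cases i <;> fin_cases j <;> simp only [Fin.zero_eta, Fin.mk_one, h0, h01, h10]
    · ring
    · linear_combination hdet
    · linear_combination -hdet
    · ring
  intro u v
  exact LinearMap.congr_fun (LinearMap.congr_fun key u) v

end Cfsg.Agent.H957.T5S
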