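import Cfsg.Agent.H957.T5U6
import Mathlib

/-!
# Values of an alternating form on the cyclic vectors of an isometry (T5, row PSp)
-/

set_option autoImplicit false

namespace Cfsg.Agent.H957.T5S

open Polynomial
open Cfsg.Agent.H957.T5U (exists_solve li_root)

variable {F V : Type} [Field F] [Fintype F] [AddCommGroup V] [Module F V]
variable {B : LinearMap.BilinForm F V} {f : Module.End F V} {j p : ℕ}

theorem add_pow_q {R : Type*} [CommRing R] [Algebra F R] (j : ℕ) (x y : R) :
    (x + y) ^ Fintype.card F ^ j = x ^ Fintype.card F ^ j + y ^ Fintype.card F ^ j := by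
  rcases subsingleton_or_nontrivial R with hR | hR
  · exact Subsingleton.elim _ _
  obtain ⟨r, hr⟩ := CharP.exists F
  obtain ⟨k, hrp, hk⟩ := FiniteField.card F r
  have : Fact r.Prime := ⟨hrp⟩
  have : CharP R r := charP_of_injective_algebraMap (algebraMap F R).injective r
  rw [hk, ← pow_mul]
  exact add_pow_char_pow x y r (k * j)

omit [Fintype F] in
theorem form_pow_left {N : ℕ} (hf : ∀ u v, B (f u) (f v) = B u v) (hN : f ^ (N + 1) = 1)
    (u v : V) (k : ℕ) : B ((f ^ k) u) v = B u ((f ^ (k * N)) v) := by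
  induction k generalizing u v with
  | zero => simp
  | succ k ih =>
    have h1 : ∀ x y, B (f x) y = B x ((f ^ N) y) := by
      intro x y
      rw [← hf x ((f ^ N) y)]
      congr 1
      have h2 : f ((f ^ N) y) = (f ^ (N + 1)) y := by rw [pow_succ']; rfl
      rw [h2, hN]; rfl
    rw [pow_succ']
    change B (f ((f ^ k) u)) v = _
    rw [h1, ih]
    congr 1
    rw [Nat.succ_mul, pow_add]
    rfl

/-- The adjoint of `a(f)` is `a(f) ^ N`. -/
theorem form_aeval (hf : ∀ u v, B (f u) (f v) = B u v)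
    (hN : f ^ (Fintype.card F ^ j + 1) = 1) (a : F[X]) (u v : V) :
    B (aeval f a u) v = B u (aeval f (a ^ Fintype.card F ^ j) v) := by
  induction a using Polynomial.induction_on' with
  | add a b ha hb =>
    rw [add_pow_q j, map_add, map_add, LinearMap.add_apply, LinearMap.add_apply, map_add,
      LinearMap.add_apply, map_add, ha, hb]
  | monomial k t =>
    have h1 : ∀ (s : F) (m : ℕ) (x : V), aeval f (C s * X ^ m) x = s • (f ^ m) x := by
      intro s m x
      rw [map_mul, aeval_C, map_pow, aeval_X, Module.End.mul_apply, Module.algebraMap_end_apply]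
    rw [← C_mul_X_pow_eq_monomial, mul_pow, ← C_pow, ← pow_mul, h1, h1,
      FiniteField.pow_card_pow, map_smul, map_smul, LinearMap.smul_apply, form_pow_left hf hN]

theorem form_aeval' (hA : B.IsAlt) (hf : ∀ u v, B (f u) (f v) = B u v)
    (hN : f ^ (Fintype.card F ^ j + 1) = 1) (a : F[X]) (u v : V) :
    B u (aeval f a v) = B (aeval f (a ^ Fintype.card F ^ j) u) v := by
  rw [← LinearMap.IsAlt.neg hA, form_aeval hf hN, LinearMap.IsAlt.neg hA]

/-- The kernel of `P(f)` meets its orthogonal space trivially. -/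
theorem ker_nondeg (hB : B.Nondegenerate) (hA : B.IsAlt) (hf : ∀ u v, B (f u) (f v) = B u v)
    (hN : f ^ (Fintype.card F ^ j + 1) = 1) (hpF : (p : F) ≠ 0) (hfp : f ^ p = 1)
    {P : F[X]} (hP : P ∣ X ^ p - 1) {z : V} (hPz : aeval f P z = 0)
    (hz : ∀ y, aeval f P y = 0 → B z y = 0) : z = 0 := by
  obtain ⟨Q, hQ⟩ := hP
  have hcop : IsCoprime P Q := by
    have h := separable_X_pow_sub_C (1 : F) hpF one_ne_zero
    rw [C_1, hQ] at h
    exact h.isCoprime
  obtain ⟨A, R, hAB⟩ := hcop
  apply hB.1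
  intro x
  have hPQ : aeval f (P * Q) = 0 := by
    rw [← hQ, map_sub, map_pow, aeval_X, map_one, hfp, sub_self]
  have hx : x = aeval f (P * A) x + aeval f (R * Q) x := by
    have := congrArg (fun r => aeval f r x) hAB
    simp only [map_add, LinearMap.add_apply, map_one, Module.End.one_apply] at this
    rw [mul_comm P A]
    exact this.symm
  have h1 : aeval f P (aeval f (R * Q) x) = 0 := by
    rw [← Module.End.mul_apply, ← map_mul]
    rw [show P * (R * Q) = R * (P * Q) by ring, map_mul, hPQ, mul_zero]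
    rfl
  have hPN : aeval f (P ^ Fintype.card F ^ j) z = 0 := by
    obtain ⟨m, hm⟩ : ∃ m, Fintype.card F ^ j = m + 1 := Nat.exists_eq_succ_of_ne_zero
      (pow_ne_zero _ Fintype.card_ne_zero)
    rw [hm, pow_succ, map_mul, Module.End.mul_apply, hPz, map_zero]
  rw [hx, map_add, hz _ h1, add_zero, map_mul, Module.End.mul_apply, form_aeval' hA hf hN, hPN,
    map_zero, LinearMap.zero_apply]

/-- A vector with `B (f w) w ≠ 0`. -/
theorem exists_w (hB : B.Nondegenerate) (hA : B.IsAlt) (hf : ∀ u v, B (f u) (f v) = B u v)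
    (hN : f ^ (Fintype.card F ^ j + 1) = 1) (hp : p.Prime) (hp2 : p ≠ 2) (hpF : (p : F) ≠ 0)
    (hfp : f ^ p = 1) {P : F[X]} (hP : P ∣ cyclotomic p F) {u : V} (hu : u ≠ 0)
    (hPu : aeval f P u = 0) : ∃ w, aeval f P w = 0 ∧ B (f w) w ≠ 0 := by
  have : Fact p.Prime := ⟨hp⟩
  by_contra hcon
  push Not at hcon
  have hPd : P ∣ X ^ p - 1 := by
    rw [← cyclotomic_prime_mul_X_sub_one F p]
    exact hP.mul_right _
  have hfm : ∀ x, aeval f P x = 0 → aeval f P (f x) = 0 := by
    intro x hx
    have h1 : f x = aeval f (X : F[X]) x := by rw [aeval_X]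
    rw [h1, ← Module.End.mul_apply, ← map_mul, mul_comm, map_mul, Module.End.mul_apply, hx,
      map_zero]
  have hpol : ∀ x, aeval f P x = 0 → ∀ y, aeval f P y = 0 → B (f x) y = B x (f y) := by
    intro x hx y hy
    have h1 := hcon (x + y) (by rw [map_add, hx, hy, add_zero])
    rw [map_add f, map_add B, LinearMap.add_apply, map_add, map_add, hcon x hx, hcon y hy,
      zero_add, add_zero] at h1
    rw [← LinearMap.IsAlt.neg hA (f y) x]
    exact eq_neg_of_add_eq_zero_left h1
  have h2 : f (f u) - u = 0 := by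
    refine ker_nondeg hB hA hf hN hpF hfp hPd ?_ ?_
    · rw [map_sub, hfm _ (hfm _ hPu), hPu, sub_self]
    · intro y hy
      rw [map_sub, LinearMap.sub_apply, hpol _ (hfm _ hPu) y hy, hf, sub_self]
  have h3 : f (f u) = u := sub_eq_zero.1 h2
  have h4 : f u = u := by
    obtain ⟨k, hk⟩ := hp.odd_of_ne_two hp2
    have h5 : ∀ m : ℕ, (f ^ (2 * m)) u = u := by
      intro m
      induction m with
      | zero => simp
      | succ m ih =>
        rw [show 2 * (m + 1) = 2 * m + 2 by ring, pow_add, Module.End.mul_apply]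
        have : (f ^ 2) u = u := by rw [pow_two]; exact h3
        rw [this, ih]
    have h6 : (f ^ p) u = u := by rw [hfp]; rfl
    rw [hk, pow_succ', Module.End.mul_apply, h5] at h6
    exact h6
  have h5 : ∀ a : F[X], aeval f a u = (a.eval 1) • u := by
    intro a
    have h6 : ∀ k : ℕ, (f ^ k) u = u := by
      intro k
      induction k with
      | zero => rfl
      | succ k ih => rw [pow_succ', Module.End.mul_apply, ih, h4]
    induction a using Polynomial.induction_on' with
    | add a b ha hb => rw [map_add, LinearMap.add_apply, ha, hb, eval_add, add_smul]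
    | monomial k t =>
      rw [aeval_monomial, Module.End.mul_apply, h6, eval_monomial, one_pow, mul_one,
        Module.algebraMap_end_apply]
  rw [h5] at hPu
  have h6 : P.eval 1 = 0 := (smul_eq_zero.1 hPu).resolve_right hu
  obtain ⟨Q, hQ⟩ := hP
  have h7 := congrArg (eval 1) hQ
  rw [eval_mul, h6, zero_mul, eval_one_cyclotomic_prime] at h7
  exact hpF h7

omit [Fintype F] in
theorem exists_solve' {E : Type} [Field E] [Algebra F E] (ℓ : E →ₗ[F] F) {x0 : E}
    (h1 : ℓ x0 ≠ 0) {k : ℕ} {g : Fin k → E} (hg : LinearIndependent F g) (t : Fin k → F) :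
    ∃ x : E, ∀ i, ℓ (g i * x) = t i := by
  obtain ⟨x, hx⟩ := exists_solve (ℓ.comp (LinearMap.mulLeft F x0)) (by
    change ℓ (x0 * 1) ≠ 0
    rwa [mul_one]) hg t
  refine ⟨x0 * x, fun i => ?_⟩
  rw [← hx i]
  change _ = ℓ (x0 * (g i * x))
  congr 1
  ring

/-- The data lemma. -/
theorem data (hA : B.IsAlt) (hf : ∀ u v, B (f u) (f v) = B u v)
    (hN : f ^ (Fintype.card F ^ j + 1) = 1) {P : F[X]} (hP : Irreducible P) {w : V}
    (hPw : aeval f P w = 0) (hww : B (f w) w ≠ 0) (hd : 3 ≤ P.natDegree) (T1 T2 : F) :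
    ∃ v, aeval f P v = 0 ∧ B (f v) v = T1 ∧ B (f (f v)) v = T2 := by
  classical
  have : Fact (Irreducible P) := ⟨hP⟩
  have hw0 : w ≠ 0 := by
    rintro rfl
    exact hww (map_zero _)
  -- the annihilator of `w`
  have hann : ∀ a : F[X], aeval f a w = 0 → P ∣ a := by
    intro a ha
    by_contra hcon
    obtain ⟨A, B, hAB⟩ := (hP.coprime_iff_not_dvd (n := a)).2 hcon
    apply hw0
    have := congrArg (fun r => aeval f r w) hAB
    simp only [map_add, LinearMap.add_apply, map_one, Module.End.one_apply, map_mul,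
      Module.End.mul_apply, ha, hPw, map_zero, add_zero] at this
    exact this.symm
  have hker : ∀ a : F[X], P ∣ a → aeval f a w = 0 := by
    rintro _ ⟨b, rfl⟩
    rw [mul_comm, map_mul, Module.End.mul_apply, hPw, map_zero]
  -- the functional
  have hsurj : Function.Surjective (AdjoinRoot.mk P) := AdjoinRoot.mk_surjective
  let rep : AdjoinRoot P → F[X] := Function.surjInv hsurj
  have hrep : ∀ x, AdjoinRoot.mk P (rep x) = x := Function.surjInv_eq hsurj
  have hmk : ∀ a : F[X], aeval f (rep (AdjoinRoot.mk P a)) w = aeval f a w := by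
    intro a
    have h1 : AdjoinRoot.mk P (rep (AdjoinRoot.mk P a) - a) = 0 := by
      rw [map_sub, hrep, sub_self]
    have h2 := hker _ (AdjoinRoot.mk_eq_zero.1 h1)
    rw [map_sub, LinearMap.sub_apply] at h2
    exact sub_eq_zero.1 h2
  let ℓ : AdjoinRoot P →ₗ[F] F :=
    { toFun := fun x => B (aeval f (rep x) w) w
      map_add' := fun x y => by
        have := hmk (rep x + rep y)
        rw [map_add, hrep, hrep, map_add, LinearMap.add_apply] at this
        rw [this, map_add, LinearMap.add_apply]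
      map_smul' := fun c x => by
        have := hmk (c • rep x)
        rw [← AdjoinRoot.smul_mk, hrep, map_smul, LinearMap.smul_apply] at this
        rw [this, RingHom.id_apply, map_smul, LinearMap.smul_apply] }
  have hℓ : ∀ a : F[X], ℓ (AdjoinRoot.mk P a) = B (aeval f a w) w := by
    intro a
    change B (aeval f (rep (AdjoinRoot.mk P a)) w) w = _
    rw [hmk]
  set ρ := AdjoinRoot.root P with hρ
  have hℓρ : ℓ ρ ≠ 0 := by
    have := hℓ X
    rw [AdjoinRoot.mk_X, aeval_X] at this
    rw [this]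
    exact hww
  -- the involution
  let σE : AdjoinRoot P →+* AdjoinRoot P :=
    { toFun := fun x => x ^ Fintype.card F ^ j
      map_one' := one_pow _
      map_mul' := fun x y => mul_pow x y _
      map_zero' := zero_pow (pow_ne_zero _ Fintype.card_ne_zero)
      map_add' := fun x y => add_pow_q j x y }
  have hσE : ∀ x, σE x = x ^ Fintype.card F ^ j := fun _ => rfl
  have hσF : ∀ t : F, σE (algebraMap F _ t) = algebraMap F _ t := by
    intro t
    rw [hσE, ← map_pow, FiniteField.pow_card_pow]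
  have hroot : ρ ^ (Fintype.card F ^ j + 1) = 1 := by
    have h1 : P ∣ X ^ (Fintype.card F ^ j + 1) - 1 := by
      apply hann
      rw [map_sub, map_pow, aeval_X, hN, map_one, sub_self]
      rfl
    have h2 := AdjoinRoot.mk_eq_zero.2 h1
    rw [map_sub, map_pow, AdjoinRoot.mk_X, map_one] at h2
    exact sub_eq_zero.1 h2
  have hρ0 : ρ ≠ 0 := by
    intro h
    rw [h, zero_pow (by omega)] at hroot
    exact zero_ne_one hroot
  have hσρ : σE ρ = ρ⁻¹ := by
    apply eq_inv_of_mul_eq_one_left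
    rw [hσE, ← pow_succ, hroot]
  have hσρ' : σE ρ⁻¹ = ρ := by rw [map_inv₀, hσρ, inv_inv]
  have hσσ : ∀ x, σE (σE x) = x := by
    have h1 : ((σE.comp σE).comp (AdjoinRoot.mk P)) = AdjoinRoot.mk P := by
      apply Polynomial.ringHom_ext
      · intro a
        change σE (σE (AdjoinRoot.mk P (C a))) = _
        rw [AdjoinRoot.mk_C, ← AdjoinRoot.algebraMap_eq, hσF, hσF]
      · change σE (σE (AdjoinRoot.mk P X)) = _
        rw [AdjoinRoot.mk_X, hσρ, hσρ']
    intro x
    obtain ⟨a, rfl⟩ := hsurj x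
    exact RingHom.congr_fun h1 a
  -- independence
  have hli := li_root (P := P) (k := 3) hd
  have hli' : ∀ x y z : F, algebraMap F (AdjoinRoot P) x + algebraMap F _ y * ρ
      + algebraMap F _ z * ρ ^ 2 = 0 → x = 0 ∧ y = 0 ∧ z = 0 := by
    intro x y z h
    have h1 := Fintype.linearIndependent_iff.1 hli ![x, y, z] (by
      rw [Fin.sum_univ_three, ← h]
      simp [Algebra.smul_def, hρ])
    exact ⟨h1 0, h1 1, h1 2⟩
  have hρ2 : ρ ^ 2 ≠ 1 := by
    intro h
    have := hli' (-1) 0 1 (by rw [h, map_neg, map_one, map_zero]; ring)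
    exact one_ne_zero this.2.2
  have hσne : σE ≠ RingHom.id _ := by
    intro h
    apply hρ2
    have h1 := RingHom.congr_fun h ρ
    rw [hσρ, RingHom.id_apply] at h1
    rw [pow_two]
    nth_rw 1 [← h1]
    rw [inv_mul_cancel₀ hρ0]
  have hℓσ : ∀ x, ℓ (σE x) = -ℓ x := by
    intro x
    obtain ⟨a, rfl⟩ := hsurj x
    rw [hσE, ← map_pow, hℓ, hℓ, ← form_aeval' hA hf hN, LinearMap.IsAlt.neg hA]
  have hρi : ρ⁻¹ * ρ = 1 := inv_mul_cancel₀ hρ0
  have hgli : LinearIndependent F ![ρ - ρ⁻¹, ρ ^ 2 - ρ⁻¹ ^ 2] := by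
    rw [Fintype.linearIndependent_iff]
    intro g hg
    rw [Fin.sum_univ_two] at hg
    simp only [Matrix.cons_val_zero, Matrix.cons_val_one, Algebra.smul_def] at hg
    have h1 : ρ - ρ⁻¹ ≠ 0 := by
      intro h
      apply hρ2
      rw [sub_eq_zero] at h
      rw [pow_two]
      nth_rw 1 [h]
      exact hρi
    have h2 : (ρ - ρ⁻¹) * (algebraMap F (AdjoinRoot P) (g 1) + algebraMap F _ (g 0) * ρ
        + algebraMap F _ (g 1) * ρ ^ 2) = 0 := by
      linear_combination ρ * hg + (algebraMap F _ (g 1) * (ρ⁻¹ * 1 - ρ)) * hρi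
    obtain ⟨h3, h4, -⟩ := hli' _ _ _ ((mul_eq_zero.1 h2).resolve_left h1)
    intro i
    fin_cases i
    · exact h4
    · exact h3
  obtain ⟨z, hz⟩ := exists_solve' ℓ hℓρ hgli ![T1, T2]
  have hz1 : ℓ ((ρ - ρ⁻¹) * z) = T1 := hz 0
  have hz2 : ℓ ((ρ ^ 2 - ρ⁻¹ ^ 2) * z) = T2 := hz 1
  set y := z + σE z with hy
  have hσy : σE y = y := by rw [hy, map_add, hσσ, add_comm]
  have hyk : ∀ k : ℕ, ℓ (ρ ^ k * y) = ℓ ((ρ ^ k - ρ⁻¹ ^ k) * z) := by
    intro k
    have h1 : ρ ^ k * y = ρ ^ k * z + σE (ρ⁻¹ ^ k * z) := by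
      rw [map_mul, map_pow, hσρ', hy]
      ring
    rw [h1, map_add, hℓσ, sub_mul, map_sub, sub_eq_add_neg]
  -- the norm equation
  have hfin : Finite (AdjoinRoot P) := by
    have : FiniteDimensional F (AdjoinRoot P) :=
      (AdjoinRoot.powerBasis hP.ne_zero).finite
    exact Module.finite_of_finite F
  obtain ⟨b, hb⟩ : ∃ b, b * σE b = y := by
    by_cases hy0 : y = 0
    · exact ⟨0, by rw [zero_mul, hy0]⟩
    · obtain ⟨b, -, hb⟩ := ClassicalGeometry.HermWitt.norm_surj σE hσne hσσ y hσy hy0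
      exact ⟨b, hb⟩
  obtain ⟨β, rfl⟩ := hsurj b
  have hval : ∀ k : ℕ, B ((f ^ k) (aeval f β w)) (aeval f β w) = ℓ (ρ ^ k * y) := by
    intro k
    rw [form_aeval' hA hf hN, ← hb, hσE]
    have h1 : aeval f (β ^ Fintype.card F ^ j) ((f ^ k) (aeval f β w))
        = aeval f (X ^ k * (β * β ^ Fintype.card F ^ j)) w := by
      rw [show X ^ k * (β * β ^ Fintype.card F ^ j) = β ^ Fintype.card F ^ j * (X ^ k * β) by ring,
        map_mul, map_mul, map_pow (aeval f) X, aeval_X, Module.End.mul_apply, Module.End.mul_apply]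
    rw [h1, ← hℓ]
    congr 1
  refine ⟨aeval f β w, ?_, ?_, ?_⟩
  · rw [← Module.End.mul_apply, ← map_mul, mul_comm, map_mul, Module.End.mul_apply, hPw, map_zero]
  · have h1 := hval 1
    rw [hyk, pow_one, pow_one, pow_one, hz1] at h1
    exact h1
  · have h1 := hval 2
    rw [hyk, hz2] at h1
    rw [← h1, pow_two]
    rfl

end Cfsg.Agent.H957.T5S
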