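import Cfsg.Agent.H957.T5U6
import Cfsg.Agent.H957.T5U8

/-!
# Irreducible factors; elements of type 2; number theory
-/

set_option autoImplicit false

namespace Cfsg.Agent.H957.T5U

open Cfsg Cfsg.Agent.LieClassical.HermBasic Cfsg.Agent.LieClassical.HermSiegel
open Cfsg.Agent.H957.T5V Cfsg.Agent.H957.T5Conf Cfsg.Agent.H957.T5Pairs
open Polynomial

section poly

variable {F V : Type*} [Field F] [AddCommGroup V] [Module F V]

/-- An irreducible factor with non-trivial kernel. -/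
theorem exists_factor {f : Module.End F V} (R : F[X]) (hR : R ≠ 0) {u : V} (hu : u ≠ 0)
    (h : aeval f R u = 0) :
    ∃ P, Irreducible P ∧ P ∣ R ∧ ∃ w, w ≠ 0 ∧ aeval f P w = 0 := by
  induction R using WfDvdMonoid.induction_on_irreducible generalizing u with
  | zero => exact absurd rfl hR
  | unit R hRu =>
    exfalso
    apply hu
    obtain ⟨S, hS⟩ := hRu.exists_left_inv
    have := congrArg (fun r => aeval f r u) hS
    simp only [map_mul, Module.End.mul_apply, h, map_zero, map_one, Module.End.one_apply] at this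
    exact this.symm
  | mul R P hR0 hP ih =>
    by_cases h1 : aeval f R u = 0
    · obtain ⟨P', h2, h3, h4⟩ := ih hR0 hu h1
      exact ⟨P', h2, h3.mul_left _, h4⟩
    · refine ⟨P, hP, dvd_mul_right _ _, _, h1, ?_⟩
      rw [← Module.End.mul_apply, ← map_mul]
      exact h

/-- A nontrivial operator of prime order has an irreducible cyclotomic factor. -/
theorem exists_cyc_factor {f : Module.End F V} {p : ℕ} (hp : p.Prime) (hf : f ^ p = 1)
    (h1 : f ≠ 1) : ∃ P, Irreducible P ∧ P ∣ cyclotomic p F ∧ ∃ w, w ≠ 0 ∧ aeval f P w = 0 := by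
  have : Fact p.Prime := ⟨hp⟩
  obtain ⟨v, hv⟩ : ∃ v, f v ≠ v := by
    by_contra hcon
    push Not at hcon
    exact h1 (LinearMap.ext hcon)
  refine exists_factor (cyclotomic p F) (cyclotomic_ne_zero p F) (sub_ne_zero.2 hv) ?_
  have h2 : aeval f (cyclotomic p F * (X - 1)) = 0 := by
    rw [cyclotomic_prime_mul_X_sub_one, map_sub, map_pow, aeval_X, map_one, hf, sub_self]
  have h3 : f v - v = aeval f (X - 1 : F[X]) v := by
    rw [map_sub, aeval_X, map_one]
    rfl
  rw [h3, ← Module.End.mul_apply, ← map_mul, h2]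
  rfl

end poly

variable {F : Type} [Field F] [Fintype F] {n q p : ℕ} {c : Equiv.Perm (Fin n → F)}

theorem natDegree_cyc (hF : Fintype.card F = q ^ 2) (hp : p.Prime) (hpF : (p : F) ≠ 0)
    {P : F[X]} (hP : Irreducible P) (hd : P ∣ cyclotomic p F) :
    P.natDegree = orderOf ((q : ZMod p) ^ 2) := by
  obtain ⟨r, hr⟩ := CharP.exists F
  obtain ⟨k, hrp, hk⟩ := FiniteField.card F r
  have : Fact r.Prime := ⟨hrp⟩
  have hcop : r.Coprime p := by
    rw [Nat.coprime_primes hrp hp]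
    rintro rfl
    exact hpF (CharP.cast_eq_zero F r)
  rw [Polynomial.natDegree_of_dvd_cyclotomic_of_irreducible hk hcop hd hP, ← orderOf_units,
    ZMod.coe_unitOfCoprime, ← hk, hF]
  push_cast
  rfl

/-- `p (q + 1) ∣ q ^ p + 1` if `p ∣ q + 1`. -/
theorem dvd_pow_add (hp : p.Prime) (hp2 : p ≠ 2) (h : p ∣ q + 1) : p * (q + 1) ∣ q ^ p + 1 := by
  have h1 : ((p * (q + 1) : ℕ) : ℤ) ∣ ((q ^ p + 1 : ℕ) : ℤ) := by
    obtain ⟨k, hk⟩ := (Polynomial.powAddExpansion (-1 : ℤ) ((q : ℤ) + 1) p)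
    obtain ⟨m, hm⟩ := h
    have hm' : (q : ℤ) + 1 = p * m := by exact_mod_cast hm
    have hodd := hp.odd_of_ne_two hp2
    have he : Even (p - 1) := by
      obtain ⟨a, ha⟩ := hodd
      exact ⟨a, by omega⟩
    rw [hodd.neg_one_pow, he.neg_one_pow, show (-1 : ℤ) + ((q : ℤ) + 1) = q by ring] at hk
    refine ⟨1 + k * m, ?_⟩
    push_cast
    rw [hk]
    linear_combination (k * ((q : ℤ) + 1)) * hm'
  exact_mod_cast h1

/-- Elements of type 2 have all data. -/
theorem nt_two (_ : Fintype.card F = q ^ 2) (hn : 0 < n) (hp : p.Prime) (hp2 : p ≠ 2)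
    (hpq : p ∣ q + 1) (hc : SI q (1 : F ≃+* F) c) {l : F} (hll : l * l ^ q = 1)
    (hl : ∀ v, (c ^ p) v = l • v) (hlp : ∀ t : F, t ^ p ≠ l) : NT q p c (X ^ p - C l) := by
  have hl0 : l ≠ 0 := by
    rintro rfl
    rw [zero_mul] at hll
    exact zero_ne_one hll
  obtain ⟨f, hf, hfc⟩ := exists_end hc.semi
  refine ⟨⟨(f : Module.End F (Fin n → F)), p, l, Pi.single ⟨0, hn⟩ 1, hf, hp.odd_of_ne_two hp2, ?_,
    hl0, hl, dvd_rfl, ?_, ?_⟩, X_pow_sub_C_irreducible_of_prime hp hlp⟩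
  · obtain ⟨k, hk⟩ := dvd_pow_add hp hp2 hpq
    rw [hk, mul_assoc, pow_mul]
    have h1 : ∀ m v, ((c ^ p) ^ m) v = l ^ m • v := by
      intro m
      induction m with
      | zero => intro v; simp
      | succ m ih =>
        intro v
        rw [pow_succ, Equiv.Perm.mul_apply, ih, hl, smul_smul, pow_succ]
    ext1 v
    rw [h1, pow_mul, pow_succ' l q, hll, one_pow, one_smul]
    rfl
  · intro h
    have := congrFun h ⟨0, hn⟩
    simp at this
  · rw [map_sub, map_pow, aeval_X, aeval_C, LinearMap.sub_apply, Module.algebraMap_end_apply,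
      pow_end hf, hl, sub_self]

/-- The numbers in case `N`. -/
theorem deg_data (hp : p.Prime) (hp5 : 5 ≤ p) (hpq : ¬ p ∣ q ^ 2 - 1) {j : ℕ} (hj : Odd j)
    (h : p ∣ q ^ j + 1) (hq : 0 < q) {m : ℕ} (hm : m = orderOf ((q : ZMod p) ^ 2)) :
    5 ≤ m ∨ (m = 3 ∧ q ≠ 2 ∧ q ≠ 2 ^ p) := by
  have : Fact p.Prime := ⟨hp⟩
  have h1 : (q : ZMod p) ^ j = -1 := by
    have h2 := (ZMod.natCast_eq_zero_iff (q ^ j + 1) p).2 h
    push_cast at h2
    exact eq_neg_of_add_eq_zero_left h2
  have h2 : ((q : ZMod p) ^ 2) ^ j = 1 := by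
    rw [← pow_mul, mul_comm, pow_mul, h1]
    ring
  have hmj : m ∣ j := hm ▸ orderOf_dvd_of_pow_eq_one h2
  have hodd : Odd m := hj.of_dvd_nat hmj
  have hm1 : m ≠ 1 := by
    intro h3
    rw [h3] at hm
    have h4 := orderOf_eq_one_iff.1 hm.symm
    apply hpq
    rw [← ZMod.natCast_eq_zero_iff, Nat.cast_sub (Nat.one_le_pow _ _ hq)]
    push_cast
    rw [h4, sub_self]
  obtain ⟨a, ha⟩ := hodd
  by_cases h5 : 5 ≤ m
  · exact Or.inl h5
  · right
    have hm3 : m = 3 := by omega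
    have h6 : ((q : ZMod p) ^ 2) ^ 3 = 1 := by rw [← hm3, hm, pow_orderOf_eq_one]
    have h7 : ((q : ZMod p) ^ 3 - 1) * ((q : ZMod p) ^ 3 + 1) = 0 := by linear_combination h6
    obtain ⟨k, hk⟩ := hmj
    have hkodd : Odd k := by
      rw [hk] at hj
      exact (Nat.odd_mul.1 hj).2
    have hne : (-1 : ZMod p) ≠ 1 := by
      intro h8
      have h9 : ((2 : ℕ) : ZMod p) = 0 := by
        push_cast
        linear_combination -h8
      have := Nat.le_of_dvd (by norm_num) ((ZMod.natCast_eq_zero_iff 2 p).1 h9)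
      omega
    have h8 : (q : ZMod p) ^ 3 = -1 := by
      rcases mul_eq_zero.1 h7 with h9 | h9
      · exfalso
        apply hne
        rw [← h1, hk, hm3, pow_mul, sub_eq_zero.1 h9, one_pow]
      · exact eq_neg_of_add_eq_zero_left h9
    have key : (2 : ZMod p) ^ 3 ≠ -1 := by
      intro h9
      have h10 : ((9 : ℕ) : ZMod p) = 0 := by
        push_cast
        linear_combination h9
      have h11 := (ZMod.natCast_eq_zero_iff 9 p).1 h10
      rw [show 9 = 3 ^ 2 by norm_num] at h11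
      have := (Nat.prime_dvd_prime_iff_eq hp Nat.prime_three).1 (hp.dvd_of_dvd_pow h11)
      omega
    refine ⟨hm3, ?_, ?_⟩
    · rintro rfl
      exact key (by exact_mod_cast h8)
    · rintro rfl
      apply key
      rw [← h8]
      push_cast
      rw [ZMod.pow_card]

/-- Nontrivial linear isometries of order `p` in case `N`. -/
theorem nt_one (hF : Fintype.card F = q ^ 2) (hp : p.Prime) (hpF : (p : F) ≠ 0) {j : ℕ}
    (hj : Odd j) (hpj : p ∣ q ^ j + 1) (hc : SI q (1 : F ≃+* F) c) (hcp : c ^ p = 1)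
    (hns : ¬ IsScal F c) :
    ∃ P, NT q p c P ∧ P.natDegree = orderOf ((q : ZMod p) ^ 2) := by
  obtain ⟨f, hf, hfc⟩ := exists_end hc.semi
  have hfp : (f : Module.End F (Fin n → F)) ^ p = 1 := by
    refine LinearMap.ext fun v => ?_
    rw [pow_end hf, hcp]
    rfl
  obtain ⟨P, hP, hPd, w, hw, hPw⟩ := exists_cyc_factor hp hfp (by
    intro h
    apply hns
    refine ⟨1, fun v => ?_⟩
    rw [← hf]
    have := LinearMap.congr_fun h v
    exact this.trans (one_smul F v).symm)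
  refine ⟨P, ⟨⟨f, j, 1, w, hf, hj, ?_, one_ne_zero, ?_, ?_, hw, hPw⟩, hP⟩,
    natDegree_cyc hF hp hpF hP hPd⟩
  · obtain ⟨k, hk⟩ := hpj
    rw [hk, pow_mul, hcp, one_pow]
  · intro v
    rw [hcp, one_smul]
    rfl
  · have : Fact p.Prime := ⟨hp⟩
    rw [C_1, ← cyclotomic_prime_mul_X_sub_one F p]
    exact hPd.mul_right _

end Cfsg.Agent.H957.T5U
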