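import Cfsg.Agent.H957.T5Sp1
import Cfsg.Agent.H957.T5Sp2
import Cfsg.Agent.H957.T5U12
import Cfsg.Agent.H957.InvU5

/-!
# Configurations and types of linear isometries of order `p` (T5, row PSp)
-/

set_option autoImplicit false

namespace Cfsg.Agent.H957.T5S

open Cfsg.Agent.H957.T5V Cfsg.Agent.H957.T5Conf Cfsg.Agent.H957.T5Pairs
open Cfsg.Agent.H957.T5U (exists_cyc_factor)
open Polynomial

variable {F V : Type} [Field F] [AddCommGroup V] [Module F V]
variable {B : LinearMap.BilinForm F V} {p : ℕ} {τ : F ≃+* F} {c d : Equiv.Perm V}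

/-- All data are realised. -/
def Dt (B : LinearMap.BilinForm F V) (c : Equiv.Perm V) : Prop :=
  ∀ T1 T2 : F, (T1 ≠ 0 ∨ T2 ≠ 0) → ∃ v, B (c v) v = T1 ∧ B (c (c v)) v = T2 ∧
    LinearIndependent F ![v, c v, c (c v)]

/-- Inputs of configuration R. -/
def RI (B : LinearMap.BilinForm F V) (d : Equiv.Perm V) : Prop :=
  ∃ u0 u1, d u1 = u1 ∧ B u1 u0 = 0 ∧ B u1 (d u0) = 0 ∧ B u0 (d u0) ≠ 0 ∧
    LinearIndependent F ![u1, u0, d u0]

theorem gram3 (hA : B.IsAlt) {a b : Fin 3 → V} (h01 : B (a 0) (a 1) = B (b 0) (b 1))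
    (h02 : B (a 0) (a 2) = B (b 0) (b 2)) (h12 : B (a 1) (a 2) = B (b 1) (b 2)) (i j : Fin 3) :
    B (a i) (a j) = B (b i) (b j) := by
  have h0 : ∀ x, B x x = 0 := hA
  have hs : ∀ x y, B x y = -B y x := fun x y => (LinearMap.IsAlt.neg hA y x).symm
  fin_cases i <;> fin_cases j <;> simp only [Fin.zero_eta, Fin.mk_one, Fin.reduceFinMk, h0]
  · exact h01
  · exact h02
  · rw [hs, h01, ← hs]
  · exact h12
  · rw [hs, h02, ← hs]
  · rw [hs, h12, ← hs]

theorem sp_K [FiniteDimensional F V] (hB : B.Nondegenerate) (hA : B.IsAlt) (hpF : (p : F) ≠ 0)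
    (hc : Semi (1 : F ≃+* F) c) (hd : Semi (1 : F ≃+* F) d) (hcB : ∀ u v, B (c u) (c v) = B u v)
    (hdB : ∀ u v, B (d u) (d v) = B u v) (h1 : Dt B c) (h2 : Dt B d) : SP B p c d := by
  obtain ⟨w, w1, w2, hw⟩ := h1 1 0 (Or.inl one_ne_zero)
  obtain ⟨u, u1, u2, hu⟩ := h2 (-1) (-1) (Or.inl (neg_ne_zero.2 one_ne_zero))
  have hs : ∀ x y, B x y = -B y x := fun x y => (LinearMap.IsAlt.neg hA y x).symm
  have h0 : ∀ x, B x x = 0 := hA
  refine sp_of_family hB hA hd (a := ![u, d u, d (d u)]) (b := ![c (c w), c w, w + c w]) hu ?_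
    (gram3 hA ?_ ?_ ?_) ?_
  · rw [li3_iff] at hw ⊢
    intro x y z h
    obtain ⟨h3, h4, h5⟩ := hw z (y + z) x (by rw [← h]; module)
    subst h3
    refine ⟨h5, ?_, rfl⟩
    rwa [add_zero] at h4
  · change B u (d u) = B (c (c w)) (c w)
    rw [hcB, w1, hs, u1, neg_neg]
  · change B u (d (d u)) = B (c (c w)) (w + c w)
    rw [map_add, hcB, w1, w2, hs, u2, neg_neg, zero_add]
  · change B (d u) (d (d u)) = B (c w) (w + c w)
    rw [map_add, h0, w1, hdB, hs, u1, neg_neg, add_zero]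
  · intro d' hd' g hg hgd m
    have e0 : g u = c (c w) := hg 0
    have e1 : g (d u) = c w := hg 1
    have e2 : g (d (d u)) = w + c w := hg 2
    refine not_scal_jordan (hc.mul hd') (v0 := c (c w)) (v1 := c w) ?_ ?_ ?_ (cast_pow_ne hpF m)
    · exact hw.ne_zero 2
    · rw [Equiv.Perm.mul_apply]
      conv_lhs => rw [← e0, hgd, e1]
    · rw [Equiv.Perm.mul_apply]
      conv_lhs => rw [← e1, hgd, e2, hc.add]

theorem sp_R [FiniteDimensional F V] (hB : B.Nondegenerate) (hA : B.IsAlt) (hpF : (p : F) ≠ 0)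
    (hc : Semi (1 : F ≃+* F) c) (hd : Semi τ d) (hcB : ∀ u v, B (c u) (c v) = B u v)
    (h1 : Dt B c) (h2 : RI B d) : SP B p c d := by
  obtain ⟨u0, u1, hu1, n0, n1, hβ, hu⟩ := h2
  obtain ⟨w, w1, w2, hw⟩ := h1 0 (-B u0 (d u0)) (Or.inr (neg_ne_zero.2 hβ))
  have hs : ∀ x y, B x y = -B y x := fun x y => (LinearMap.IsAlt.neg hA y x).symm
  have h0 : ∀ x, B x x = 0 := hA
  refine sp_of_family hB hA hd (a := ![u1, u0, d u0]) (b := ![c w, c (c w) - c w, c w - w]) hu ?_
    (gram3 hA ?_ ?_ ?_) ?_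
  · rw [li3_iff] at hw ⊢
    intro x y z h
    obtain ⟨h3, h4, h5⟩ := hw (-z) (x - y + z) y (by rw [← h]; module)
    have h3' : z = 0 := neg_eq_zero.1 h3
    subst h3' h5
    refine ⟨?_, rfl, rfl⟩
    simpa using h4
  · change B u1 u0 = B (c w) (c (c w) - c w)
    rw [map_sub, h0, sub_zero, hcB, hs w, w1, n0, neg_zero]
  · change B u1 (d u0) = B (c w) (c w - w)
    rw [map_sub, h0, w1, n1, sub_zero]
  · change B u0 (d u0) = B (c (c w) - c w) (c w - w)
    rw [map_sub, map_sub, LinearMap.sub_apply, LinearMap.sub_apply, hcB, w1, w2, h0]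
    ring
  · intro d' hd' g hg hgd m
    have e0 : g u1 = c w := hg 0
    have e1 : g u0 = c (c w) - c w := hg 1
    have e2 : g (d u0) = c w - w := hg 2
    have hne : c (c w) - c w ≠ 0 := by
      intro h
      rw [li3_iff] at hw
      have := hw 0 (-1) 1 (by rw [← h]; module)
      exact one_ne_zero this.2.2
    refine not_scal_jordan (hc.mul hd') (v0 := c (c w) - c w) (v1 := c w) hne ?_ ?_
      (cast_pow_ne hpF m)
    · rw [Equiv.Perm.mul_apply]
      conv_lhs => rw [← e1, hgd, e2, hc.sub]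
    · rw [Equiv.Perm.mul_apply]
      conv_lhs => rw [← e0, hgd, hu1, e0]
      rw [add_sub_cancel]

/-! ### Types of linear isometries -/

/-- Families spanning a given subspace. -/
theorem gm_of_sub {k : ℕ} {G : Fin k → Fin k → F} {b : Fin k → V} (hb : LinearIndependent F b)
    (hG : ∀ i j, B (b i) (b j) = G i j) {W : Submodule F V}
    (hW : Submodule.span F (Set.range b) = W) (hcW : ∀ w ∈ W, c w ∈ W)
    (hn : ¬ ∃ t : F, ∀ w ∈ W, c w = t • w) : Gm B G c := by
  subst hW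
  exact ⟨b, hb, hG, hcW, hn⟩

variable [Fintype F]

omit [AddCommGroup V] [Module F V] in
theorem natDegree_cyc (hp : p.Prime) (hpF : (p : F) ≠ 0)
    {P : F[X]} (hP : Irreducible P) (hd : P ∣ cyclotomic p F) :
    P.natDegree = orderOf ((Fintype.card F : ℕ) : ZMod p) := by
  obtain ⟨r, hr⟩ := CharP.exists F
  obtain ⟨k, hrp, hk⟩ := FiniteField.card F r
  have : Fact r.Prime := ⟨hrp⟩
  have hcop : r.Coprime p := by
    rw [Nat.coprime_primes hrp hp]
    rintro rfl
    exact hpF (CharP.cast_eq_zero F r)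
  rw [Polynomial.natDegree_of_dvd_cyclotomic_of_irreducible hk hcop hd hP, ← orderOf_units,
    ZMod.coe_unitOfCoprime, ← hk]

/-- The hypotheses on a linear element. -/
structure LI1 (B : LinearMap.BilinForm F V) (p : ℕ) (c : Equiv.Perm V) : Prop where
  semi : Semi (1 : F ≃+* F) c
  form : ∀ u v, B (c u) (c v) = B u v
  cp : c ^ p = 1
  ne : c ≠ 1

omit [Fintype F] in
theorem LI1.get (h : LI1 B p c) : ∃ f : Module.End F V, (∀ v, f v = c v) ∧
    (∀ m v, (f ^ m) v = (c ^ m) v) ∧ (∀ u v, B (f u) (f v) = B u v) ∧ f ^ p = 1 ∧ f ≠ 1 := by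
  obtain ⟨f, hf, -⟩ := exists_end h.semi
  refine ⟨(f : Module.End F V), hf, pow_end hf, ?_, ?_, ?_⟩
  · intro u v
    change B (f u) (f v) = _
    rw [hf, hf, h.form]
  · refine LinearMap.ext fun v => ?_
    rw [pow_end hf, h.cp]
    rfl
  · intro h1
    apply h.ne
    ext1 v
    rw [← hf]
    exact LinearMap.congr_fun h1 v

/-- `p ∣ q - 1`. -/
theorem gm_split [FiniteDimensional F V] (hB : B.Nondegenerate) (hp : p.Prime) (hp2 : p ≠ 2)
    (hpq : p ∣ Fintype.card F - 1) (h : LI1 B p c) (hA : B.IsAlt) : Gm B hyp c := by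
  have : Fact p.Prime := ⟨hp⟩
  obtain ⟨f, hf, hfm, hfB, hfp, hf1⟩ := h.get
  obtain ⟨b, η, hb⟩ := Cfsg.Agent.H957.T5Lin.exists_eigenbasis (κ := Fin (Module.finrank F V))
    (by rw [Nat.card_eq_fintype_card]; exact hpq) one_ne_zero
    (f := f) (p := p) (by rw [hfp, one_pow, one_smul]) (Fintype.card_fin _)
  obtain ⟨i, hi⟩ : ∃ i, η i ≠ 1 := by
    by_contra hcon
    push Not at hcon
    apply hf1
    refine b.ext fun i => ?_
    rw [hb, hcon, one_smul]
    rfl
  obtain ⟨j, hj⟩ : ∃ j, B (b i) (b j) ≠ 0 := by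
    by_contra hcon
    push Not at hcon
    have h1 : B (b i) = 0 := b.ext fun j => by rw [hcon]; rfl
    exact b.ne_zero i (hB.1 _ fun y => by rw [h1]; rfl)
  have hij : η i * η j = 1 := by
    have h1 := hfB (b i) (b j)
    rw [hb, hb, map_smul, map_smul, LinearMap.smul_apply, smul_eq_mul, smul_eq_mul] at h1
    have h2 : (η i * η j - 1) * B (b i) (b j) = 0 := by linear_combination h1
    exact sub_eq_zero.1 ((mul_eq_zero.1 h2).resolve_right hj)
  have hpi : η i ^ p = 1 := by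
    have h1 : ∀ m : ℕ, (f ^ m) (b i) = η i ^ m • b i := by
      intro m
      induction m with
      | zero => simp
      | succ m ih =>
        rw [pow_succ', Module.End.mul_apply, ih, map_smul, hb, smul_smul, pow_succ]
    have h2 := h1 p
    rw [hfp] at h2
    have h3 : (η i ^ p - 1) • b i = 0 := by rw [sub_smul, one_smul, ← h2, Module.End.one_apply,
      sub_self]
    exact sub_eq_zero.1 ((smul_eq_zero.1 h3).resolve_right (b.ne_zero i))
  have hne : η i ≠ η j := by
    intro h1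
    apply hi
    rw [← h1] at hij
    obtain ⟨k, hk⟩ := hp.odd_of_ne_two hp2
    rw [hk, pow_succ, pow_mul, pow_two, hij, one_pow, one_mul] at hpi
    exact hpi
  set s := B (b i) (b j) with hs
  have hspan : ∀ w ∈ Submodule.span F (Set.range ![s⁻¹ • b i, b j]),
      ∃ x y : F, w = x • b i + y • b j := by
    intro w hw
    induction hw using Submodule.span_induction with
    | mem w hw =>
      obtain ⟨k, rfl⟩ := hw
      fin_cases k
      · exact ⟨s⁻¹, 0, by simp⟩
      · exact ⟨0, 1, by simp⟩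
    | zero => exact ⟨0, 0, by simp⟩
    | add w w' _ _ h h' =>
      obtain ⟨x, y, rfl⟩ := h
      obtain ⟨x', y', rfl⟩ := h'
      exact ⟨x + x', y + y', by module⟩
    | smul a w _ h =>
      obtain ⟨x, y, rfl⟩ := h
      exact ⟨a * x, a * y, by module⟩
  have hmem1 : b i ∈ Submodule.span F (Set.range ![s⁻¹ • b i, b j]) := by
    have h1 : s⁻¹ • b i ∈ Submodule.span F (Set.range ![s⁻¹ • b i, b j]) :=
      Submodule.subset_span ⟨0, rfl⟩
    have h2 := Submodule.smul_mem _ s h1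
    rwa [smul_smul, mul_inv_cancel₀ hj, one_smul] at h2
  have hmem2 : b j ∈ Submodule.span F (Set.range ![s⁻¹ • b i, b j]) :=
    Submodule.subset_span ⟨1, rfl⟩
  have h0 : ∀ x, B x x = 0 := hA
  have hsw : ∀ x y, B x y = -B y x := fun x y => (LinearMap.IsAlt.neg hA y x).symm
  have hbij : i ≠ j := by
    rintro rfl
    exact hne rfl
  refine ⟨![s⁻¹ • b i, b j], ?_, ?_, ?_, ?_⟩
  · rw [li2_iff]
    intro x y hxy
    have h1 := congrArg (fun v => B v (b j)) hxy
    have h2 := congrArg (fun v => B (b i) v) hxy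
    simp only [map_add, map_smul, LinearMap.add_apply, LinearMap.smul_apply, smul_eq_mul, h0,
      ← hs, map_zero, LinearMap.zero_apply, mul_zero, add_zero, zero_add] at h1 h2
    rw [inv_mul_cancel₀ hj, mul_one] at h1
    exact ⟨h1, (mul_eq_zero.1 h2).resolve_right hj⟩
  · intro k l
    fin_cases k <;> fin_cases l <;> simp only [Fin.zero_eta, Fin.mk_one, hyp,
      Matrix.cons_val_zero, Matrix.cons_val_one, h0]
    · rw [map_smul, LinearMap.smul_apply, ← hs, smul_eq_mul, inv_mul_cancel₀ hj]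
    · rw [map_smul, hsw, ← hs, smul_eq_mul, mul_neg, inv_mul_cancel₀ hj]
  · intro w hw
    obtain ⟨x, y, rfl⟩ := hspan w hw
    rw [← hf, map_add, map_smul, map_smul, hb, hb]
    exact Submodule.add_mem _ (Submodule.smul_mem _ _ (Submodule.smul_mem _ _ hmem1))
      (Submodule.smul_mem _ _ (Submodule.smul_mem _ _ hmem2))
  · rintro ⟨t, ht⟩
    have h1 := ht _ hmem1
    have h2 := ht _ hmem2
    rw [← hf, hb] at h1 h2
    have e1 : (η i - t) • b i = 0 := by rw [sub_smul, h1, sub_self]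
    have e2 : (η j - t) • b j = 0 := by rw [sub_smul, h2, sub_self]
    have e3 := sub_eq_zero.1 ((smul_eq_zero.1 e1).resolve_right (b.ne_zero i))
    have e4 := sub_eq_zero.1 ((smul_eq_zero.1 e2).resolve_right (b.ne_zero j))
    exact hne (e3.trans e4.symm)

end Cfsg.Agent.H957.T5S
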