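import Cfsg.Agent.H957.T5U1
import Cfsg.Agent.H957.T5Main

/-!
# Transport of `mp_main` to the unitary group: invariant subspaces over a subfield; planes
-/

set_option autoImplicit false

namespace Cfsg.Agent.H957.T5U

open Cfsg Cfsg.Agent.LieClassical.HermBasic Cfsg.Agent.LieClassical.HermSiegel
open Cfsg.Agent.H957.T5V Cfsg.Agent.H957.T5Conf Cfsg.Agent.H957.T5Pairs
open Cfsg.Agent.H177.MeetPSU (rho rho_apply)

variable {F : Type} [Field F] {n q p : ℕ}
variable {σ τ : F ≃+* F} {c c' d d' : Equiv.Perm (Fin n → F)}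

theorem up_of_mp {K : Type} [Field K] [Finite K] (κ : K → F)
    {X : Type} [AddCommGroup X] [Module K X] [FiniteDimensional K X] {ι : X → (Fin n → F)}
    (hsmul : ∀ (a : K) (x : X), ι (a • x) = κ a • ι x)
    (hinj : Function.Injective ι)
    (hsc : ∀ a : F, (∀ v : X, ∃ w : X, a • ι v = ι w) → ∃ a0 : K, κ a0 = a)
    (hp : p.Prime) (hp5 : 5 ≤ p) (hX : 2 ≤ Module.finrank K X) (hpK : (p : K) ≠ 0)
    {σ0 τ0 : K ≃+* K} {c0 d0 : Equiv.Perm X} (hc0 : Semi σ0 c0) (hd0 : Semi τ0 d0)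
    (hc : Res ι c c0) (hd : Res ι d d0) (hcp : IsScal F (c ^ p)) (hdp : IsScal F (d ^ p))
    (hcn : ¬ IsScal K c0) (hdn : ¬ IsScal K d0)
    (hext : ∀ g : X ≃ₗ[K] X, LinearEquiv.det g = 1 → ∃ s : SU n F q, ∀ v, act s (ι v) = ι (g v)) :
    UP q p c d := by
  have key : ∀ (x : Equiv.Perm X) (a : F), (∀ v : X, ι (x v) = a • ι v) → IsScal K x := by
    intro x a h
    obtain ⟨a0, ha0⟩ := hsc a (fun v => ⟨x v, (h v).symm⟩)
    refine ⟨a0, fun v => hinj ?_⟩
    rw [h, hsmul, ha0]
  have hscp : ∀ {e : Equiv.Perm (Fin n → F)} {e0 : Equiv.Perm X}, Res ι e e0 →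
      IsScal F (e ^ p) → IsScal K (e0 ^ p) := by
    rintro e e0 he ⟨a, ha⟩
    exact key _ a (fun v => by rw [← he.pow p, ha])
  obtain ⟨g, hg, i, j, h⟩ := Cfsg.Agent.H957.T5Main.mp_main hp hp5 hX hpK hc0 (hscp hc hcp) hcn
    hd0 (hscp hd hdp) hdn
  obtain ⟨s, hs⟩ := hext g hg
  refine up_of_res (s := s) (g0 := toA g) (i := i) (j := j) hc hd (fun v => by
    rw [rho_apply, hs, toA_apply]) ?_
  rintro k ⟨a, ha⟩
  exact h k (key _ a ha)

/-! ### The fixed field of the bar involution -/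

variable [Fintype F]

/-- The subfield `{x | x ^ q = x}`. -/
def Kq (hF : Fintype.card F = q ^ 2) : Subfield F where
  carrier := {x | x ^ q = x}
  mul_mem' := fun {a b} ha hb => by
    change (a * b) ^ q = a * b
    rw [mul_pow, ha, hb]
  one_mem' := one_pow q
  add_mem' := fun {a b} ha hb => by
    change (a + b) ^ q = a + b
    rw [add_pow_q hF, ha, hb]
  zero_mem' := zero_pow_q hF
  neg_mem' := fun {a} ha => by
    change (-a) ^ q = -a
    rw [neg_pow_q hF, ha]
  inv_mem' := fun a ha => by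
    change a⁻¹ ^ q = a⁻¹
    rw [inv_pow, ha]

theorem mem_Kq (hF : Fintype.card F = q ^ 2) {x : F} : x ∈ Kq hF ↔ x ^ q = x := Iff.rfl

theorem map_mem_Kq (hF : Fintype.card F = q ^ 2) (σ : F ≃+* F) {x : F} (hx : x ∈ Kq hF) :
    σ x ∈ Kq hF := by
  rw [mem_Kq] at *
  rw [← map_pow, hx]

/-- The restriction of an automorphism. -/
def rK (hF : Fintype.card F = q ^ 2) (σ : F ≃+* F) : Kq hF ≃+* Kq hF where
  toFun x := ⟨σ x, map_mem_Kq hF σ x.2⟩
  invFun x := ⟨σ.symm x, map_mem_Kq hF σ.symm x.2⟩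
  left_inv x := Subtype.ext (σ.symm_apply_apply x)
  right_inv x := Subtype.ext (σ.apply_symm_apply x)
  map_mul' _ _ := Subtype.ext (map_mul σ _ _)
  map_add' _ _ := Subtype.ext (map_add σ _ _)

theorem rK_apply (hF : Fintype.card F = q ^ 2) (σ : F ≃+* F) (x : Kq hF) :
    ((rK hF σ x : Kq hF) : F) = σ x := rfl

/-- A frame: a hyperbolic plane over the small field, invariant under `c`, where `c` is not a
scalar. -/
structure Fr (hF : Fintype.card F = q ^ 2) (ε : F) (c : Equiv.Perm (Fin n → F))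
    (e f : Fin n → F) : Prop where
  ee : hermForm n F q e e = 0
  ff : hermForm n F q f f = 0
  ef : hermForm n F q e f = ε
  ce : ∃ a b : Kq hF, c e = (a : F) • e + (b : F) • f
  cf : ∃ a b : Kq hF, c f = (a : F) • e + (b : F) • f
  ns : ¬ ∃ t : F, ∀ a b : Kq hF, c ((a : F) • e + (b : F) • f) = t • ((a : F) • e + (b : F) • f)

theorem li_of_hyp (hF : Fintype.card F = q ^ 2) {ε : F} (hε : ε ≠ 0) {e f : Fin n → F}
    (ee : hermForm n F q e e = 0) (ff : hermForm n F q f f = 0) (ef : hermForm n F q e f = ε) :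
    LinearIndependent F ![e, f] := by
  rw [li2_iff]
  intro x y h
  have h1 : hermForm n F q (x • e + y • f) f = 0 := by rw [h]; exact herm_zero_left _
  have h2 : hermForm n F q e (x • e + y • f) = 0 := by rw [h]; exact herm_zero_right hF _
  rw [herm_add_left, herm_smul_left, herm_smul_left, ff, ef, mul_zero, add_zero] at h1
  rw [herm_add_right hF, herm_smul_right, herm_smul_right, ee, ef, mul_zero, zero_add] at h2
  exact ⟨(mul_eq_zero.1 h1).resolve_right hε,
    (pow_q_eq_zero hF).1 ((mul_eq_zero.1 h2).resolve_right hε)⟩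

theorem Fr.conj {hF : Fintype.card F = q ^ 2} {ε : F} {e f : Fin n → F} (h : Fr hF ε d e f)
    (s : SU n F q) : Fr hF ε (rho n F q s * d * (rho n F q s)⁻¹) (act s e) (act s f) := by
  have hc : ∀ v, (rho n F q s * d * (rho n F q s)⁻¹) (act s v) = act s (d v) := by
    intro v
    rw [Equiv.Perm.mul_apply, Equiv.Perm.mul_apply]
    have h1 : (rho n F q s)⁻¹ (act s v) = v := by rw [← rho_apply, inv_apply_self]
    rw [h1, rho_apply]
  refine ⟨?_, ?_, ?_, ?_, ?_, ?_⟩
  · rw [herm_act, h.ee]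
  · rw [herm_act, h.ff]
  · rw [herm_act, h.ef]
  · obtain ⟨a, b, hab⟩ := h.ce
    exact ⟨a, b, by rw [hc, hab, act_add, act_smul, act_smul]⟩
  · obtain ⟨a, b, hab⟩ := h.cf
    exact ⟨a, b, by rw [hc, hab, act_add, act_smul, act_smul]⟩
  · rintro ⟨t, ht⟩
    apply h.ns
    refine ⟨t, fun a b => act_injective s ?_⟩
    have := ht a b
    rwa [← act_smul, ← act_smul, ← act_add, hc, ← act_smul] at this

/-- Coordinates in a frame. -/
def io (hF : Fintype.card F = q ^ 2) (e f : Fin n → F) (x : Fin 2 → Kq hF) : Fin n → F :=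
  (x 0 : F) • e + (x 1 : F) • f

section io

variable {hF : Fintype.card F = q ^ 2} {e f : Fin n → F}

theorem io_add (x y : Fin 2 → Kq hF) : io hF e f (x + y) = io hF e f x + io hF e f y := by
  simp only [io, Pi.add_apply, Subfield.coe_add]
  module

theorem io_smul (a : Kq hF) (x : Fin 2 → Kq hF) : io hF e f (a • x) = (a : F) • io hF e f x := by
  simp only [io, Pi.smul_apply, smul_eq_mul, Subfield.coe_mul]
  module

theorem io_inj (h : LinearIndependent F ![e, f]) : Function.Injective (io hF e f) := by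
  rw [li2_iff] at h
  intro x y hxy
  simp only [io] at hxy
  obtain ⟨h1, h2⟩ := h (x 0 - y 0) (x 1 - y 1) (by
    rw [sub_smul, sub_smul]
    rw [← sub_eq_zero] at hxy
    rw [← hxy]
    module)
  funext i
  fin_cases i
  · exact Subtype.ext (sub_eq_zero.1 h1)
  · exact Subtype.ext (sub_eq_zero.1 h2)

theorem io_semi {ε : F} (hε : ε ≠ 0) (hc : SI q σ c) (h : Fr hF ε c e f) :
    ∃ c0 : Equiv.Perm (Fin 2 → Kq hF), Res (io hF e f) c c0 ∧ Semi (rK hF σ) c0 ∧
      ¬ IsScal (Kq hF) c0 := by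
  have hli := li_of_hyp hF hε h.ee h.ff h.ef
  obtain ⟨a, b, hab⟩ := h.ce
  obtain ⟨a', b', hab'⟩ := h.cf
  obtain ⟨c0, hc0⟩ := exists_res (x := c) (io_inj (hF := hF) hli) (by
    intro x
    refine ⟨![rK hF σ (x 0) * a + rK hF σ (x 1) * a', rK hF σ (x 0) * b + rK hF σ (x 1) * b'], ?_⟩
    simp only [io, hc.semi.add, hc.semi.smul, hab, hab', Matrix.cons_val_zero, Matrix.cons_val_one,
      Subfield.coe_add, Subfield.coe_mul, rK_apply]
    module)
  refine ⟨c0, hc0, ⟨fun x y => io_inj hli ?_, fun t x => io_inj hli ?_⟩, ?_⟩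
  · rw [← hc0, io_add, hc.semi.add, hc0, hc0, io_add]
  · rw [← hc0, io_smul, hc.semi.smul, hc0, io_smul, rK_apply]
  · rintro ⟨t, ht⟩
    apply h.ns
    refine ⟨t, fun x y => ?_⟩
    have h1 := hc0 ![x, y]
    rw [ht, io_smul] at h1
    simpa [io] using h1

end io

theorem up_plane (hF : Fintype.card F = q ^ 2) (hn : 3 ≤ n) (hp : p.Prime) (hp5 : 5 ≤ p)
    (hpF : (p : F) ≠ 0) {ε : F} (hε : ε ≠ 0) (hεq : ε ^ q = -ε) (hc : SI q σ c) (hd : SI q τ d)
    {e f e' f' : Fin n → F} (h : Fr hF ε c e f) (h' : Fr hF ε d e' f')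
    (hcp : IsScal F (c ^ p)) (hdp : IsScal F (d ^ p)) : UP q p c d := by
  have hli := li_of_hyp hF hε h.ee h.ff h.ef
  have hli' := li_of_hyp hF hε h'.ee h'.ff h'.ef
  have hfe : hermForm n F q f e = -ε := by rw [herm_swap hF e f, h.ef, hεq]
  have hfe' : hermForm n F q f' e' = -ε := by rw [herm_swap hF e' f', h'.ef, hεq]
  have key : ∀ {a b a' b' : Fin n → F}, LinearIndependent F ![a, b] →
      LinearIndependent F ![a', b'] → hermForm n F q a a = 0 → hermForm n F q b b = 0 →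
      hermForm n F q a b = ε → hermForm n F q a' a' = 0 → hermForm n F q b' b' = 0 →
      hermForm n F q a' b' = ε → ∃ s : SU n F q, act s a = a' ∧ act s b = b' := by
    intro a b a' b' h1 h2 ha hb hab ha' hb' hab'
    obtain ⟨z, hz, hzb⟩ := exists_z hF h2 (by omega) (e := a') (f := b')
      (Submodule.subset_span ⟨0, rfl⟩) (Submodule.subset_span ⟨1, rfl⟩) ha' (by rwa [hab'])
    obtain ⟨s, hs⟩ := Cfsg.Agent.H77.Witt.exists_su_ext hF ![a, b] ![a', b'] h1 h2 (by
      intro i j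
      fin_cases i <;> fin_cases j
      · exact ha.trans ha'.symm
      · exact hab.trans hab'.symm
      · change hermForm n F q b a = hermForm n F q b' a'
        rw [herm_swap hF a b, herm_swap hF a' b', hab, hab']
      · exact hb.trans hb'.symm) hz hzb
    exact ⟨s, hs 0, hs 1⟩
  -- move the second frame to the first one
  obtain ⟨s, hse, hsf⟩ := key hli' hli h'.ee h'.ff h'.ef h.ee h.ff h.ef
  refine UP.conj_right s ?_
  have hd2 := h'.conj s
  rw [hse, hsf] at hd2
  obtain ⟨c0, hc0, hcs, hcn⟩ := io_semi hε hc h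
  obtain ⟨d0, hd0, hds, hdn⟩ := io_semi hε (hd.conj s) hd2
  refine up_of_mp (K := Kq hF) (fun a => (a : F)) (fun a x => io_smul a x) (io_inj hli) ?_ hp hp5
    (X := Fin 2 → Kq hF) (by rw [Module.finrank_fin_fun]) ?_ hcs hds hc0 hd0 hcp ?_ hcn hdn ?_
  · intro a ha
    obtain ⟨w, hw⟩ := ha ![1, 0]
    refine ⟨w 0, ?_⟩
    rw [li2_iff] at hli
    simp only [io, Matrix.cons_val_zero, Matrix.cons_val_one] at hw
    obtain ⟨h1, -⟩ := hli (w 0 - a) (w 1) (by
      have h2 : a • e = (w 0 : F) • e + (w 1 : F) • f := by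
        rw [← hw]; simp
      rw [sub_smul, h2]
      module)
    exact sub_eq_zero.1 h1
  · intro h0
    apply hpF
    have := congrArg (fun x : Kq hF => (x : F)) h0
    simpa using this
  · obtain ⟨a, ha⟩ := hdp
    refine ⟨a, fun v => ?_⟩
    rw [conj_pow, Equiv.Perm.mul_apply, Equiv.Perm.mul_apply, ha, rho_apply, act_smul,
      ← rho_apply, apply_inv_self]
  · intro g hg
    set M := LinearMap.toMatrix' (g : (Fin 2 → Kq hF) →ₗ[Kq hF] (Fin 2 → Kq hF)) with hM
    have hdet : M 0 0 * M 1 1 - M 0 1 * M 1 0 = 1 := by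
      rw [← Matrix.det_fin_two, hM, LinearMap.det_toMatrix', ← LinearEquiv.coe_det, hg,
        Units.val_one]
    have hdet' : (M 0 0 : F) * M 1 1 - M 0 1 * M 1 0 = 1 := by
      have := congrArg (fun x : Kq hF => (x : F)) hdet
      simpa using this
    have hg1 : ∀ x, g x = ![M 0 0 * x 0 + M 0 1 * x 1, M 1 0 * x 0 + M 1 1 * x 1] := by
      intro x
      have h1 : g x = M.mulVec x := by
        rw [hM, LinearMap.toMatrix'_mulVec]; rfl
      rw [h1]
      funext i
      fin_cases i <;> simp [Matrix.mulVec, dotProduct, Fin.sum_univ_two]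
    have hKq : ∀ x : Kq hF, (x : F) ^ q = x := fun x => x.2
    have e1 : hermForm n F q ((M 0 0 : F) • e + (M 1 0 : F) • f)
        ((M 0 0 : F) • e + (M 1 0 : F) • f) = 0 := by
      simp only [herm_add_left, herm_add_right hF, herm_smul_left, herm_smul_right, h.ee, h.ff,
        h.ef, hfe, hKq]
      ring
    have e2 : hermForm n F q ((M 0 1 : F) • e + (M 1 1 : F) • f)
        ((M 0 1 : F) • e + (M 1 1 : F) • f) = 0 := by
      simp only [herm_add_left, herm_add_right hF, herm_smul_left, herm_smul_right, h.ee, h.ff,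
        h.ef, hfe, hKq]
      ring
    have e3 : hermForm n F q ((M 0 0 : F) • e + (M 1 0 : F) • f)
        ((M 0 1 : F) • e + (M 1 1 : F) • f) = ε := by
      simp only [herm_add_left, herm_add_right hF, herm_smul_left, herm_smul_right, h.ee, h.ff,
        h.ef, hfe, hKq]
      linear_combination ε * hdet'
    obtain ⟨t, ht1, ht2⟩ := key hli (li_of_hyp hF hε e1 e2 e3) h.ee h.ff h.ef e1 e2 e3
    refine ⟨t, fun x => ?_⟩
    rw [io, act_add, act_smul, act_smul, ht1, ht2, hg1, io]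
    simp only [Matrix.cons_val_zero, Matrix.cons_val_one, Subfield.coe_add, Subfield.coe_mul]
    module

end Cfsg.Agent.H957.T5U
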