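import Cfsg.Agent.H957.T5U1
import Mathlib

/-!
# Values of the hermitian form on the cyclic vectors of an isometry (T5, row PSU)

`f` is a linear isometry with `f ^ N = f⁻¹`, `N = q ^ j`, `j` odd, `P` an irreducible polynomial with
non-trivial kernel `ker P(f)`.
-/

set_option autoImplicit false

namespace Cfsg.Agent.H957.T5U

open Cfsg Cfsg.Agent.LieClassical.HermBasic Cfsg.Agent.LieClassical.HermSiegel
open Polynomial

variable {F : Type} [Field F] [Fintype F] {n q : ℕ}

theorem pow_odd (hF : Fintype.card F = q ^ 2) {j : ℕ} (hj : Odd j) (t : F) :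
    t ^ q ^ j = t ^ q := by
  obtain ⟨k, rfl⟩ := hj
  have h1 : ∀ i : ℕ, t ^ q ^ (2 * i) = t := by
    intro i
    induction i with
    | zero => simp
    | succ i ih =>
      rw [Nat.mul_succ, pow_add, pow_mul, ih, ← hF]
      exact FiniteField.pow_card t
  rw [pow_succ, pow_mul, h1]

theorem add_pow_N (hF : Fintype.card F = q ^ 2) {R : Type*} [CommRing R] [Algebra F R]
    (j : ℕ) (x y : R) : (x + y) ^ q ^ j = x ^ q ^ j + y ^ q ^ j := by
  rcases subsingleton_or_nontrivial R with hR | hR
  · exact Subsingleton.elim _ _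
  obtain ⟨p, k, hp, hchar, hk, -⟩ := exists_prime_pow hF
  have := Fact.mk hp
  have : CharP R p := charP_of_injective_algebraMap (algebraMap F R).injective p
  rw [hk, ← pow_mul]
  exact add_pow_char_pow x y p (k * j)

section adj

variable {f : Module.End F (Fin n → F)} {j : ℕ}

omit [Fintype F] in
theorem herm_pow_left (hf : ∀ u v, hermForm n F q (f u) (f v) = hermForm n F q u v)
    (hN : f ^ (q ^ j + 1) = 1) (u v : Fin n → F) (k : ℕ) :
    hermForm n F q ((f ^ k) u) v = hermForm n F q u ((f ^ (k * q ^ j)) v) := by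
  induction k generalizing u v with
  | zero => simp
  | succ k ih =>
    have h1 : ∀ x y, hermForm n F q (f x) y = hermForm n F q x ((f ^ q ^ j) y) := by
      intro x y
      rw [← hf x ((f ^ q ^ j) y)]
      congr 1
      have h2 : f ((f ^ q ^ j) y) = (f ^ (q ^ j + 1)) y := by rw [pow_succ']; rfl
      rw [h2, hN]; rfl
    rw [pow_succ']
    change hermForm n F q (f ((f ^ k) u)) v = _
    rw [h1, ih]
    congr 1
    rw [Nat.succ_mul, pow_add]
    rfl

/-- The adjoint of `a(f)` is `a(f) ^ N`. -/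
theorem herm_aeval (hF : Fintype.card F = q ^ 2) (hj : Odd j)
    (hf : ∀ u v, hermForm n F q (f u) (f v) = hermForm n F q u v)
    (hN : f ^ (q ^ j + 1) = 1) (a : F[X]) (u v : Fin n → F) :
    hermForm n F q (aeval f a u) v = hermForm n F q u (aeval f (a ^ q ^ j) v) := by
  induction a using Polynomial.induction_on' with
  | add a b ha hb =>
    rw [add_pow_N hF j, map_add, map_add, LinearMap.add_apply, LinearMap.add_apply, herm_add_left,
      herm_add_right hF, ha, hb]
  | monomial k t =>
    have h1 : ∀ (s : F) (m : ℕ) (x : Fin n → F), aeval f (C s * X ^ m) x = s • (f ^ m) x := by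
      intro s m x
      rw [map_mul, aeval_C, map_pow, aeval_X, Module.End.mul_apply, Module.algebraMap_end_apply]
    rw [← C_mul_X_pow_eq_monomial, mul_pow, ← C_pow, ← pow_mul, h1, h1, herm_smul_left,
      herm_smul_right, pow_odd hF hj, pow_q_pow_q hF, herm_pow_left hf hN]

theorem herm_aeval' (hF : Fintype.card F = q ^ 2) (hj : Odd j)
    (hf : ∀ u v, hermForm n F q (f u) (f v) = hermForm n F q u v)
    (hN : f ^ (q ^ j + 1) = 1) (a : F[X]) (u v : Fin n → F) :
    hermForm n F q u (aeval f a v) = hermForm n F q (aeval f (a ^ q ^ j) u) v := by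
  rw [herm_swap hF (aeval f a v) u, herm_aeval hF hj hf hN, ← herm_swap hF]

/-- `ker P(f)` contains a non-isotropic vector. -/
theorem exists_aniso (hF : Fintype.card F = q ^ 2) (hj : Odd j)
    (hf : ∀ u v, hermForm n F q (f u) (f v) = hermForm n F q u v)
    (hN : f ^ (q ^ j + 1) = 1) {p : ℕ} (hpF : (p : F) ≠ 0) {l : F} (hl : l ≠ 0)
    (hfp : f ^ p = algebraMap F _ l) {P : F[X]} (hP : P ∣ X ^ p - C l)
    {u : Fin n → F} (hu : u ≠ 0) (hPu : aeval f P u = 0) :
    ∃ w, aeval f P w = 0 ∧ hermForm n F q w w ≠ 0 := by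
  by_contra hcon
  push Not at hcon
  obtain ⟨Q, hQ⟩ := hP
  have hcop : IsCoprime P Q := by
    have h := separable_X_pow_sub_C l hpF hl
    rw [hQ] at h
    exact h.isCoprime
  obtain ⟨A, B, hAB⟩ := hcop
  set U : Submodule F (Fin n → F) := LinearMap.ker (aeval f P) with hU
  have h0 : ∀ x ∈ U, ∀ y ∈ U, hermForm n F q x y = 0 := by
    intro x hx y hy
    by_contra hxy
    obtain ⟨z, hz, hzz⟩ := ClassicalGeometry.HermWitt.exists_apply_self_ne_zero _
      (Cfsg.Agent.H77.Witt.formB hF n)
      (Cfsg.Agent.H77.Witt.conj_ne hF) (Cfsg.Agent.H77.Witt.formB_symm hF) U ⟨y, hy, x, hx, hxy⟩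
    exact hzz (hcon z (LinearMap.mem_ker.1 hz))
  have hPQ : aeval f (P * Q) = 0 := by
    rw [← hQ, map_sub, map_pow, aeval_X, aeval_C, hfp, sub_self]
  apply hu
  apply herm_nondeg hF
  intro x
  apply herm_eq_zero_swap hF
  have hx : x = aeval f (A * P) x + aeval f (B * Q) x := by
    have := congrArg (fun r => aeval f r x) hAB
    simp only [map_add, LinearMap.add_apply, map_one, Module.End.one_apply] at this
    exact this.symm
  have h1 : aeval f (B * Q) x ∈ U := by
    rw [hU, LinearMap.mem_ker, ← Module.End.mul_apply, ← map_mul]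
    rw [show P * (B * Q) = B * (P * Q) by ring, map_mul, hPQ, mul_zero]
    rfl
  have hPN : aeval f (P ^ q ^ j) u = 0 := by
    obtain ⟨m, hm⟩ : ∃ m, q ^ j = m + 1 := Nat.exists_eq_succ_of_ne_zero
      (pow_ne_zero _ (q_pos hF).ne')
    rw [hm, pow_succ, map_mul, Module.End.mul_apply, hPu, map_zero]
  rw [hx, herm_add_left, h0 _ h1 _ hPu, add_zero, mul_comm, map_mul, Module.End.mul_apply,
    herm_aeval hF hj hf hN, hPN, herm_zero_right hF]

end adj

end Cfsg.Agent.H957.T5U
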