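import Cfsg.Agent.ChevalleyStructure.TwE6Basic

/-!
# S5714 [X6]: tables for the long roots of `²E₆`

`FL` : the 24 roots of `E₆` fixed by the graph symmetry, `pr` : their pairing (table), `wf` : the relative simple
reflections, `wd` : how to reach a root from the highest one.
-/

set_option autoImplicit false

namespace Cfsg.Agent.H957.TwE6Lrg

open Cfsg.Lie Cfsg.Agent.ChevalleyStructure.TwE6Basic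

def FL : List ℕ := [0, 1, 2, 6, 8, 11, 18, 20, 24, 25, 27, 32, 39, 44, 46, 47, 51, 53, 60, 63, 65, 69, 70, 71]

def f (a : Fin 24) : ℕ := FL.getD a.val 0

def PT : List (List ℕ) := [[4, 3, 3, 3, 3, 2, 3, 3, 3, 3, 2, 2, 2, 2, 1, 1, 1, 1, 2, 1, 1, 1, 1, 0],
  [3, 4, 3, 3, 2, 3, 3, 2, 2, 1, 3, 3, 1, 1, 3, 2, 2, 1, 1, 2, 1, 1, 0, 1],
  [3, 3, 4, 2, 3, 3, 2, 3, 1, 2, 3, 1, 3, 1, 2, 3, 1, 2, 1, 1, 2, 0, 1, 1],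
  [3, 3, 2, 4, 3, 3, 2, 1, 3, 2, 1, 3, 1, 3, 2, 1, 3, 2, 1, 1, 0, 2, 1, 1],
  [3, 2, 3, 3, 4, 3, 1, 2, 2, 3, 1, 1, 3, 3, 1, 2, 2, 3, 1, 0, 1, 1, 2, 1],
  [2, 3, 3, 3, 3, 4, 1, 1, 1, 1, 2, 2, 2, 2, 3, 3, 3, 3, 0, 1, 1, 1, 1, 2],
  [3, 3, 2, 2, 1, 1, 4, 3, 3, 2, 3, 3, 1, 1, 2, 1, 1, 0, 3, 3, 2, 2, 1, 1],
  [3, 2, 3, 1, 2, 1, 3, 4, 2, 3, 3, 1, 3, 1, 1, 2, 0, 1, 3, 2, 3, 1, 2, 1],
  [3, 2, 1, 3, 2, 1, 3, 2, 4, 3, 1, 3, 1, 3, 1, 0, 2, 1, 3, 2, 1, 3, 2, 1],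
  [3, 1, 2, 2, 3, 1, 2, 3, 3, 4, 1, 1, 3, 3, 0, 1, 1, 2, 3, 1, 2, 2, 3, 1],
  [2, 3, 3, 1, 1, 2, 3, 3, 1, 1, 4, 2, 2, 0, 3, 3, 1, 1, 2, 3, 3, 1, 1, 2],
  [2, 3, 1, 3, 1, 2, 3, 1, 3, 1, 2, 4, 0, 2, 3, 1, 3, 1, 2, 3, 1, 3, 1, 2],
  [2, 1, 3, 1, 3, 2, 1, 3, 1, 3, 2, 0, 4, 2, 1, 3, 1, 3, 2, 1, 3, 1, 3, 2],
  [2, 1, 1, 3, 3, 2, 1, 1, 3, 3, 0, 2, 2, 4, 1, 1, 3, 3, 2, 1, 1, 3, 3, 2],
  [1, 3, 2, 2, 1, 3, 2, 1, 1, 0, 3, 3, 1, 1, 4, 3, 3, 2, 1, 3, 2, 2, 1, 3],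
  [1, 2, 3, 1, 2, 3, 1, 2, 0, 1, 3, 1, 3, 1, 3, 4, 2, 3, 1, 2, 3, 1, 2, 3],
  [1, 2, 1, 3, 2, 3, 1, 0, 2, 1, 1, 3, 1, 3, 3, 2, 4, 3, 1, 2, 1, 3, 2, 3],
  [1, 1, 2, 2, 3, 3, 0, 1, 1, 2, 1, 1, 3, 3, 2, 3, 3, 4, 1, 1, 2, 2, 3, 3],
  [2, 1, 1, 1, 1, 0, 3, 3, 3, 3, 2, 2, 2, 2, 1, 1, 1, 1, 4, 3, 3, 3, 3, 2],
  [1, 2, 1, 1, 0, 1, 3, 2, 2, 1, 3, 3, 1, 1, 3, 2, 2, 1, 3, 4, 3, 3, 2, 3],
  [1, 1, 2, 0, 1, 1, 2, 3, 1, 2, 3, 1, 3, 1, 2, 3, 1, 2, 3, 3, 4, 2, 3, 3],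
  [1, 1, 0, 2, 1, 1, 2, 1, 3, 2, 1, 3, 1, 3, 2, 1, 3, 2, 3, 3, 2, 4, 3, 3],
  [1, 0, 1, 1, 2, 1, 1, 2, 2, 3, 1, 1, 3, 3, 1, 2, 2, 3, 3, 2, 3, 3, 4, 3],
  [0, 1, 1, 1, 1, 2, 1, 1, 1, 1, 2, 2, 2, 2, 3, 3, 3, 3, 2, 3, 3, 3, 3, 4]]

def pt (a b : ℕ) : ℕ := (PT.getD a []).getD b 0

/-- the pairing -/
def pr (a b : Fin 24) : ℤ := (pt a.val b.val : ℤ) - 2

def WT : List (List ℕ) := [[1, 0, 2, 3, 5, 4, 6, 10, 11, 14, 7, 8, 15, 16, 9, 12, 13, 17, 19, 18, 20, 21, 23, 22],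
  [0, 2, 1, 4, 3, 5, 7, 6, 9, 8, 10, 12, 11, 13, 15, 14, 17, 16, 18, 20, 19, 22, 21, 23],
  [0, 1, 3, 2, 4, 5, 6, 8, 7, 9, 11, 10, 13, 12, 14, 16, 15, 17, 18, 19, 21, 20, 22, 23],
  [0, 1, 2, 6, 7, 10, 3, 4, 8, 9, 5, 11, 12, 18, 14, 15, 19, 20, 13, 16, 17, 21, 22, 23]]

def wf (i : Fin 4) (a : Fin 24) : Fin 24 := Fin.ofNat 24 ((WT.getD i.val []).getD a.val 0)

def wd : List (List (Fin 4)) := [[0, 1, 2, 3, 1, 2, 0, 1, 2, 3, 0, 1, 2, 1, 0],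
  [1, 2, 3, 1, 2, 0, 1, 2, 3, 0, 1, 2, 1, 0],
  [2, 3, 1, 2, 0, 1, 2, 3, 0, 1, 2, 1, 0],
  [3, 1, 2, 0, 1, 2, 3, 0, 1, 2, 1, 0],
  [3, 2, 0, 1, 2, 3, 0, 1, 2, 1, 0],
  [3, 2, 1, 2, 3, 0, 1, 2, 1, 0],
  [1, 2, 0, 1, 2, 3, 0, 1, 2, 1, 0],
  [2, 0, 1, 2, 3, 0, 1, 2, 1, 0],
  [0, 1, 2, 3, 0, 1, 2, 1, 0],
  [0, 1, 2, 3, 1, 2, 1, 0],
  [2, 1, 2, 3, 0, 1, 2, 1, 0],
  [1, 2, 3, 0, 1, 2, 1, 0],
  [2, 3, 0, 1, 2, 1, 0],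
  [3, 0, 1, 2, 1, 0],
  [1, 2, 3, 1, 2, 1, 0],
  [2, 3, 1, 2, 1, 0],
  [3, 1, 2, 1, 0],
  [3, 2, 1, 0],
  [0, 1, 2, 1, 0],
  [1, 2, 1, 0],
  [2, 1, 0],
  [1, 0],
  [0],
  []]

theorem f_lt : ∀ a : Fin 24, f a < 72 := by decide +kernel

theorem f_inj : ∀ a b : Fin 24, f a = f b → a = b := by decide +kernel

theorem f_rho : ∀ a : Fin 24, rho ⟨f a, f_lt a⟩ = ⟨f a, f_lt a⟩ := by decide +kernel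

theorem f_eps : ∀ a : Fin 24, epsE ⟨f a, f_lt a⟩ = 1 := by decide +kernel

theorem exists_f : ∀ r : Fin 72, rho r = r → ∃ a : Fin 24, f a = r.val := by decide +kernel

theorem f_wf : ∀ (i : Fin 4) (a : Fin 24), f (wf i a) = wp i (f a) := by decide +kernel

theorem wd_check : ∀ a : Fin 24, (wd.getD a.val []).foldr wf 23 = a := by decide +kernel

theorem wd_check' : [1, 2, 3, 1, 2, 1, 0].reverse.foldr wf 14 = 23 := by decide +kernel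

theorem f_base : f 14 = 46 ∧ f 23 = 71 ∧ f 0 = 0 := by decide +kernel

theorem pr_self : ∀ a : Fin 24, pr a a = 2 := by decide +kernel

theorem pr_symm : ∀ a b : Fin 24, pr a b = pr b a := by decide +kernel

theorem pr_cases : ∀ a b : Fin 24, a = b ∨ pr a b = 1 ∨ pr a b = 0 ∨ pr a b = -1 ∨ pr a b = -2 := by decide +kernel

theorem comm_check : ∀ a b : Fin 24, a = b ∨ pr a b < 0 ∨
    (f b ≠ chevE6.neg (f a) ∧ chevE6.commTerms (f a) (f b) = []) := by decide +kernel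

/-- the root `a + b` -/
def cfOK (a b : Fin 24) : Bool :=
  decide (f a ≠ chevE6.neg (f b)) &&
    match chevE6.commTerms (f b) (f a) with
    | [(c, C, 1, 1)] => (decide (C = 1) || decide (C = -1)) &&
        (List.finRange 24).any fun d => decide (f d = c) && decide (pr a d = 1) && decide (pr d b = 1)
    | _ => false

theorem cf_check : ∀ a b : Fin 24, pr a b ≠ -1 ∨ cfOK a b = true := by decide +kernel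

theorem sub_check : ∀ a b : Fin 24, pr a b ≠ 1 ∨ ∃ c : Fin 24, pr c b = -1 ∧
    (chevE6.commTerms (f b) (f c)).map Prod.fst = [f a] := by decide +kernel

theorem ort_check : ∀ a b : Fin 24, pr a b ≠ 0 ∨ ∃ d : Fin 24, pr a d = 1 ∧ pr d b = 1 := by decide +kernel

theorem opp_check : ∀ a b : Fin 24, pr a b ≠ -2 ∨ ∃ d e : Fin 24, pr a d = 1 ∧ pr d e = 1 ∧ pr e b = 1 := by
  decide +kernel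

theorem lev0_check : ∀ a b : Fin 24, (pr a b ≠ 0 ∧ pr a b ≠ -2) ∨ ∃ d : Fin 24, pr a d = -1 ∧ 0 ≤ pr d b := by
  decide +kernel

theorem lev1_check : ∀ a : Fin 24, ∃ d : Fin 24, pr a d = -1 := by decide +kernel

/-- the highest root commutes with the positive roots -/
theorem top_comm : ∀ r : Fin 72, 36 ≤ r.val → r.val = 71 ∨ (r.val ≠ chevE6.neg 71 ∧ chevE6.commTerms 71 r.val = []) := by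
  decide +kernel

end Cfsg.Agent.H957.TwE6Lrg
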