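import Cfsg.Agent.H957.TwoNeg2
import Cfsg.Agent.H957.Bridge

/-!
# `r = 2`, odd characteristic, minus type: totally singular `m`-spaces
-/

set_option autoImplicit false

namespace Cfsg.Agent.H957.TwoNeg

open Module QuadraticMap Matrix Cfsg.Agent.LieClassical.OrthCore Cfsg.Agent.H955 Cfsg.Agent.H954.TSing
  Cfsg.Agent.H957
open Cfsg.Agent.ClassicalGeometry.SpinorSign
open scoped MatrixGroups

universe u

variable {ι : Type} [Fintype ι] [DecidableEq ι] {F : Type u} [Field F] [Fintype F] {Q : QuadraticForm F (ι → F)}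

omit [Fintype F] in
theorem eOf_mem_O {x : GL ι F} (hx : x ∈ Cfsg.isometryGroup F (⇑Q)) : eOf x ∈ O Q :=
  fun v => (mem_isometryGroup.1 hx) v

/-- elements with square `-1` are not in `Ω` if `q ≡ 3` mod 8, minus type. -/
theorem not_mem_omegaGL (h2 : (2 : F) ≠ 0) (hns : ¬ IsSquare (-1 : F)) (hns2 : ¬ IsSquare (2 : F)) (hQ : Nondeg Q)
    {d : ℕ} (hd0 : 1 ≤ d) (hd : finrank F (ι → F) = 2 * d) (hodd : Odd d) (hq8 : Fintype.card F % 8 = 3)
    (hP : ¬ IsPlus Q) {x : GL ι F}
    (hTT : ∀ v, (x : Matrix ι ι F) *ᵥ ((x : Matrix ι ι F) *ᵥ v) = -v) : x ∉ Cfsg.Geo.omegaGL (⇑Q) := by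
  classical
  intro hx
  obtain ⟨hxI, hxO⟩ := mem_omegaGL.1 hx
  have hcard : 2 ≤ Fintype.card ι := by
    rw [Module.finrank_fintype_fun_eq_card] at hd; omega
  rw [ClassicalGeometry.OmegaIndex.mem_Omega_iff h2 Q (nondeg_iff.1 hQ) hcard one_ne_zero] at hxO
  have hfin : Fintype {x : ι → F // Q x = 1} := Fintype.ofFinite _
  have h1 := hxO.2
  rw [spinorSign_apply] at h1
  have hN := card_quadric h2 hns hns2 hQ hd0 hd hP (eOf_mem_O hxI) (fun v => hTT v)
  have hσ : ∀ y : {x : ι → F // Q x = 1},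
      ((quadricPerm (⇑Q) (1 : F) ⟨x, hxI⟩ (quadricPerm (⇑Q) (1 : F) ⟨x, hxI⟩ y) : {x : ι → F // Q x = 1}) : ι → F) =
        -(y : ι → F) := fun y => by
    rw [coe_quadricPerm, coe_quadricPerm]
    exact hTT y
  obtain ⟨h4, hs⟩ := sign_of_free_four (quadricPerm (⇑Q) (1 : F) ⟨x, hxI⟩) (fun y => by
    apply Subtype.ext
    rw [hσ, hσ, neg_neg]) (fun y hy => by
    have h3 := congrArg Subtype.val hy
    rw [hσ] at h3
    have h5 : (2 : F) • (y : ι → F) = 0 := by
      rw [two_smul]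
      nth_rewrite 1 [← h3]
      rw [neg_add_cancel]
    have h6 : (y : ι → F) = 0 := (smul_eq_zero.1 h5).resolve_left h2
    have h7 := y.2
    rw [h6, map_zero] at h7
    exact zero_ne_one h7)
  rw [hs] at h1
  rw [Nat.card_eq_fintype_card] at hN
  -- parity
  have h8 : Fintype.card {x : ι → F // Q x = 1} % 8 = 4 := by
    rw [hN]
    obtain ⟨k, rfl⟩ := hodd
    have h9 : ∀ j : ℕ, (Fintype.card F ^ (2 * j)) % 8 = 1 := by
      intro j
      rw [pow_mul, Nat.pow_mod, Nat.pow_mod (Fintype.card F), hq8]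
      norm_num
    have h10 : (Fintype.card F ^ (2 * k + 1)) % 8 = 3 := by
      rw [pow_succ, Nat.mul_mod, h9, hq8]
    rw [Nat.add_sub_cancel, Nat.mul_mod, h9, Nat.add_mod, h10]
  have h9 : Odd (Fintype.card {x : ι → F // Q x = 1} / 4) := by
    rw [Nat.odd_iff]
    omega
  rw [h9.neg_one_pow] at h1
  exact absurd h1 (by decide)

omit [Fintype F] in
/-- squares are in `Ω` -/
theorem sq_mem_omegaGL (hQ : Nondeg Q) (h : Nat.card F ≠ 2 ∨ Fintype.card ι ≠ 4) {y : GL ι F}
    (hy : y ∈ Cfsg.isometryGroup F (⇑Q)) : y ^ 2 ∈ Cfsg.Geo.omegaGL (⇑Q) := by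
  rw [mem_omegaGL]
  refine ⟨(Cfsg.isometryGroup F (⇑Q)).pow_mem hy 2, ?_⟩
  have h1 := sq_mem_commutator (ClassicalGeometry.GenReflections.closure_refls_eq_top Q (nondeg_iff.1 hQ) h) (by
    rintro s ⟨v, hv, hs⟩
    have : s = ClassicalGeometry.Reflection.reflIso Q v hv := Subtype.ext (Units.ext hs)
    rw [this, pow_two]
    exact ClassicalGeometry.Reflection.reflIso_mul_self Q v hv) (⟨y, hy⟩ : Cfsg.isometryGroup F (⇑Q))
  exact h1

/-- **`r = 2`, odd characteristic, minus type.** -/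
theorem two_minus (h2 : (2 : F) ≠ 0) (hQ : Nondeg Q) {d m : ℕ} (hd : finrank F (ι → F) = 2 * d) (hd4 : 4 ≤ d)
    (hP : ¬ IsPlus Q) (hm : m + 1 ≤ d) :
    (∀ x : GL ι F, x ∈ Cfsg.Geo.omegaGL ⇑Q →
      (∃ z : F, ((x ^ 2 : GL ι F) : Matrix ι ι F) = z • (1 : Matrix ι ι F)) →
      (∀ z : F, (x : Matrix ι ι F) ≠ z • (1 : Matrix ι ι F)) →
      ∃ W : Submodule F (ι → F), (finrank F W = m ∧ ∀ w ∈ W, Q w = 0) ∧
        W.map (Matrix.toLin' (x : Matrix ι ι F)) ≤ W) ↔
    (Even d ∨ Even m ∨ Fintype.card F % 8 ≠ 7) := by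
  classical
  have hcardι : Fintype.card ι = 2 * d := by
    rw [← hd, Module.finrank_fintype_fun_eq_card]
  have hne4 : Nat.card F ≠ 2 ∨ Fintype.card ι ≠ 4 := Or.inr (by omega)
  constructor
  · intro H
    by_contra hcon
    push Not at hcon
    obtain ⟨hdo, hmo, hq7⟩ := hcon
    rw [Nat.not_even_iff_odd] at hdo hmo
    have hns : ¬ IsSquare (-1 : F) := by
      rw [FiniteField.isSquare_neg_one_iff]
      omega
    obtain ⟨t, ht⟩ : IsSquare (2 : F) := by
      rw [FiniteField.isSquare_two_iff]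
      omega
    have ht0 : t ≠ 0 := by
      rintro rfl
      rw [mul_zero] at ht
      exact h2 ht
    obtain ⟨T, hT, hTT⟩ := exists_sq_neg hns hQ hd (iff_of_false hP (Nat.not_even_iff_odd.2 hdo))
    -- the square root of `T`
    let y : (ι → F) ≃ₗ[F] (ι → F) := LinearEquiv.ofLinearMap
      (t⁻¹ • ((1 : Module.End F (ι → F)) + (T : Module.End F (ι → F))))
      (t⁻¹ • ((1 : Module.End F (ι → F)) - (T : Module.End F (ι → F))))
      (by
        refine LinearMap.ext fun v => ?_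
        show t⁻¹ • (t⁻¹ • (v - T v) + T (t⁻¹ • (v - T v))) = v
        rw [map_smul, map_sub, hTT, ← smul_add, smul_smul]
        have h3 : v - T v + (T v - -v) = (2 : F) • v := by rw [two_smul]; abel
        rw [h3, smul_smul, ht]
        have : t⁻¹ * t⁻¹ * (t * t) = 1 := by field_simp
        rw [this, one_smul])
      (by
        refine LinearMap.ext fun v => ?_
        show t⁻¹ • (t⁻¹ • (v + T v) - T (t⁻¹ • (v + T v))) = v
        rw [map_smul, map_add, hTT, ← smul_sub, smul_smul]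
        have h3 : v + T v - (T v + -v) = (2 : F) • v := by rw [two_smul]; abel
        rw [h3, smul_smul, ht]
        have : t⁻¹ * t⁻¹ * (t * t) = 1 := by field_simp
        rw [this, one_smul])
    have hy : ∀ v, y v = t⁻¹ • (v + T v) := fun v => rfl
    have hyQ : ∀ v, Q (y v) = Q v := by
      intro v
      rw [hy, QuadraticMap.map_smul, Q_one_add h2 hT hTT, smul_eq_mul, ht]
      field_simp
    have hyy : ∀ v, y (y v) = T v := by
      intro v
      rw [hy, hy, map_smul, map_add, hTT, ← smul_add, smul_smul]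
      have h3 : v + T v + (T v + -v) = (2 : F) • T v := by rw [two_smul]; abel
      rw [h3, smul_smul, ht]
      have : t⁻¹ * t⁻¹ * (t * t) = 1 := by field_simp
      rw [this, one_smul]
    have hyI : glOf y ∈ Cfsg.isometryGroup F (⇑Q) := by
      rw [mem_isometryGroup]
      intro v
      rw [glOf_mulVec]; exact hyQ v
    have hxO := sq_mem_omegaGL hQ hne4 hyI
    have hxT : ∀ v, (((glOf y) ^ 2 : GL ι F) : Matrix ι ι F) *ᵥ v = T v := by
      intro v
      rw [pow_two, Units.val_mul, ← Matrix.mulVec_mulVec, glOf_mulVec, glOf_mulVec, hyy]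
    obtain ⟨v₀, hv₀⟩ : ∃ v, Q v ≠ 0 := by
      by_contra hcon
      push Not at hcon
      apply hP
      exact isPlus_of_le hQ (U := ⊤) (fun u _ => hcon u) (by rw [finrank_top]; omega)
    have hv₀' : v₀ ≠ 0 := by rintro rfl; exact hv₀ (map_zero Q)
    obtain ⟨W, ⟨hWd, hWs⟩, hW⟩ := H _ hxO ⟨-1, by
      apply Matrix.ext_of_mulVec_single
      intro i
      rw [pow_two, Units.val_mul, ← Matrix.mulVec_mulVec, hxT, hxT, hTT, Matrix.smul_mulVec, Matrix.one_mulVec,
        neg_smul, one_smul]⟩ (by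
      intro z hz
      have h3 : ∀ v, T v = z • v := fun v => by
        rw [← hxT, hz, Matrix.smul_mulVec, Matrix.one_mulVec]
      have h4 := hTT v₀
      rw [h3, h3, smul_smul] at h4
      have h5 : (z * z + 1) • v₀ = 0 := by rw [add_smul, h4, one_smul, neg_add_cancel]
      apply hns
      refine ⟨z, ?_⟩
      linear_combination -((smul_eq_zero.1 h5).resolve_right hv₀'))
    have hW' : ∀ w ∈ W, T w ∈ W := by
      intro w hw
      rw [← hxT w, ← Matrix.toLin'_apply]
      exact hW (Submodule.mem_map_of_mem hw)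
    have h5 := even_finrank_of_sq_neg hns hTT hW'
    rw [hWd] at h5
    exact (Nat.not_even_iff_odd.2 hmo) h5
  · rintro hcrit x hx ⟨z, hz⟩ -
    obtain ⟨hxI, -⟩ := mem_omegaGL.1 hx
    have hT : eOf x ∈ O Q := eOf_mem_O hxI
    have hxx : ∀ v, eOf x (eOf x v) = z • v := by
      intro v
      rw [eOf_apply, eOf_apply, Matrix.mulVec_mulVec, ← pow_two, ← Units.val_pow_eq_pow_val, hz, Matrix.smul_mulVec,
        Matrix.one_mulVec]
    obtain ⟨v₀, hv₀⟩ : ∃ v, Q v ≠ 0 := by
      by_contra hcon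
      push Not at hcon
      apply hP
      exact isPlus_of_le hQ (U := ⊤) (fun u _ => hcon u) (by rw [finrank_top]; omega)
    have hzz : z * z = 1 := by
      have h1 : Q (eOf x (eOf x v₀)) = Q v₀ := by rw [hT, hT]
      rw [hxx, QuadraticMap.map_smul, smul_eq_mul] at h1
      exact mul_right_cancel₀ hv₀ (by rw [h1, one_mul])
    have hfin : ∀ W : Submodule F (ι → F), (∀ w ∈ W, eOf x w ∈ W) → W.map (Matrix.toLin' (x : Matrix ι ι F)) ≤ W := by
      rintro W hW _ ⟨w, hw, rfl⟩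
      exact hW w hw
    rcases mul_self_eq_one_iff.1 hzz with hz1 | hz1
    · obtain ⟨W, hWd, hWs, hW⟩ := exists_ts_invol_minus h2 hQ hd hP hm hT (fun v => by rw [hxx, hz1, one_smul])
      exact ⟨W, ⟨hWd, hWs⟩, hfin W hW⟩
    · have hTT : ∀ v, eOf x (eOf x v) = -v := fun v => by rw [hxx, hz1, neg_smul, one_smul]
      have hns : ¬ IsSquare (-1 : F) := fun h => hP (isPlus_of_isSquare h2 h hQ hT hTT)
      have hdo : ¬ Even d := fun h => hP (isPlus_iff_of_sq_neg h2 hns hQ hd hT hTT h)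
      have hs2 : IsSquare (2 : F) := by
        by_contra hns2
        have hq8 : Fintype.card F % 8 = 3 := by
          have h3 := hns2
          rw [FiniteField.isSquare_two_iff] at h3
          have h4 := hns
          rw [FiniteField.isSquare_neg_one_iff] at h4
          omega
        exact not_mem_omegaGL h2 hns hns2 hQ (by omega) hd (Nat.not_even_iff_odd.1 hdo) hq8 hP hTT hx
      have hq7 : ¬ Fintype.card F % 8 ≠ 7 := by
        rw [FiniteField.isSquare_two_iff] at hs2
        rw [FiniteField.isSquare_neg_one_iff] at hns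
        omega
      obtain ⟨j, hj⟩ : Even m := (hcrit.resolve_left hdo).resolve_right hq7
      obtain ⟨W, hW, hWs, hWd⟩ := exists_ts_neg h2 hQ hT hTT
      obtain ⟨U, hUW, hU, hUd⟩ := exists_inv_sub hns hTT hW j (by omega)
      exact ⟨U, ⟨by omega, fun w hw => hWs w (hUW hw)⟩, hfin U hU⟩

end Cfsg.Agent.H957.TwoNeg
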